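import Mathlib
import Cfsg.Agent.Lib.RadicalBound.Basic

/-! Isotypic decomposition for an abelian subgroup and the elements normalising it. -/

set_option autoImplicit false

namespace CfsgLib.OrthDeg

open CfsgLib.RadicalBound

variable {G : Type*} [Group G] {V : Type*} [AddCommGroup V] [Fintype V] {k : ℕ}
  (f : V → G) (ρ : Representation ℂ G (Fin k → ℂ))

/-- The dimension of an isotypic part. -/
noncomputable def mult (χ : AddChar V ℂ) : ℕ := Module.finrank ℂ (LinearMap.range (proj f ρ χ))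

variable (hf : ∀ S T, f (S + T) = f S * f T)
include hf

theorem proj_mul [DecidableEq (AddChar V ℂ)] (χ χ' : AddChar V ℂ) :
    proj f ρ χ * proj f ρ χ' = if χ = χ' then proj f ρ χ' else 0 := by
  refine LinearMap.ext fun x => ?_
  rw [Module.End.mul_apply, proj_eigen f ρ χ χ' (fun S => LinearMap.congr_fun (eig_proj f hf ρ χ' S) x)]
  split_ifs <;> rfl

theorem idem (χ : AddChar V ℂ) : IsIdempotentElem (proj f ρ χ) := by
  classical
  show proj f ρ χ * proj f ρ χ = proj f ρ χ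
  rw [proj_mul f ρ hf, if_pos rfl]

theorem trace_proj (χ : AddChar V ℂ) : LinearMap.trace ℂ (Fin k → ℂ) (proj f ρ χ) = (mult f ρ χ : ℂ) :=
  (LinearMap.IsIdempotentElem.isProj_range _ (idem f ρ hf χ)).trace

theorem sum_proj : ∑ χ, proj f ρ χ = 1 := by
  classical
  simp only [proj, ← Finset.smul_sum]
  rw [Finset.sum_comm]
  simp only [← Finset.sum_smul]
  rw [Finset.sum_eq_single (0 : V) (fun S _ hS => ?_) (by simp)]
  · have h0 : f 0 = 1 := by
      have := hf 0 0
      rwa [add_zero, left_eq_mul] at this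
    rw [h0, map_one, neg_zero, smul_smul]
    simp only [AddChar.map_zero_eq_one, Finset.sum_const, Finset.card_univ, nsmul_eq_mul, mul_one]
    rw [AddChar.card_eq, inv_mul_cancel₀ (Nat.cast_ne_zero.2 Fintype.card_ne_zero), one_smul]
  · rw [AddChar.sum_apply_eq_zero_iff_ne_zero.2 (neg_ne_zero.2 hS), zero_smul]

theorem sum_mult : ∑ χ, mult f ρ χ = k := by
  apply Nat.cast_injective (R := ℂ)
  rw [Nat.cast_sum, ← Finset.sum_congr rfl fun χ _ => trace_proj f ρ hf χ, ← map_sum, sum_proj f ρ hf,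
    LinearMap.trace_one, Module.finrank_fintype_fun_eq_card, Fintype.card_fin]

theorem rho_eq (S : V) : ρ (f S) = ∑ χ : AddChar V ℂ, χ S • proj f ρ χ := by
  rw [← mul_one (ρ (f S)), ← sum_proj f ρ hf, Finset.mul_sum]
  exact Finset.sum_congr rfl fun χ _ => eig_proj f hf ρ χ S

theorem trace_rho (S : V) :
    LinearMap.trace ℂ (Fin k → ℂ) (ρ (f S)) = ∑ χ : AddChar V ℂ, χ S * (mult f ρ χ : ℂ) := by
  rw [rho_eq f ρ hf S, map_sum]
  exact Finset.sum_congr rfl fun χ _ => by rw [map_smul, trace_proj f ρ hf, smul_eq_mul]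

omit hf in
/-- Normalising elements permute the projections. -/
theorem proj_conj (g : G) (c : V ≃+ V) (hc : ∀ S, g * f S = f (c S) * g) (χ χ' : AddChar V ℂ)
    (hχ : ∀ S, χ' (c S) = χ S) : ρ g * proj f ρ χ = proj f ρ χ' * ρ g := by
  simp only [proj, mul_smul_comm, smul_mul_assoc, Finset.mul_sum, Finset.sum_mul]
  congr 1
  refine Fintype.sum_equiv c.toEquiv _ _ fun S => ?_
  show _ = χ' (-(c S)) • (ρ (f (c S)) * ρ g)
  rw [← map_mul, ← map_mul, hc, ← map_neg c, hχ]

theorem mult_conj (g : G) (c : V ≃+ V) (hc : ∀ S, g * f S = f (c S) * g) (χ χ' : AddChar V ℂ)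
    (hχ : ∀ S, χ' (c S) = χ S) : mult f ρ χ = mult f ρ χ' := by
  have e := proj_conj f ρ g c hc χ χ' hχ
  apply Nat.cast_injective (R := ℂ)
  rw [← trace_proj f ρ hf, ← trace_proj f ρ hf]
  have hinv : ρ g⁻¹ * ρ g = 1 := by rw [← map_mul, inv_mul_cancel, map_one]
  have hinv' : ρ g * ρ g⁻¹ = 1 := by rw [← map_mul, mul_inv_cancel, map_one]
  calc LinearMap.trace ℂ _ (proj f ρ χ)
      = LinearMap.trace ℂ _ (ρ g⁻¹ * (ρ g * proj f ρ χ)) := by rw [← mul_assoc, hinv, one_mul]
    _ = LinearMap.trace ℂ _ (proj f ρ χ' * ρ g * ρ g⁻¹) := by rw [e, LinearMap.trace_mul_comm]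
    _ = _ := by rw [mul_assoc, hinv', mul_one]

theorem proj_comm (g : G) (c : V ≃+ V) (hc : ∀ S, g * f S = f (c S) * g) (χ : AddChar V ℂ)
    (hχ : ∀ S, χ (c S) = χ S) : ρ g * proj f ρ χ = proj f ρ χ * ρ g :=
  proj_conj f ρ g c hc χ χ hχ

/-- On a one-dimensional part a stabilising element is a scalar. -/
theorem exists_scalar (g : G) (c : V ≃+ V) (hc : ∀ S, g * f S = f (c S) * g) (χ : AddChar V ℂ)
    (hχ : ∀ S, χ (c S) = χ S) (h1 : mult f ρ χ = 1) : ∃ a : ℂ, ρ g * proj f ρ χ = a • proj f ρ χ := by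
  have e := proj_comm f ρ hf g c hc χ hχ
  have hrange : ∀ x, ρ g (proj f ρ χ x) ∈ LinearMap.range (proj f ρ χ) := fun x => by
    rw [← Module.End.mul_apply, e, Module.End.mul_apply]
    exact LinearMap.mem_range_self _ _
  obtain ⟨w, hw0, hw⟩ := finrank_eq_one_iff'.1 h1
  obtain ⟨y, hy⟩ := w.2
  obtain ⟨a, ha⟩ := hw ⟨_, hrange y⟩
  refine ⟨a, LinearMap.ext fun x => ?_⟩
  obtain ⟨b, hb⟩ := hw ⟨_, LinearMap.mem_range_self (proj f ρ χ) x⟩
  have ha' : a • (w : Fin k → ℂ) = ρ g w := by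
    rw [← hy]; have := congrArg Subtype.val ha; simpa [hy] using this
  have hb' : b • (w : Fin k → ℂ) = proj f ρ χ x := congrArg Subtype.val hb
  rw [Module.End.mul_apply, LinearMap.smul_apply, ← hb', map_smul, ← ha', smul_comm]

/-- If a family is scaled by a stabilising element, it fixes the one-dimensional part. -/
theorem fix_of_scaled {T : Type*} [AddCommGroup T] (x : T → G) (hx : ∀ s t, x (s + t) = x s * x t)
    (σ : T → T) (hσ : Function.Surjective fun t => σ t - t) (c : T → V ≃+ V)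
    (hc : ∀ t S, x t * f S = f (c t S) * x t) (h : G) (d : V ≃+ V) (hd : ∀ S, h * f S = f (d S) * h)
    (hh : ∀ t, h * x t = x (σ t) * h) (χ : AddChar V ℂ) (hcχ : ∀ t S, χ (c t S) = χ S)
    (hdχ : ∀ S, χ (d S) = χ S) (h1 : mult f ρ χ = 1) (t : T) :
    ρ (x t) * proj f ρ χ = proj f ρ χ := by
  choose a ha using fun t => exists_scalar f ρ hf (x t) (c t) (hc t) χ (hcχ t) h1
  obtain ⟨b, hb⟩ := exists_scalar f ρ hf h d hd χ hdχ h1
  have hp0 : proj f ρ χ ≠ 0 := fun h0 => by
    rw [mult, h0, LinearMap.range_zero, finrank_bot] at h1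
    exact zero_ne_one h1
  have hinj : ∀ p r : ℂ, p • proj f ρ χ = r • proj f ρ χ → p = r := fun p r e =>
    smul_left_injective ℂ hp0 e
  have hmul : ∀ s t, a (s + t) = a s * a t := fun s t => hinj _ _ (by
    rw [← ha, hx, map_mul, mul_assoc, ha, mul_smul_comm, ha, smul_smul, mul_comm])
  have hb0 : b ≠ 0 := fun h0 => hp0 (by
    have : ρ h⁻¹ * (ρ h * proj f ρ χ) = proj f ρ χ := by
      rw [← mul_assoc, ← map_mul, inv_mul_cancel, map_one, one_mul]
    rw [← this, hb, h0, zero_smul, mul_zero])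
  have hconj : ∀ t, a (σ t) = a t := fun t => by
    have e : (b * a t) • proj f ρ χ = (b * a (σ t)) • proj f ρ χ := by
      calc (b * a t) • proj f ρ χ = a t • (ρ h * proj f ρ χ) := by rw [hb, smul_smul, mul_comm]
        _ = ρ (h * x t) * proj f ρ χ := by rw [map_mul, mul_assoc, ha, mul_smul_comm]
        _ = ρ (x (σ t)) * (ρ h * proj f ρ χ) := by rw [hh, map_mul, mul_assoc]
        _ = _ := by rw [hb, mul_smul_comm, ha, smul_smul]
    exact (mul_left_cancel₀ hb0 (hinj _ _ e)).symm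
  obtain ⟨s, hs⟩ := hσ t
  have hs1 : a (σ s) = a (σ s - s) * a s := by rw [← hmul, sub_add_cancel]
  have has0 : a s ≠ 0 := fun h0 => hp0 (by
    have : ρ (x s)⁻¹ * (ρ (x s) * proj f ρ χ) = proj f ρ χ := by
      rw [← mul_assoc, ← map_mul, inv_mul_cancel, map_one, one_mul]
    rw [← this, ha, h0, zero_smul, mul_zero])
  rw [hconj, show σ s - s = t from hs] at hs1
  rw [ha, mul_right_cancel₀ has0 (by rw [one_mul]; exact hs1.symm : a t * a s = 1 * a s), one_smul]

end CfsgLib.OrthDeg
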