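import Mathlib
import Cfsg.Agent.Lib.SLMin.Basic

/-! Alternating matrices under congruence: normal forms, decomposable forms and counts. -/

set_option autoImplicit false

namespace CfsgLib.OrthDeg

open Matrix CfsgLib.SLMin

variable {F : Type*} [Field F] {n : ℕ}

/-- Alternating matrices. -/
def Alt (F : Type*) [Field F] (n : ℕ) : Submodule F (Matrix (Fin n) (Fin n) F) where
  carrier := {A | (∀ i, A i i = 0) ∧ ∀ i j, A i j = -A j i}
  add_mem' := fun {A B} hA hB => ⟨fun i => by simp [hA.1 i, hB.1 i],
    fun i j => by simp [hA.2 i j, hB.2 i j, add_comm]⟩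
  zero_mem' := ⟨fun i => rfl, fun i j => by simp⟩
  smul_mem' := fun c A hA => ⟨fun i => by simp [hA.1 i], fun i j => by simp [hA.2 i j]⟩

theorem alt_diag (A : Alt F n) (i : Fin n) : A.1 i i = 0 := A.2.1 i

theorem alt_skew (A : Alt F n) (i j : Fin n) : A.1 i j = -A.1 j i := A.2.2 i j

theorem sum_split (M : Matrix (Fin n) (Fin n) F) (B : Alt F n) :
    ∑ i, ∑ j, M i j * B.1 i j = ∑ i, ∑ j, if i < j then (M i j - M j i) * B.1 i j else 0 := by
  have h1 : ∀ i j, M i j * B.1 i j =
      (if i < j then M i j * B.1 i j else 0) + (if j < i then M i j * B.1 i j else 0) := fun i j => by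
    rcases lt_trichotomy i j with h | h | h
    · rw [if_pos h, if_neg (lt_asymm h), add_zero]
    · subst h; simp [alt_diag B i]
    · rw [if_neg (lt_asymm h), if_pos h, zero_add]
  rw [Finset.sum_congr rfl fun i _ => Finset.sum_congr rfl fun j _ => h1 i j]
  simp only [Finset.sum_add_distrib]
  rw [Finset.sum_comm (f := fun i j => if j < i then M i j * B.1 i j else 0), ← Finset.sum_add_distrib]
  refine Finset.sum_congr rfl fun i _ => ?_
  rw [← Finset.sum_add_distrib]
  refine Finset.sum_congr rfl fun j _ => ?_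
  split_ifs with h
  · rw [alt_skew B j i]; ring
  · simp

theorem congr_mem (g : Matrix (Fin n) (Fin n) F) (B : Alt F n) : gᵀ * B.1 * g ∈ Alt F n := by
  have hskew : ∀ i j, (gᵀ * B.1 * g) i j = -(gᵀ * B.1 * g) j i := fun i j => by
    have hT : B.1ᵀ = -B.1 := Matrix.ext fun a b => by simp [alt_skew B a b]
    have : (gᵀ * B.1 * g)ᵀ = -(gᵀ * B.1 * g) := by
      rw [transpose_mul, transpose_mul, transpose_transpose, hT, ← mul_assoc]; simp
    have := congrFun (congrFun this j) i
    simpa using this
  refine ⟨fun i => ?_, hskew⟩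
  have h : (gᵀ * B.1 * g) i i = ∑ a, ∑ b, g a i * g b i * B.1 a b := by
    simp only [mul_apply, transpose_apply, Finset.sum_mul]
    rw [Finset.sum_comm]
    exact Finset.sum_congr rfl fun a _ => Finset.sum_congr rfl fun b _ => by ring
  rw [h, sum_split (fun a b => g a i * g b i) B]
  refine Finset.sum_eq_zero fun a _ => Finset.sum_eq_zero fun b _ => ?_
  rw [mul_comm (g b i) (g a i), sub_self, zero_mul, ite_self]

/-- Congruence. -/
def act (g : Matrix (Fin n) (Fin n) F) : Alt F n →ₗ[F] Alt F n where
  toFun B := ⟨gᵀ * B.1 * g, congr_mem g B⟩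
  map_add' A B := Subtype.ext (by simp [mul_add, add_mul])
  map_smul' c A := Subtype.ext (by simp)

theorem act_coe (g : Matrix (Fin n) (Fin n) F) (B : Alt F n) : (act g B).1 = gᵀ * B.1 * g := rfl

theorem act_mul (g h : Matrix (Fin n) (Fin n) F) (B : Alt F n) : act (g * h) B = act h (act g B) :=
  Subtype.ext (by simp [act_coe, transpose_mul, mul_assoc])

theorem act_one (B : Alt F n) : act 1 B = B := Subtype.ext (by simp [act_coe])

theorem act_apply (g : Matrix (Fin n) (Fin n) F) (B : Alt F n) (i j : Fin n) :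
    (act g B).1 i j = ∑ a, ∑ b, g a i * B.1 a b * g b j := by
  simp only [act_coe, mul_apply, transpose_apply, Finset.sum_mul]
  exact Finset.sum_comm

theorem act_injective {g : Matrix (Fin n) (Fin n) F} (hg : g.det ≠ 0) :
    Function.Injective (act g) := fun A B h => by
  have := congrArg (act g⁻¹) h
  rwa [← act_mul, ← act_mul, mul_nonsing_inv _ (isUnit_iff_ne_zero.2 hg), act_one, act_one] at this

/-- The pairing. -/
def pair (C B : Alt F n) : F := ∑ i, ∑ j, if i < j then C.1 i j * B.1 i j else 0

theorem pair_add (C B B' : Alt F n) : pair C (B + B') = pair C B + pair C B' := by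
  simp only [pair, ← Finset.sum_add_distrib]
  exact Finset.sum_congr rfl fun i _ => Finset.sum_congr rfl fun j _ => by
    split_ifs <;> simp [mul_add]

theorem pair_zero (C : Alt F n) : pair C 0 = 0 := by simp [pair]

theorem pair_act (C B : Alt F n) (g : Matrix (Fin n) (Fin n) F) :
    pair C (act gᵀ B) = pair (act g C) B := by
  set U : Matrix (Fin n) (Fin n) F := Matrix.of fun i j => if i < j then C.1 i j else 0 with hU
  have h1 : ∀ X : Alt F n, pair C X = ∑ i, ∑ j, U i j * X.1 i j := fun X => by
    simp only [pair, hU, of_apply, ite_mul, zero_mul]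
  have h2 : U - Uᵀ = C.1 := Matrix.ext fun i j => by
    simp only [hU, Matrix.sub_apply, transpose_apply, of_apply]
    rcases lt_trichotomy i j with h | h | h
    · simp [h, lt_asymm h]
    · subst h; simp [alt_diag C i]
    · simp [h, lt_asymm h, ← alt_skew C i j]
  have h3 : ∑ i, ∑ j, U i j * (act gᵀ B).1 i j = ∑ a, ∑ b, (gᵀ * U * g) a b * B.1 a b := by
    simp only [act_apply, transpose_apply, mul_apply, Finset.sum_mul, Finset.mul_sum, ← Fintype.sum_prod_type']
    exact Fintype.sum_equiv ⟨fun x => (x.2.2.1, x.2.2.2, x.2.1, x.1), fun x => (x.2.2.2, x.2.2.1, x.1, x.2.1),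
      fun _ => rfl, fun _ => rfl⟩ _ _ fun x => by simp; ring
  rw [h1, h3, sum_split, pair]
  refine Finset.sum_congr rfl fun a _ => Finset.sum_congr rfl fun b _ => ?_
  have : (gᵀ * U * g) a b - (gᵀ * U * g) b a = (act g C).1 a b := by
    rw [act_coe, ← h2, mul_sub, sub_mul, Matrix.sub_apply]
    have e : gᵀ * Uᵀ * g = (gᵀ * U * g)ᵀ := by simp [transpose_mul, mul_assoc]
    rw [e, transpose_apply]
  rw [this]

/-- The basic alternating matrix. -/
def unit (i j : Fin n) (hij : i ≠ j) : Alt F n :=
  ⟨Matrix.single i j 1 - Matrix.single j i 1, fun a => by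
    rcases eq_or_ne a i with rfl | ha
    · simp [Matrix.single, hij.symm]
    · simp [Matrix.single, ha.symm],
   fun a b => by simp [Matrix.single, and_comm]⟩

theorem pair_smul_unit (C : Alt F n) {i j : Fin n} (hij : i < j) (t : F) :
    pair C (t • unit i j hij.ne) = t * C.1 i j := by
  simp only [pair]
  rw [Finset.sum_eq_single i, Finset.sum_eq_single j]
  · simp [hij, unit, Matrix.single, hij.ne']; ring
  · intro b _ hb; split_ifs with h <;> simp [unit, Matrix.single, hb.symm, hij.ne']
  · simp
  · intro a _ ha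
    refine Finset.sum_eq_zero fun b _ => ?_
    split_ifs with h
    · simp only [unit, Submodule.coe_smul, Matrix.smul_apply, Matrix.sub_apply, Matrix.single, of_apply]
      rw [if_neg (fun h' => ha h'.1.symm), if_neg]
      · simp
      · rintro ⟨rfl, rfl⟩; exact lt_asymm h hij
    · rfl
  · simp

theorem eq_zero_of_pair (C : Alt F n) (h : ∀ B, pair C B = 0) : C = 0 := by
  refine Subtype.ext (Matrix.ext fun i j => ?_)
  rcases lt_trichotomy i j with hij | rfl | hij
  · have := h ((1 : F) • unit i j hij.ne)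
    rwa [pair_smul_unit C hij, one_mul] at this
  · exact alt_diag C i
  · rw [alt_skew C i j]
    have := h ((1 : F) • unit j i hij.ne)
    rw [pair_smul_unit C hij, one_mul] at this
    simp [this]

/-- Decomposable forms. -/
def Dec (C : Alt F n) : Prop := ∃ φ ν : Fin n → F, ∀ i j, C.1 i j = φ i * ν j - φ j * ν i

theorem Dec.act {C : Alt F n} (h : Dec C) (g : Matrix (Fin n) (Fin n) F) : Dec (act g C) := by
  obtain ⟨φ, ν, h⟩ := h
  refine ⟨φ ᵥ* g, ν ᵥ* g, fun i j => ?_⟩
  rw [act_apply]
  simp only [vecMul, dotProduct]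
  rw [Finset.sum_mul_sum, Finset.sum_mul_sum,
    Finset.sum_comm (f := fun a b => φ a * g a j * (ν b * g b i)), ← Finset.sum_sub_distrib]
  refine Finset.sum_congr rfl fun a _ => ?_
  rw [← Finset.sum_sub_distrib]
  refine Finset.sum_congr rfl fun b _ => ?_
  rw [h]; ring

theorem dec_act_iff {C : Alt F n} {g : Matrix (Fin n) (Fin n) F} (hg : g.det ≠ 0) :
    Dec (CfsgLib.OrthDeg.act g C) ↔ Dec C := by
  refine ⟨fun h => ?_, fun h => h.act g⟩
  have := h.act g⁻¹
  rwa [← act_mul, mul_nonsing_inv _ (isUnit_iff_ne_zero.2 hg), act_one] at this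

/-- A decomposable form is determined by two of its rows. -/
theorem Dec.rows {C : Alt F n} (h : Dec C) (a b p q : Fin n) :
    C.1 a b * C.1 p q = C.1 a p * C.1 b q - C.1 a q * C.1 b p := by
  obtain ⟨φ, ν, h⟩ := h
  simp only [h]; ring

end CfsgLib.OrthDeg
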