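import Mathlib
import Cfsg.Agent.Lib.OrthDeg.AltForm

/-! Normal forms and orbit bounds for alternating forms. -/

set_option autoImplicit false

namespace CfsgLib.OrthDeg

open Matrix CfsgLib.SLMin

variable {F : Type*} [Field F] {m : ℕ}

/-- Matrices with a non-zero square determinant. -/
def Gd {n : ℕ} (g : Matrix (Fin n) (Fin n) F) : Prop := g.det ≠ 0 ∧ IsSquare g.det

theorem gd_of_one {n : ℕ} {g : Matrix (Fin n) (Fin n) F} (h : g.det = 1) : Gd g :=
  ⟨by rw [h]; exact one_ne_zero, by rw [h]; exact IsSquare.one⟩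

theorem Gd.mul {n : ℕ} {g h : Matrix (Fin n) (Fin n) F} (hg : Gd g) (hh : Gd h) : Gd (g * h) :=
  ⟨by rw [det_mul]; exact mul_ne_zero hg.1 hh.1, by rw [det_mul]; exact hg.2.mul hh.2⟩

/-- Normal forms: `C 0 1 = 1` and the rest of the first two rows vanishes. -/
structure Normal (C : Alt F (m + 3)) : Prop where
  one : C.1 0 1 = 1
  row0 : ∀ j : Fin (m + 2), j ≠ 0 → C.1 0 j.succ = 0
  row1 : ∀ j : Fin (m + 1), C.1 1 j.succ.succ = 0

theorem lev_row0 (A : Matrix (Fin (m + 2)) (Fin (m + 2)) F) (C : Alt F (m + 3)) (j : Fin (m + 2)) :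
    (act (blkM 1 0 A) C).1 0 j.succ = ∑ a, C.1 0 a.succ * A a j := by
  rw [act_apply, Fin.sum_univ_succ]
  simp [blkM_00, blkM_s0, blkM_ss, blkM_0s, Fin.sum_univ_succ (n := m + 2), alt_diag]

theorem shear_row (b : Fin (m + 2) → F) (C : Alt F (m + 3)) (i j : Fin (m + 2)) :
    (act (blkM 1 b 1) C).1 0 j.succ = C.1 0 j.succ ∧
      (act (blkM 1 b 1) C).1 i.succ j.succ = C.1 i.succ j.succ + b i * C.1 0 j.succ - b j * C.1 0 i.succ := by
  constructor
  · rw [act_apply, Fin.sum_univ_succ]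
    simp [blkM_00, blkM_s0, blkM_ss, blkM_0s, Fin.sum_univ_succ (n := m + 2), Matrix.one_apply, alt_diag]
  · rw [act_apply, Fin.sum_univ_succ]
    simp [blkM_00, blkM_s0, blkM_ss, blkM_0s, Fin.sum_univ_succ (n := m + 2), Matrix.one_apply, alt_diag,
      alt_skew C i.succ 0, Finset.sum_add_distrib]
    ring

/-- A matrix of determinant one with prescribed first row. -/
theorem exists_row {a : Fin (m + 2) → F} (ha : a ≠ 0) :
    ∃ A : Matrix (Fin (m + 2)) (Fin (m + 2)) F, A.det = 1 ∧ ∀ j, A 0 j = a j := by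
  obtain ⟨g, hg⟩ := exists_sl_vec (ι := Fin (m + 2)) (by simp)
    (v := Pi.single (0 : Fin (m + 2)) (1 : F)) (by simp) ha
  refine ⟨g.1ᵀ, by rw [det_transpose]; exact g.2, fun j => ?_⟩
  rw [← hg]
  simp [mulVec, dotProduct, Pi.single_apply]

theorem row0_normal {A : Matrix (Fin (m + 2)) (Fin (m + 2)) F} {C : Alt F (m + 3)} (h0 : C.1 0 1 = 1)
    (h : ∀ j : Fin (m + 2), j ≠ 0 → C.1 0 j.succ = 0) (j : Fin (m + 2)) :
    (act (blkM 1 0 A) C).1 0 j.succ = A 0 j := by
  rw [lev_row0, Finset.sum_eq_single 0]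
  · rw [show ((0 : Fin (m + 2)).succ) = 1 from rfl, h0, one_mul]
  · intro a _ ha; rw [h a ha, zero_mul]
  · simp

/-- Every non-zero form is congruent to a normal form. -/
theorem exists_normal {C : Alt F (m + 3)} (hC : C ≠ 0) :
    ∃ g : Matrix (Fin (m + 3)) (Fin (m + 3)) F, g.det = 1 ∧ Normal (act g C) := by
  classical
  -- a vector outside the radical first
  obtain ⟨a, ha, hrow⟩ : ∃ g : Matrix (Fin (m + 3)) (Fin (m + 3)) F, g.det = 1 ∧
      ∃ j : Fin (m + 2), (act g C).1 0 j.succ ≠ 0 := by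
    obtain ⟨i, j, hij⟩ : ∃ i j, C.1 i j ≠ 0 := by
      by_contra hcon
      push Not at hcon
      exact hC (Subtype.ext (Matrix.ext hcon))
    obtain ⟨g, hg⟩ := exists_sl_vec (ι := Fin (m + 3)) (by simp) (v := Pi.single (0 : Fin (m + 3)) (1 : F))
      (by simp) (x := Pi.single i (1 : F)) (by simp)
    refine ⟨g.1, g.2, ?_⟩
    by_contra hcon
    push Not at hcon
    have hz : ∀ b, (act g.1 C).1 0 b = 0 := fun b => Fin.cases (alt_diag _ 0) hcon b
    have hcol : ∀ a, g.1 a 0 = (Pi.single i (1 : F) : Fin (m + 3) → F) a := fun a => by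
      rw [← hg]; simp [mulVec, dotProduct, Pi.single_apply]
    have h1 : ∀ b, (C.1 * g.1) i b = 0 := fun b => by
      rw [← hz b, act_coe, mul_assoc, mul_apply (M := g.1ᵀ)]
      simp [hcol, Pi.single_apply]
    have h2 : (C.1 * g.1 * g.1⁻¹) i j = 0 := by
      rw [mul_apply]; simp [h1]
    rw [mul_assoc, mul_nonsing_inv _ (by rw [g.2]; exact isUnit_one), mul_one] at h2
    exact hij h2
  set C1 := act a C
  -- straighten the first row
  set φ : Fin (m + 2) → F := fun j => C1.1 0 j.succ with hφ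
  obtain ⟨j0, hj0⟩ := hrow
  have hφ0 : φ ≠ 0 := fun h => hj0 (congrFun h j0)
  obtain ⟨A, hA, hAr⟩ : ∃ A : Matrix (Fin (m + 2)) (Fin (m + 2)) F, A.det = 1 ∧
      ∀ j, ∑ b, φ b * A b j = (Pi.single 0 1 : Fin (m + 2) → F) j := by
    obtain ⟨g, hg⟩ := exists_sl_vec (ι := Fin (m + 2)) (by simp) hφ0
      (x := Pi.single (0 : Fin (m + 2)) (1 : F)) (by simp)
    refine ⟨g.1ᵀ, by rw [det_transpose]; exact g.2, fun j => ?_⟩
    rw [← hg]
    simp [mulVec, dotProduct, mul_comm]
  set C2 := act (blkM 1 0 A) C1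
  have h2 : ∀ j : Fin (m + 2), C2.1 0 j.succ = (Pi.single 0 1 : Fin (m + 2) → F) j := fun j => by
    rw [lev_row0]; exact hAr j
  -- clear the second row
  set b : Fin (m + 2) → F := fun j => if j = 0 then 0 else C2.1 1 j.succ with hb
  refine ⟨a * blkM 1 0 A * blkM 1 b 1, by simp [det_mul, ha, blkM_det, hA], ?_⟩
  rw [act_mul, act_mul]
  refine ⟨?_, fun j hj => ?_, fun j => ?_⟩
  · rw [show (1 : Fin (m + 3)) = (0 : Fin (m + 2)).succ from rfl, (shear_row b C2 0 0).1, h2]; simp
  · rw [(shear_row b C2 j j).1, h2]; simp [hj]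
  · rw [show (1 : Fin (m + 3)) = (0 : Fin (m + 2)).succ from rfl, (shear_row b C2 0 j.succ).2, h2, h2, hb]
    simp [Fin.succ_ne_zero]

section count

variable [Fintype F] [DecidableEq F]

noncomputable instance altFintype (n : ℕ) : Fintype (Alt F n) := Fintype.ofFinite _

/-- The congruent forms of a set of normal forms. -/
theorem family (N : Finset (Alt F (m + 3))) (hN : ∀ C ∈ N, Normal C) :
    ∃ S : Finset (Alt F (m + 3)), S.card = (Fintype.card F ^ (m + 2) - 1) * Fintype.card F ^ (m + 1) * N.card ∧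
      ∀ C' ∈ S, (∃ j : Fin (m + 2), C'.1 0 j.succ ≠ 0) ∧
        ∃ g : Matrix (Fin (m + 3)) (Fin (m + 3)) F, g.det = 1 ∧ ∃ C ∈ N, C' = act g C := by
  classical
  choose A hA hAr using fun a : {a : Fin (m + 2) → F // a ≠ 0} => exists_row a.2
  let gm : {a : Fin (m + 2) → F // a ≠ 0} × (Fin (m + 1) → F) → Matrix (Fin (m + 3)) (Fin (m + 3)) F :=
    fun p => blkM 1 (Fin.cons 0 p.2) 1 * blkM 1 0 (A p.1)
  have hdet : ∀ p, (gm p).det = 1 := fun p => by simp [gm, det_mul, blkM_det, hA]
  let Φ : ({a : Fin (m + 2) → F // a ≠ 0} × (Fin (m + 1) → F)) × N → Alt F (m + 3) :=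
    fun p => act (gm p.1) p.2.1
  have hrow : ∀ p j, (Φ p).1 0 j.succ = p.1.1.1 j := fun p j => by
    simp only [Φ, gm, act_mul]
    rw [row0_normal, hAr]
    · rw [show (1 : Fin (m + 3)) = (0 : Fin (m + 2)).succ from rfl, (shear_row _ p.2.1 0 0).1]
      exact (hN _ p.2.2).one
    · intro i hi; rw [(shear_row _ p.2.1 i i).1, (hN _ p.2.2).row0 i hi]
  have hinj : Function.Injective Φ := by
    rintro ⟨⟨a, x⟩, C, hC⟩ ⟨⟨a', x'⟩, C', hC'⟩ h
    obtain rfl : a = a' := Subtype.ext (funext fun j => by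
      rw [← hrow ((a, x), ⟨C, hC⟩) j, ← hrow ((a', x'), ⟨C', hC'⟩) j, h])
    simp only [Φ, gm, act_mul] at h
    replace h := act_injective (by simp [blkM_det, hA]) h
    obtain rfl : x = x' := funext fun j => by
      have e := congrArg (fun X : Alt F (m + 3) => X.1 1 j.succ.succ) h
      simp only [show (1 : Fin (m + 3)) = (0 : Fin (m + 2)).succ from rfl, (shear_row _ _ 0 j.succ).2,
        Fin.cons_zero, Fin.cons_succ, zero_mul, add_zero] at e
      rw [show ((0 : Fin (m + 2)).succ) = (1 : Fin (m + 3)) from rfl, (hN _ hC).one, (hN _ hC').one,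
        (hN _ hC).row1, (hN _ hC').row1] at e
      simpa using e
    have := act_injective (g := blkM 1 (Fin.cons 0 x) 1) (by simp [blkM_det]) h
    simp [this]
  refine ⟨Finset.univ.image Φ, ?_, fun C' hC' => ?_⟩
  · rw [Finset.card_image_of_injective _ hinj, Finset.card_univ, Fintype.card_prod, Fintype.card_prod,
      Fintype.card_subtype_compl, Fintype.card_subtype_eq, Fintype.card_fun, Fintype.card_fin,
      Fintype.card_fun, Fintype.card_fin, Fintype.card_coe]
  · obtain ⟨p, -, rfl⟩ := Finset.mem_image.1 hC'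
    obtain ⟨j, hj⟩ : ∃ j, p.1.1.1 j ≠ 0 := Function.ne_iff.1 p.1.1.2
    exact ⟨⟨j, by rw [hrow]; exact hj⟩, gm p.1, hdet _, p.2.1, p.2.2, rfl⟩

/-- The base normal form. -/
def base (F : Type*) [Field F] (m : ℕ) : Alt F (m + 3) := unit 0 1 (by simp)

theorem normal_base : Normal (base F m) :=
  ⟨by simp [base, unit, Matrix.single], fun j hj => by
    simp [base, unit, Matrix.single, (Fin.succ_ne_zero j).symm, show (1 : Fin (m + 3)) ≠ j.succ from
      fun h => hj (Fin.succ_injective _ h.symm)], fun j => by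
    simp [base, unit, Matrix.single, show (1 : Fin (m + 3)) ≠ j.succ.succ from
      fun h => Fin.succ_ne_zero j (Fin.succ_injective _ h.symm), (Fin.succ_ne_zero j.succ).symm]⟩

theorem dec_base : Dec (base F m) :=
  ⟨Pi.single 0 1, Pi.single 1 1, fun i j => by
    simp only [base, unit, Matrix.sub_apply, Matrix.single, of_apply, Pi.single_apply]
    by_cases h0 : i = 0 <;> by_cases h1 : i = 1 <;> by_cases g0 : j = 0 <;> by_cases g1 : j = 1 <;>
      simp [h0, h1, g0, g1, eq_comm]⟩

theorem base_ne_zero : base F m ≠ 0 := fun h => by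
  have := (normal_base (F := F) (m := m)).one
  rw [h] at this
  exact zero_ne_one this

/-- A decomposable normal form is the base form. -/
theorem eq_base {C : Alt F (m + 3)} (hC : Normal C) (hd : Dec C) : C = base F m := by
  have hrow : ∀ j, C.1 0 j = (base F m).1 0 j ∧ C.1 1 j = (base F m).1 1 j := fun j => by
    refine Fin.cases ⟨by simp [alt_diag], ?_⟩ (fun i => ?_) j
    · rw [alt_skew C 1 0, alt_skew (base F m) 1 0, hC.one, normal_base.one]
    · refine Fin.cases ⟨?_, by simp [alt_diag]⟩ (fun k => ?_) i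
      · exact hC.one.trans normal_base.one.symm
      · exact ⟨(hC.row0 _ (Fin.succ_ne_zero k)).trans (normal_base.row0 _ (Fin.succ_ne_zero k)).symm,
          (hC.row1 k).trans (normal_base.row1 k).symm⟩
  refine Subtype.ext (Matrix.ext fun p q => ?_)
  have h1 := hd.rows 0 1 p q
  have h2 := dec_base.rows (F := F) 0 1 p q
  rw [hC.one, one_mul, (hrow p).1, (hrow q).2, (hrow q).1, (hrow p).2] at h1
  rw [normal_base.one, one_mul] at h2
  rw [h1, h2]

/-- Decomposable forms are congruent. -/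
theorem exists_to_base {C : Alt F (m + 3)} (hC : C ≠ 0) (hd : Dec C) :
    ∃ g : Matrix (Fin (m + 3)) (Fin (m + 3)) F, g.det = 1 ∧ act g C = base F m := by
  obtain ⟨g, hg, hn⟩ := exists_normal hC
  exact ⟨g, hg, eq_base hn (hd.act g)⟩

/-- Congruence classes of indecomposable forms are large. -/
theorem big_orbit {C : Alt F (m + 3)} (hd : ¬ Dec C) {μ : F} (hμ : μ * μ ≠ 1) (hμ0 : μ ≠ 0) :
    ∃ S : Finset (Alt F (m + 3)), S.card = (Fintype.card F ^ (m + 2) - 1) * Fintype.card F ^ (m + 1) * 2 ∧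
      ∀ C' ∈ S, C' ≠ 0 ∧ ∃ g : Matrix (Fin (m + 3)) (Fin (m + 3)) F, Gd g ∧ C' = act g C := by
  classical
  have hC : C ≠ 0 := fun h => hd ⟨0, 0, fun i j => by rw [h]; simp⟩
  obtain ⟨g₀, hg₀, hn⟩ := exists_normal hC
  obtain ⟨p, q, hpq⟩ : ∃ p q : Fin (m + 1), (act g₀ C).1 p.succ.succ q.succ.succ ≠ 0 := by
    by_contra hcon
    push Not at hcon
    refine hd ((dec_act_iff (g := g₀) (by rw [hg₀]; exact one_ne_zero)).1 ?_)
    have : act g₀ C = base F m := by
      refine Subtype.ext (Matrix.ext fun i j => ?_)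
      have hb : ∀ p q : Fin (m + 1), (base F m).1 p.succ.succ q.succ.succ = 0 := fun p q => by
        have := dec_base.rows (F := F) 0 1 p.succ.succ q.succ.succ
        rwa [normal_base.one, one_mul, normal_base.row0 _ (Fin.succ_ne_zero p),
          normal_base.row0 _ (Fin.succ_ne_zero q), zero_mul, zero_mul, sub_self] at this
      have h0 : ∀ j, (act g₀ C).1 0 j = (base F m).1 0 j := fun j => by
        refine Fin.cases (by simp [alt_diag]) (fun i => ?_) j
        refine Fin.cases (hn.one.trans normal_base.one.symm) (fun k => ?_) i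
        exact (hn.row0 _ (Fin.succ_ne_zero k)).trans (normal_base.row0 _ (Fin.succ_ne_zero k)).symm
      have h1 : ∀ j, (act g₀ C).1 1 j = (base F m).1 1 j := fun j => by
        refine Fin.cases ?_ (fun i => ?_) j
        · rw [alt_skew _ 1 0, alt_skew (base F m) 1 0, h0]
        refine Fin.cases (by simp [alt_diag]) (fun k => ?_) i
        exact (hn.row1 k).trans (normal_base.row1 k).symm
      refine Fin.cases (h0 j) (fun i => ?_) i
      refine Fin.cases (h1 j) (fun k => ?_) i
      refine Fin.cases ?_ (fun i => ?_) j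
      · rw [alt_skew _ _ 0, alt_skew (base F m) _ 0, h0]
      refine Fin.cases ?_ (fun l => ?_) i
      · show (act g₀ C).1 _ 1 = (base F m).1 _ 1
        rw [alt_skew _ _ 1, alt_skew (base F m) _ 1, h1]
      exact (hcon k l).trans (hb k l).symm
    rw [this]; exact dec_base
  set C0 := act g₀ C
  set d : Fin (m + 3) → F := Function.update 1 p.succ.succ (μ * μ) with hdd
  set C1 := act (Matrix.diagonal d) C0 with hC1
  have he : ∀ i j, C1.1 i j = d i * C0.1 i j * d j := fun i j => by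
    rw [hC1, act_coe, diagonal_transpose, mul_diagonal, diagonal_mul]
  have hd0 : d 0 = 1 := by
    rw [hdd, Function.update_of_ne (Fin.succ_ne_zero _).symm]; rfl
  have hd1 : d 1 = 1 := by
    rw [hdd, Function.update_of_ne]; · rfl
    exact fun h => Fin.succ_ne_zero p (Fin.succ_injective _ h.symm)
  have hpne : p ≠ q := fun h => hpq (by rw [h]; exact alt_diag _ _)
  have hn1 : Normal C1 :=
    ⟨by rw [he, hd0, hd1, hn.one]; ring, fun j hj => by rw [he, hn.row0 j hj]; ring,
      fun j => by rw [he, hn.row1 j]; ring⟩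
  have hne : C0 ≠ C1 := fun h => by
    have := congrArg (fun X : Alt F (m + 3) => X.1 p.succ.succ q.succ.succ) h
    rw [he, hdd, Function.update_self, Function.update_of_ne (show q.succ.succ ≠ p.succ.succ from fun e => hpne (Fin.succ_injective _ (Fin.succ_injective _ e)).symm)] at this
    simp only [Pi.one_apply, mul_one] at this
    exact hμ (mul_right_cancel₀ hpq (this.symm.trans (one_mul _).symm))
  obtain ⟨S, hS, hmem⟩ := family {C0, C1} (fun X hX => by
    rcases Finset.mem_insert.1 hX with rfl | hX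
    · exact hn
    · rw [Finset.mem_singleton.1 hX]; exact hn1)
  rw [Finset.card_pair hne] at hS
  refine ⟨S, hS, fun C' hC' => ?_⟩
  obtain ⟨⟨j, hj⟩, g, hg, X, hX, rfl⟩ := hmem C' hC'
  refine ⟨fun h => hj (by rw [h]; rfl), ?_⟩
  have hgd : Gd (Matrix.diagonal d) := by
    have : (Matrix.diagonal d).det = μ * μ := by
      rw [det_diagonal, hdd, Finset.prod_update_of_mem (Finset.mem_univ _)]; simp
    exact ⟨by rw [this]; exact mul_ne_zero hμ0 hμ0, by rw [this]; exact IsSquare.mul_self μ⟩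
  rcases Finset.mem_insert.1 hX with rfl | hX
  · exact ⟨g₀ * g, (gd_of_one hg₀).mul (gd_of_one hg), (act_mul _ _ _).symm⟩
  · rw [Finset.mem_singleton.1 hX, hC1]
    exact ⟨g₀ * Matrix.diagonal d * g, ((gd_of_one hg₀).mul hgd).mul (gd_of_one hg),
      by rw [act_mul, act_mul]⟩

end count

end CfsgLib.OrthDeg
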