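import Mathlib
import Cfsg.Agent.Lib.OrthDeg.AltNormal
import Cfsg.Agent.Lib.SympWeil.Basic

/-! Counting decomposable alternating forms. -/

set_option autoImplicit false

namespace CfsgLib.OrthDeg

open Matrix CfsgLib.SLMin

local notation "ψ" => CfsgLib.SympWeil.ψ

variable {F : Type*} [Field F] [Fintype F] [DecidableEq F] {m : ℕ}

/-- The non-zero decomposable forms. -/
noncomputable def O2 (F : Type*) [Field F] [Fintype F] (n : ℕ) : Finset (Alt F n) := by
  classical
  exact Finset.univ.filter fun C => C ≠ 0 ∧ Dec C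

theorem mem_O2 {n : ℕ} {C : Alt F n} : C ∈ O2 F n ↔ C ≠ 0 ∧ Dec C := by
  classical simp [O2]

/-- Extending a form by a radical vector. -/
def shift (C : Alt F (m + 2)) : Alt F (m + 3) :=
  ⟨Matrix.of fun i j => Fin.cases 0 (fun i' => Fin.cases 0 (fun j' => C.1 i' j') j) i,
    fun i => Fin.cases (by simp) (fun i' => by simp [alt_diag]) i,
    fun i j => Fin.cases (Fin.cases (by simp) (fun j' => by simp) j)
      (fun i' => Fin.cases (by simp) (fun j' => by simpa using alt_skew C i' j') j) i⟩

theorem card_O2_ge : ∀ m : ℕ, (Fintype.card F ^ (m + 2) - 1) * (Fintype.card F ^ (m + 1) - 1) ≤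
    (Fintype.card F ^ 2 - 1) * (O2 F (m + 2)).card := by
  classical
  set q := Fintype.card F with hq
  have hq2 : 2 ≤ q := Fintype.one_lt_card
  intro m
  induction m with
  | zero =>
    have hle : q - 1 ≤ (O2 F 2).card := by
      have hinj : Function.Injective fun c : {c : F // c ≠ 0} => (c.1 • unit (0 : Fin 2) 1 (by decide) : Alt F 2) := by
        intro a b h
        have := congrArg (fun X : Alt F 2 => X.1 0 1) h
        exact Subtype.ext (by simpa [unit, Matrix.single] using this)
      have := Finset.card_le_card_of_injOn (s := Finset.univ) (t := O2 F 2) _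
        (fun c _ => by
          refine mem_O2.2 ⟨fun h => c.2 ?_, c.1 • Pi.single 0 1, Pi.single 1 1, fun i j => ?_⟩
          · have := congrArg (fun X : Alt F 2 => X.1 0 1) h
            simpa [unit, Matrix.single] using this
          · fin_cases i <;> fin_cases j <;> simp [unit, Matrix.single])
        hinj.injOn
      rwa [Finset.card_univ, Fintype.card_subtype_compl, Fintype.card_subtype_eq, ← hq] at this
    simp only [zero_add, pow_one]
    exact Nat.mul_le_mul_left _ hle
  | succ m ih =>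
    obtain ⟨S, hS, hmem⟩ := family {base F m} (fun X hX => by
      rw [Finset.mem_singleton.1 hX]; exact normal_base)
    rw [Finset.card_singleton, mul_one] at hS
    have hsub : S ∪ (O2 F (m + 2)).image shift ⊆ O2 F (m + 3) := by
      intro C hC
      rcases Finset.mem_union.1 hC with h | h
      · obtain ⟨⟨j, hj⟩, g, hg, X, hX, rfl⟩ := hmem C h
        rw [Finset.mem_singleton.1 hX] at hj ⊢
        exact mem_O2.2 ⟨fun h => hj (by rw [h]; rfl), dec_base.act g⟩
      · obtain ⟨D, hD, rfl⟩ := Finset.mem_image.1 h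
        obtain ⟨h0, φ, ν, hd⟩ := mem_O2.1 hD
        refine mem_O2.2 ⟨fun h => h0 (Subtype.ext (Matrix.ext fun i j => ?_)), Fin.cons 0 φ, Fin.cons 0 ν, fun i j => ?_⟩
        · have := congrArg (fun X : Alt F (m + 3) => X.1 i.succ j.succ) h
          simpa [shift] using this
        · refine Fin.cases ?_ (fun i' => ?_) i <;> refine Fin.cases ?_ (fun j' => ?_) j <;> simp [shift, hd]
    have hdis : Disjoint S ((O2 F (m + 2)).image shift) := by
      refine Finset.disjoint_left.2 fun C h h' => ?_
      obtain ⟨⟨j, hj⟩, -⟩ := hmem C h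
      obtain ⟨X, -, rfl⟩ := Finset.mem_image.1 h'
      exact hj (by simp [shift])
    have hcard := Finset.card_le_card hsub
    rw [Finset.card_union_of_disjoint hdis, hS, Finset.card_image_of_injective _ (fun A B h =>
      Subtype.ext (Matrix.ext fun i j => by
        have := congrArg (fun X : Alt F (m + 3) => X.1 i.succ j.succ) h
        simpa [shift] using this))] at hcard
    refine le_trans ?_ (Nat.mul_le_mul_left _ hcard)
    rw [mul_add]
    refine le_trans ?_ (Nat.add_le_add_left ih _)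
    have h1 : 1 ≤ q ^ (m + 2) := Nat.one_le_pow _ _ (by omega)
    have h2 : 1 ≤ q ^ (m + 1) := Nat.one_le_pow _ _ (by omega)
    have h3 : 1 ≤ q ^ 2 := Nat.one_le_pow _ _ (by omega)
    have h4 : 1 ≤ q ^ (m + 3) := Nat.one_le_pow _ _ (by omega)
    rw [show m + 1 + 2 = m + 3 by omega, show m + 1 + 1 = m + 2 by omega]
    simp only [← hq]
    zify [h1, h2, h3, h4]
    exact le_of_eq (by ring)

/-- The decomposable forms with non-zero `0,1` entry. -/
def ofRows (c : F) (r s : Fin (m + 1) → F) : Alt F (m + 3) :=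
  let u : Fin (m + 3) → F := Fin.cons 0 (Fin.cons c r)
  let v : Fin (m + 3) → F := Fin.cons (-c) (Fin.cons 0 s)
  ⟨Matrix.of fun i j => c⁻¹ * (u i * v j - u j * v i), fun i => by simp, fun i j => by simp; ring⟩

/-- The character sum of decomposable forms at a long root element. -/
theorem sum_O2 {t : F} (ht : t ≠ 0) :
    ∑ C ∈ O2 F (m + 3), (1 - (ψ : AddChar F ℂ) (t * C.1 0 1)) = (Fintype.card F : ℂ) ^ (2 * m + 3) := by
  classical
  rw [← Finset.sum_filter_add_sum_filter_not (O2 F (m + 3)) (fun C => C.1 0 1 ≠ 0),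
    Finset.sum_eq_zero (s := (O2 F (m + 3)).filter fun C => ¬ C.1 0 1 ≠ 0) (f := fun C => 1 - (ψ : AddChar F ℂ) (t * C.1 0 1))
      (fun C hC => by
        rw [not_ne_iff.1 (Finset.mem_filter.1 hC).2, mul_zero, AddChar.map_zero_eq_one, sub_self]), add_zero]
  have h := Finset.sum_bij' (s := (Finset.univ.erase (0 : F)) ×ˢ (Finset.univ : Finset ((Fin (m + 1) → F) × (Fin (m + 1) → F))))
    (t := (O2 F (m + 3)).filter fun C => C.1 0 1 ≠ 0)
    (f := fun p => 1 - (ψ : AddChar F ℂ) (t * p.1)) (g := fun C => 1 - (ψ : AddChar F ℂ) (t * C.1 0 1))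
    (fun p _ => ofRows p.1 p.2.1 p.2.2)
    (fun C _ => (C.1 0 1, fun j => C.1 0 j.succ.succ, fun j => C.1 1 j.succ.succ)) ?_ ?_ ?_ ?_ ?_
  · rw [← h, Finset.sum_product, Finset.sum_congr rfl fun c _ => (by rw [Finset.sum_const] :
      ∑ _y : (Fin (m + 1) → F) × (Fin (m + 1) → F), (1 - (ψ : AddChar F ℂ) (t * c)) = _), ← Finset.smul_sum]
    have hs : ∑ c ∈ Finset.univ.erase (0 : F), (1 - (ψ : AddChar F ℂ) (t * c)) = (Fintype.card F : ℂ) := by
      have h0 : ∑ c : F, (ψ : AddChar F ℂ) (t * c) = 0 := by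
        obtain ⟨x, hx⟩ := CfsgLib.SympWeil.ψ_ne ht
        let χ : AddChar F ℂ := ⟨fun c => (ψ : AddChar F ℂ) (t * c), by simp, fun a b => by
          rw [mul_add, AddChar.map_add_eq_mul]⟩
        exact AddChar.sum_eq_zero_of_ne_one (show χ ≠ 1 from fun e => hx (DFunLike.congr_fun e x))
      rw [Finset.sum_sub_distrib, Finset.sum_const, Finset.card_erase_of_mem (Finset.mem_univ _),
        Finset.card_univ, Finset.sum_erase_eq_sub (Finset.mem_univ _), h0, mul_zero, AddChar.map_zero_eq_one,
        nsmul_eq_mul, mul_one, Nat.cast_sub Fintype.card_pos]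
      simp
    rw [hs, Finset.card_univ, Fintype.card_prod, Fintype.card_fun, Fintype.card_fin, nsmul_eq_mul]
    push_cast; ring
  · intro p hp
    have hc : p.1 ≠ 0 := Finset.ne_of_mem_erase (Finset.mem_product.1 hp).1
    have h01 : (ofRows p.1 p.2.1 p.2.2).1 0 1 = p.1 := by
      simp [ofRows, Fin.cons_one, hc]
    refine Finset.mem_filter.2 ⟨mem_O2.2 ⟨fun h => hc ?_, ?_⟩, by rwa [h01]⟩
    · rw [← h01, h]; rfl
    · exact ⟨p.1⁻¹ • Fin.cons 0 (Fin.cons p.1 p.2.1), Fin.cons (-p.1) (Fin.cons 0 p.2.2), fun i j => by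
        simp [ofRows]; ring⟩
  · intro C hC
    simpa using (Finset.mem_filter.1 hC).2
  · intro p hp
    have hc : p.1 ≠ 0 := Finset.ne_of_mem_erase (Finset.mem_product.1 hp).1
    ext <;> simp [ofRows, Fin.cons_one, hc] <;> field_simp
  · intro C hC
    obtain ⟨hC2, hc⟩ := Finset.mem_filter.1 hC
    obtain ⟨-, hd⟩ := mem_O2.1 hC2
    have hu : ∀ i, (Fin.cons 0 (Fin.cons (C.1 0 1) fun j => C.1 0 j.succ.succ) : Fin (m + 3) → F) i = C.1 0 i :=
      fun i => Fin.cases (by simp [alt_diag]) (fun i' => Fin.cases (by simp) (fun k => by simp) i') i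
    have hv : ∀ i, (Fin.cons (-C.1 0 1) (Fin.cons 0 fun j => C.1 1 j.succ.succ) : Fin (m + 3) → F) i = C.1 1 i :=
      fun i => Fin.cases (by simp [alt_skew C 1 0]) (fun i' => Fin.cases (by simp [alt_diag]) (fun k => by simp) i') i
    refine Subtype.ext (Matrix.ext fun i j => ?_)
    simp only [ofRows, of_apply, hu, hv]
    rw [← hd.rows 0 1 i j, ← mul_assoc, inv_mul_cancel₀ hc, one_mul]
  · intro p hp
    have hc : p.1 ≠ 0 := Finset.ne_of_mem_erase (Finset.mem_product.1 hp).1
    simp [ofRows, Fin.cons_one, hc]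

/-- Few decomposable forms are moved by a transvection. -/
theorem moved_lt [DecidableEq (Alt F (m + 3))] :
    ((O2 F (m + 3)).filter fun C => ∃ j : Fin (m + 1), C.1 0 j.succ.succ ≠ 0).card <
      Fintype.card F ^ (2 * m + 3) := by
  classical
  set S := (O2 F (m + 3)).filter fun C => ∃ j : Fin (m + 1), C.1 0 j.succ.succ ≠ 0
  let T : Finset (Fin (m + 2) → F) := Finset.univ.filter fun u => ∃ j : Fin (m + 1), u j.succ ≠ 0
  have hT : T.card < Fintype.card F ^ (m + 2) := by
    calc T.card < (Finset.univ : Finset (Fin (m + 2) → F)).card :=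
          Finset.card_lt_card (Finset.filter_ssubset.2 ⟨0, Finset.mem_univ _, by simp⟩)
      _ = _ := by simp
  have hfib : ∀ u ∈ S.image (fun C => fun j : Fin (m + 2) => C.1 0 j.succ),
      (S.filter fun C => (fun j : Fin (m + 2) => C.1 0 j.succ) = u).card ≤ Fintype.card F ^ (m + 1) := by
    intro u hu
    obtain ⟨C0, hC0, rfl⟩ := Finset.mem_image.1 hu
    obtain ⟨j, hj⟩ := (Finset.mem_filter.1 hC0).2
    refine (Finset.card_le_card_of_injOn (t := (Finset.univ : Finset ({i : Fin (m + 2) // i ≠ j.succ} → F)))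
      (fun C i => C.1 j.succ.succ i.1.succ) (fun _ _ => Finset.mem_univ _) ?_).trans (le_of_eq ?_)
    · intro A hA B hB h
      simp only [Finset.coe_filter, Set.mem_setOf_eq] at hA hB
      have hr : ∀ i, A.1 0 i = B.1 0 i := fun i => Fin.cases (by simp [alt_diag]) (fun i' => by
        rw [congrFun hA.2 i', congrFun hB.2 i']) i
      have hrj : ∀ i, A.1 j.succ.succ i = B.1 j.succ.succ i := fun i => Fin.cases
        (by rw [alt_skew A _ 0, alt_skew B _ 0, hr]) (fun i' => by
          by_cases hi : i' = j.succ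
          · rw [hi, alt_diag, alt_diag]
          · exact congrFun h ⟨i', hi⟩) i
      refine Subtype.ext (Matrix.ext fun p q => ?_)
      have h1 := (mem_O2.1 (Finset.mem_filter.1 hA.1).1).2.rows 0 j.succ.succ p q
      have h2 := (mem_O2.1 (Finset.mem_filter.1 hB.1).1).2.rows 0 j.succ.succ p q
      have hne : A.1 0 j.succ.succ ≠ 0 := by rw [congrFun hA.2 j.succ]; exact hj
      rw [← hr, ← hr, ← hr, ← hrj, ← hrj, ← h1] at h2
      exact (mul_left_cancel₀ hne h2).symm
    · rw [Finset.card_univ, Fintype.card_fun, Fintype.card_subtype_compl, Fintype.card_subtype_eq,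
        Fintype.card_fin]
      congr 1
  have himg : (S.image fun C => fun j : Fin (m + 2) => C.1 0 j.succ).card ≤ T.card :=
    Finset.card_le_card fun u hu => by
      obtain ⟨C, hC, rfl⟩ := Finset.mem_image.1 hu
      exact Finset.mem_filter.2 ⟨Finset.mem_univ _, (Finset.mem_filter.1 hC).2⟩
  refine lt_of_le_of_lt (Finset.card_le_mul_card_image S _ hfib) ?_
  rw [show 2 * m + 3 = (m + 1) + (m + 2) by omega, pow_add _ (m + 1) (m + 2)]
  exact Nat.mul_lt_mul_of_pos_left (lt_of_le_of_lt himg hT) (pow_pos (Fintype.card_pos (α := F)) _)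

end CfsgLib.OrthDeg
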