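import Mathlib
import Cfsg.Agent.Lib.OmegaMin.Point

/-! The class of long root elements of an orthogonal group. -/

set_option autoImplicit false
set_option maxHeartbeats 400000

namespace CfsgLib.OrthDeg

open QuadraticMap CfsgLib.WittExtension Module CfsgLib.SpinorNorm CfsgLib.Eichler CfsgLib.OmegaMin

variable {F V : Type*} [Field F] [Fintype F] [AddCommGroup V] [Module F V] [FiniteDimensional F V]
  (Q : QuadraticForm F V)

/-- Bases of totally singular planes. -/
def TSPairs : Set (V × V) :=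
  {p | p.1 ≠ 0 ∧ Q p.1 = 0 ∧ Q p.2 = 0 ∧ polar Q p.1 p.2 = 0 ∧ ∀ t : F, p.2 ≠ t • p.1}

variable {Q}

omit [Fintype F] [FiniteDimensional F V] in
theorem eg_pair_app {a b : V} (h : (a, b) ∈ TSPairs Q) (x : V) :
    (eg Q a b).1 x = x + (polar Q a x • b + (-(polar Q b x)) • a) := by
  rw [eg_app h.2.1 h.2.2.2.1, h.2.2.1]; simp

omit [Fintype F] [FiniteDimensional F V] in
theorem eg_sl {a b : V} (h : (a, b) ∈ TSPairs Q) (α β γ δ : F) (hd : α * δ - β * γ = 1) :
    eg Q (α • a + β • b) (γ • a + δ • b) = eg Q a b := by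
  obtain ⟨-, ha, hb, hab, -⟩ := h
  have hba : polar Q b a = 0 := by rw [polar_comm, hab]
  have h1 : Q (α • a + β • b) = 0 := by
    rw [QuadraticMap.map_add Q, QuadraticMap.map_smul, QuadraticMap.map_smul, ha, hb]
    simp [polar_smul_left, polar_smul_right, hab]
  have h2 : Q (γ • a + δ • b) = 0 := by
    rw [QuadraticMap.map_add Q, QuadraticMap.map_smul, QuadraticMap.map_smul, ha, hb]
    simp [polar_smul_left, polar_smul_right, hab]
  have h3 : polar Q (α • a + β • b) (γ • a + δ • b) = 0 := by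
    simp [polar_add_left, polar_add_right, polar_smul_left, polar_smul_right, hab, hba, pol_sing Q ha,
      pol_sing Q hb, ha, hb]
  refine iso_ext Q fun x => ?_
  rw [eg_app h1 h3, eg_app ha hab, h2, hb]
  simp only [polar_add_left, polar_smul_left, smul_eq_mul, zero_mul, sub_zero]
  match_scalars
  · ring
  · linear_combination (-(polar Q b x)) * hd
  · linear_combination (polar Q a x) * hd

omit [Fintype F] in
theorem exists_dual_vec (hQ : (polarBilin Q).Nondegenerate) {a b : V} (h : (a, b) ∈ TSPairs Q) :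
    ∃ x, polar Q a x = 1 ∧ polar Q b x = 0 := by
  obtain ⟨ha0, ha, hb, hab, hind⟩ := h
  obtain ⟨a', ha', haa⟩ := exists_partner Q hQ ha0 ha
  have hH : Hyp Q a a' := ⟨ha, ha', haa⟩
  set y := OmegaMin.proj Q a a' b with hy
  have hym := hH.proj_mem b
  have hdec : b = y + polar Q a' b • a := by
    have := hH.decomp b
    rwa [show polar Q a b = 0 from hab, zero_smul, add_zero] at this
  have hy0 : (⟨y, hym⟩ : perp Q a a') ≠ 0 := fun e => hind (polar Q a' b) (by
    rw [show y = 0 from congrArg Subtype.val e, zero_add] at hdec; exact hdec)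
  have hQy : (Q.comp (perp Q a a').subtype) ⟨y, hym⟩ = 0 := by
    show Q y = 0
    have := (hH.parts hym (polar Q a' b) 0).2.2
    rw [zero_smul, add_zero, ← hdec, hb, mul_zero, add_zero] at this
    exact this.symm
  obtain ⟨z, hz, hyz⟩ := exists_partner (Q.comp (perp Q a a').subtype)
    (perp_nondeg Q hQ ha ha' haa) hy0 hQy
  rw [sub_polar] at hyz
  obtain ⟨h1, h2⟩ := (mem_perp Q).1 z.2
  refine ⟨a' + (-(polar Q b a')) • z.1, ?_, ?_⟩
  · simp [polar_add_right, polar_smul_right, haa, h1]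
  · have hbz : polar Q b z.1 = 1 := by
      rw [hdec, polar_add_left, polar_smul_left, h1, hyz]; simp
    simp [polar_add_right, polar_smul_right, hbz]

omit [Fintype F] in
theorem pairs_swap {a b : V} (h : (a, b) ∈ TSPairs Q) : (b, -a) ∈ TSPairs Q := by
  obtain ⟨ha0, ha, hb, hab, hind⟩ := h
  refine ⟨fun e => hind 0 (by rw [zero_smul]; exact e), hb, by rw [QuadraticMap.map_neg]; exact ha,
    by rw [polar_neg_right, polar_comm, hab, neg_zero], fun t e => ?_⟩
  dsimp only at e hind ha0
  rcases eq_or_ne t 0 with rfl | ht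
  · rw [zero_smul, neg_eq_zero] at e; exact ha0 e
  · exact hind (-t⁻¹) (by rw [neg_smul, ← smul_neg, e, smul_smul, inv_mul_cancel₀ ht, one_smul])

omit [Fintype F] in
theorem eg_swap_pair {a b : V} (h : (a, b) ∈ TSPairs Q) : eg Q b (-a) = eg Q a b := eg_swap h.2.1 h.2.2.1 h.2.2.2.1

omit [Fintype F] in
/-- The plane of a root element is determined, with the determinant of the change of basis. -/
theorem eg_eq_pairs (hQ : (polarBilin Q).Nondegenerate) {a b a' b' : V} (h : (a, b) ∈ TSPairs Q)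
    (h' : (a', b') ∈ TSPairs Q) (he : eg Q a' b' = eg Q a b) :
    ∃ α β γ δ : F, α * δ - β * γ = 1 ∧ a' = α • a + β • b ∧ b' = γ • a + δ • b := by
  have key : ∀ {p p' r r' : V}, (p, p') ∈ TSPairs Q → (r, r') ∈ TSPairs Q → eg Q r r' = eg Q p p' →
      ∃ s t : F, p' = s • r + t • r' := by
    intro p p' r r' hp hr e
    obtain ⟨x, hx1, hx2⟩ := exists_dual_vec hQ hp
    have := congrArg (fun g : quadIso Q => g.1 x) e
    simp only [eg_pair_app hr, eg_pair_app hp, hx1, hx2, neg_zero, zero_smul, one_smul, add_zero,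
      add_right_inj] at this
    exact ⟨-(polar Q r' x), polar Q r x, by rw [← this]; abel⟩
  obtain ⟨γ, δ, hb⟩ := key h' h he.symm
  obtain ⟨γ', δ', hb'⟩ := key (pairs_swap h') h (by rw [eg_swap_pair h', he])
  have ha : a' = (-γ') • a + (-δ') • b := by rw [← neg_neg a', hb']; module
  refine ⟨-γ', -δ', γ, δ, ?_, ha, hb⟩
  obtain ⟨ha0, hqa, hqb, hab, hind⟩ := h
  obtain ⟨x, hx1, hx2⟩ := exists_dual_vec hQ ⟨ha0, hqa, hqb, hab, hind⟩
  have e : (eg Q a' b').1 x = (eg Q a b).1 x := by rw [he]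
  rw [eg_pair_app h', eg_pair_app ⟨ha0, hqa, hqb, hab, hind⟩] at e
  simp only [hx1, hx2, neg_zero, zero_smul, one_smul,
    add_zero, add_right_inj, ha, hb, polar_add_left, polar_smul_left, smul_eq_mul, mul_one, mul_zero] at e
  have e1 : ((-γ') * δ - (-δ') * γ - 1) • b = 0 := by
    linear_combination (norm := module) e
  rcases smul_eq_zero.1 e1 with h0 | h0
  · exact sub_eq_zero.1 h0
  · exact absurd (h0.trans (zero_smul F a).symm) (hind 0)

variable (hQ : (polarBilin Q).Nondegenerate) (hd : 7 ≤ finrank F V)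
include hQ hd

/-- The derived group is transitive on bases of totally singular planes. -/
theorem pair_move {a b a' b' : V} (h : (a, b) ∈ TSPairs Q) (h' : (a', b') ∈ TSPairs Q) :
    ∃ g ∈ Om Q, g.1 a = a' ∧ g.1 b = b' := by
  have hn : 5 ≤ finrank F V := by omega
  obtain ⟨ha0, ha, hb, hab, hind⟩ := h
  obtain ⟨ha0', ha', hb', hab', hind'⟩ := h'
  obtain ⟨e₁, w₁, e₂, w₂, q1, p1, q2, p2, e⟩ := level_move hQ hn ha0 ha0' (ha.trans ha'.symm)
  set g₁ := eg Q e₂ w₂ * eg Q e₁ w₁ with hg₁
  have hg₁m : g₁ ∈ Om Q := mul_mem (eg_mem Q hQ hn q2 p2) (eg_mem Q hQ hn q1 p1)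
  have hg₁a : g₁.1 a = a' := e
  set b₁ := g₁.1 b
  have hab₁ : polar Q a' b₁ = 0 := by rw [← hg₁a, polar_iso, hab]
  have hb₁ : Q b₁ = 0 := by rw [g₁.2, hb]
  have hind₁ : ∀ t : F, b₁ ≠ t • a' := fun t ht => hind t (g₁.1.injective (by rw [map_smul, hg₁a]; exact ht))
  obtain ⟨w, hw, haw⟩ := exists_partner Q hQ ha0' ha'
  have hH : Hyp Q a' w := ⟨ha', hw, haw⟩
  have dec : ∀ x, Q x = 0 → polar Q a' x = 0 → (∀ t : F, x ≠ t • a') →
      x = OmegaMin.proj Q a' w x + polar Q w x • a' ∧ Q (OmegaMin.proj Q a' w x) = 0 ∧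
        OmegaMin.proj Q a' w x ≠ 0 := by
    intro x hx hax hx'
    have hdec : x = OmegaMin.proj Q a' w x + polar Q w x • a' := by
      have := hH.decomp x
      rwa [hax, zero_smul, add_zero] at this
    refine ⟨hdec, ?_, fun h0 => hx' _ (by rw [h0, zero_add] at hdec; exact hdec)⟩
    have := (hH.parts (hH.proj_mem x) (polar Q w x) 0).2.2
    rw [zero_smul, add_zero, ← hdec, hx, mul_zero, add_zero] at this
    exact this.symm
  obtain ⟨d1, q1', n1⟩ := dec b₁ hb₁ hab₁ hind₁
  obtain ⟨d2, q2', n2⟩ := dec b' hb' hab' hind'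
  set y₁ := OmegaMin.proj Q a' w b₁
  set y' := OmegaMin.proj Q a' w b'
  have hd5 : 5 ≤ finrank F (perp Q a' w) := by have := hH.finrank_perp; omega
  obtain ⟨g₂, hg₂m, hg₂a, -, hg₂y, -⟩ := perp_move hQ hn hH hd5 (hH.proj_mem b₁) (hH.proj_mem b') n1 n2
    (q1'.trans q2'.symm)
  obtain ⟨z0, hz0, hyz⟩ := exists_partner (Q.comp (perp Q a' w).subtype) (perp_nondeg Q hQ ha' hw haw)
    (e := ⟨y', hH.proj_mem b'⟩) (fun e => n2 (congrArg Subtype.val e)) q2'
  rw [sub_polar] at hyz
  set c := polar Q w b₁ - polar Q w b'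
  obtain ⟨hz1, hz2⟩ := (mem_perp Q).1 z0.2
  have haz : polar Q a' (c • z0.1) = 0 := by rw [polar_smul_right, hz1, smul_zero]
  refine ⟨eg Q a' (c • z0.1) * g₂ * g₁, mul_mem (mul_mem (eg_mem Q hQ hn ha' haz) hg₂m.2) hg₁m, ?_, ?_⟩
  · rw [mul_app, mul_app, hg₁a, hg₂a, eg_self ha' haz]
  · rw [mul_app, mul_app]
    show (eg Q a' (c • z0.1)).1 (g₂.1 b₁) = b'
    rw [d1, map_add, map_smul, hg₂y, hg₂a, map_add, map_smul, eg_self ha' haz, eg_app ha' haz]
    rw [show polar Q a' y' = 0 from ((mem_perp Q).1 (hH.proj_mem b')).1, polar_smul_left,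
      polar_comm Q z0.1 y', hyz]
    conv_rhs => rw [d2]
    simp only [smul_eq_mul, mul_one, mul_zero, sub_zero, zero_smul, zero_add, c]
    module

/-- Root elements are conjugate. -/
theorem eg_isConj {a b a' b' : V} (h : (a, b) ∈ TSPairs Q) (h' : (a', b') ∈ TSPairs Q) :
    ∃ g ∈ Om Q, g * eg Q a b * g⁻¹ = eg Q a' b' := by
  obtain ⟨g, hg, h1, h2⟩ := pair_move hQ hd h h'
  exact ⟨g, hg, by rw [eg_conj h.2.1 h.2.2.2.1, h1, h2]⟩

/-- A normal subgroup with a root element contains the derived group. -/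
theorem om_le_of_root {K : Subgroup (quadIso Q)} (hK : ∀ g ∈ Om Q, ∀ x ∈ K, g * x * g⁻¹ ∈ K)
    {a b : V} (h : (a, b) ∈ TSPairs Q) (hab : eg Q a b ∈ K) : Om Q ≤ K := by
  refine le_om_of_eg Q hQ (by omega) K fun u w hu huw hw => ?_
  by_cases hu0 : u = 0
  · rw [hu0, eg_zero_left]; exact one_mem _
  by_cases hdep : ∃ t : F, w = t • u
  · obtain ⟨t, rfl⟩ := hdep
    rw [eg_line hu]; exact one_mem _
  push Not at hdep
  obtain ⟨g, hg, e⟩ := eg_isConj hQ hd h (show (u, w) ∈ TSPairs Q from ⟨hu0, hu, hw, huw, hdep⟩)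
  rw [← e]
  exact hK g hg _ hab

omit hd in
/-- The vectors completing a singular vector to a totally singular plane. -/
theorem card_fibre (s : ℕ) (hs : cnt Q (0 : F) = Fintype.card F * (s + 1) +
    (Fintype.card F - 1) * Fintype.card F ^ (finrank F V - 2)) {a : V} (ha0 : a ≠ 0) (ha : Q a = 0) :
    Nat.card {b : V // (a, b) ∈ TSPairs Q} = Fintype.card F * s := by
  classical
  haveI : Finite V := finite_space F V
  obtain ⟨w, hw, haw⟩ := exists_partner Q hQ ha0 ha
  have hH : Hyp Q a w := ⟨ha, hw, haw⟩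
  have hsing : (Sing (Q.comp (perp Q a w).subtype)).ncard = s := by
    have h1 := hH.cnt_split (0 : F)
    have h2 := sing_card (Q := Q.comp (perp Q a w).subtype)
    have h3 : finrank F (perp Q a w) = finrank F V - 2 := by have := hH.finrank_perp; omega
    rw [hs, h3] at h1
    have := Nat.eq_of_mul_eq_mul_left Fintype.card_pos (Nat.add_right_cancel h1)
    omega
  let e : {b : V // (a, b) ∈ TSPairs Q} ≃ F × Sing (Q.comp (perp Q a w).subtype) :=
    { toFun := fun b => (polar Q w b.1, ⟨⟨OmegaMin.proj Q a w b.1, hH.proj_mem _⟩, by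
        obtain ⟨-, -, hb, hab, hind⟩ := b.2
        dsimp only at hb hab hind
        have hdec := hH.decomp b.1
        rw [hab, zero_smul, add_zero] at hdec
        refine ⟨fun e => hind (polar Q w b.1) ?_, ?_⟩
        · rw [show OmegaMin.proj Q a w b.1 = 0 from congrArg Subtype.val e, zero_add] at hdec
          exact hdec
        · show Q (OmegaMin.proj Q a w b.1) = 0
          have := (hH.parts (hH.proj_mem b.1) (polar Q w b.1) 0).2.2
          rw [zero_smul, add_zero, ← hdec, hb, mul_zero, add_zero] at this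
          exact this.symm⟩)
      invFun := fun p => ⟨p.2.1.1 + p.1 • a, by
        obtain ⟨h1, h2, h3⟩ := hH.parts p.2.1.2 p.1 0
        rw [zero_smul, add_zero] at h1 h2 h3
        refine ⟨ha0, ha, ?_, h2, fun t e => p.2.2.1 (Subtype.ext ?_)⟩
        · show Q (p.2.1.1 + p.1 • a) = 0
          rw [h3, mul_zero, add_zero]; exact p.2.2.2
        · have h4 : OmegaMin.proj Q a w (p.2.1.1 + p.1 • a) = OmegaMin.proj Q a w (t • a) := congrArg _ e
          rw [proj_add, proj_line hH, proj_line hH, add_zero, proj_eq p.2.1.2] at h4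
          exact h4⟩
      left_inv := fun b => Subtype.ext (by
        have hab : polar Q a b.1 = 0 := b.2.2.2.2.1
        have hdec := hH.decomp b.1
        rw [hab, zero_smul, add_zero] at hdec
        exact hdec.symm)
      right_inv := fun p => by
        obtain ⟨h1, -, -⟩ := hH.parts p.2.1.2 p.1 0
        rw [zero_smul, add_zero] at h1
        refine Prod.ext h1 (Subtype.ext (Subtype.ext ?_))
        show OmegaMin.proj Q a w (p.2.1.1 + p.1 • a) = _
        rw [proj_add, proj_line hH, add_zero, proj_eq p.2.1.2] }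
  rw [Nat.card_congr e, Nat.card_prod, Nat.card_eq_fintype_card, Nat.card_coe_set_eq, hsing]

omit hd in
/-- The number of bases of totally singular planes. -/
theorem card_pairs (s : ℕ) (hs : cnt Q (0 : F) = Fintype.card F * (s + 1) +
    (Fintype.card F - 1) * Fintype.card F ^ (finrank F V - 2)) :
    (TSPairs Q).ncard = (Sing Q).ncard * (Fintype.card F * s) := by
  classical
  haveI : Finite V := finite_space F V
  haveI := Fintype.ofFinite V
  let e : TSPairs Q ≃ Σ a : Sing Q, {b : V // (a.1, b) ∈ TSPairs Q} :=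
    { toFun := fun p => ⟨⟨p.1.1, p.2.1, p.2.2.1⟩, p.1.2, p.2⟩
      invFun := fun x => ⟨(x.1.1, x.2.1), x.2.2⟩
      left_inv := fun _ => rfl
      right_inv := fun _ => rfl }
  rw [← Nat.card_coe_set_eq, Nat.card_congr e, Nat.card_sigma,
    Finset.sum_congr rfl fun a _ => card_fibre hQ s hs a.2.1 a.2.2, Finset.sum_const, smul_eq_mul,
    Finset.card_univ, ← Nat.card_eq_fintype_card, Nat.card_coe_set_eq]

omit hQ hd in
theorem card_det_one : Nat.card {x : F × F × F × F // x.1 * x.2.2.2 - x.2.1 * x.2.2.1 = 1} + Fintype.card F =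
    Fintype.card F ^ 3 := by
  classical
  let e : {x : F × F × F × F // x.1 * x.2.2.2 - x.2.1 * x.2.2.1 = 1} ≃
      ({a : F // a ≠ 0} × F × F) ⊕ ({b : F // b ≠ 0} × F) :=
    { toFun := fun x => if h : x.1.1 = 0
        then Sum.inr (⟨x.1.2.1, fun h' => by have := x.2; rw [h, h'] at this; simp at this⟩, x.1.2.2.2)
        else Sum.inl (⟨x.1.1, h⟩, x.1.2.1, x.1.2.2.1)
      invFun := Sum.elim (fun p => ⟨(p.1.1, p.2.1, p.2.2, (1 + p.2.1 * p.2.2) / p.1.1), by
          show p.1.1 * ((1 + p.2.1 * p.2.2) / p.1.1) - p.2.1 * p.2.2 = 1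
          rw [mul_div_cancel₀ _ p.1.2, add_sub_cancel_right]⟩)
        (fun p => ⟨(0, p.1.1, -p.1.1⁻¹, p.2), by simp [p.1.2]⟩)
      left_inv := fun x => by
        obtain ⟨⟨a, b, c, d⟩, hx⟩ := x
        dsimp only at hx
        by_cases h : a = 0
        · subst h
          have hb : b ≠ 0 := fun h' => by subst h'; simp at hx
          simp only [dite_true, Sum.elim_inr, Subtype.mk.injEq, Prod.mk.injEq, true_and, and_true]
          field_simp
          linear_combination hx
        · simp only [h, dite_false, Sum.elim_inl, Subtype.mk.injEq, Prod.mk.injEq, true_and]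
          field_simp
          linear_combination -hx
      right_inv := fun p => by
        rcases p with ⟨⟨a, ha⟩, b, c⟩ | ⟨⟨b, hb⟩, d⟩
        · simp [ha]
        · simp }
  obtain ⟨p, hp⟩ : ∃ p, Fintype.card F = p + 1 := ⟨Fintype.card F - 1, by
    have := Fintype.card_pos (α := F); omega⟩
  rw [Nat.card_congr e, Nat.card_sum, Nat.card_prod, Nat.card_prod, Nat.card_prod, Nat.card_eq_fintype_card (α := F),
    Nat.card_eq_fintype_card (α := {a : F // a ≠ 0}), Fintype.card_subtype_compl, Fintype.card_subtype_eq, hp,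
    Nat.add_sub_cancel]
  ring

/-- The size of the class of root elements. -/
theorem class_card (s : ℕ) (hs : cnt Q (0 : F) = Fintype.card F * (s + 1) +
    (Fintype.card F - 1) * Fintype.card F ^ (finrank F V - 2)) {a b : V} (h : (a, b) ∈ TSPairs Q) :
    Nat.card {x : quadIso Q // ∃ g ∈ Om Q, g * eg Q a b * g⁻¹ = x} * (Fintype.card F ^ 3 - Fintype.card F) =
      (Sing Q).ncard * (Fintype.card F * s) := by
  classical
  haveI : Finite V := finite_space F V
  haveI := Fintype.ofFinite V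
  rw [← card_pairs hQ s hs]
  let T : Set (quadIso Q) := {x | ∃ g ∈ Om Q, g * eg Q a b * g⁻¹ = x}
  let π : TSPairs Q → T := fun p => ⟨eg Q p.1.1 p.1.2, eg_isConj hQ hd h p.2⟩
  have hπ : Function.Surjective π := fun x => by
    obtain ⟨g, hg, e⟩ := x.2
    obtain ⟨ha0, ha, hb, hab, hind⟩ := h
    have hm : (g.1 a, g.1 b) ∈ TSPairs Q := ⟨fun h0 => ha0 (g.1.map_eq_zero_iff.1 h0), by rw [g.2]; exact ha,
      by rw [g.2]; exact hb, by rw [polar_iso]; exact hab,
      fun t ht => hind t (g.1.injective (by rw [map_smul]; exact ht))⟩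
    exact ⟨⟨_, hm⟩, Subtype.ext (by rw [← e, eg_conj ha hab])⟩
  haveI : Finite T := Finite.of_surjective π hπ
  haveI := Fintype.ofFinite T
  have hfib : ∀ x : T, Nat.card {p : TSPairs Q // π p = x} = Fintype.card F ^ 3 - Fintype.card F := by
    intro x
    obtain ⟨⟨⟨u, v⟩, huv⟩, rfl⟩ := hπ x
    rw [← card_det_one (F := F), Nat.add_sub_cancel]
    symm
    refine Nat.card_eq_of_bijective (fun y => ⟨⟨(y.1.1 • u + y.1.2.1 • v, y.1.2.2.1 • u + y.1.2.2.2 • v), ?_⟩, ?_⟩) ⟨?_, ?_⟩
    · obtain ⟨hu0, hu, hv, huv', hind⟩ := huv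
      dsimp only at hu0 hu hv huv' hind
      have hvu : polar Q v u = 0 := by rw [polar_comm, huv']
      refine ⟨fun e => ?_, ?_, ?_, ?_, fun t e => ?_⟩
      · dsimp only at e
        rcases eq_or_ne y.1.2.1 0 with hb0 | hb0
        · rw [hb0, zero_smul, add_zero, smul_eq_zero] at e
          rcases e with e | e
          · have := y.2; rw [hb0, e] at this; simp at this
          · exact hu0 e
        · refine hind (-(y.1.2.1)⁻¹ * y.1.1) ?_
          rw [← sub_eq_zero, ← smul_eq_zero_iff_right hb0, smul_sub, smul_smul]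
          linear_combination (norm := (match_scalars <;> field_simp <;> ring)) e
      · show Q _ = 0
        rw [QuadraticMap.map_add Q, QuadraticMap.map_smul, QuadraticMap.map_smul, hu, hv]
        simp [polar_smul_left, polar_smul_right, huv']
      · show Q _ = 0
        rw [QuadraticMap.map_add Q, QuadraticMap.map_smul, QuadraticMap.map_smul, hu, hv]
        simp [polar_smul_left, polar_smul_right, huv']
      · simp [polar_add_left, polar_add_right, polar_smul_left, polar_smul_right, huv', hvu, pol_sing Q hu,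
          pol_sing Q hv, hu, hv]
      · dsimp only at e
        have h1 : (y.1.2.2.1 - t * y.1.1) • u + (y.1.2.2.2 - t * y.1.2.1) • v = 0 := by
          linear_combination (norm := module) e
        rcases eq_or_ne (y.1.2.2.2 - t * y.1.2.1) 0 with h2 | h2
        · rw [h2, zero_smul, add_zero, smul_eq_zero] at h1
          rcases h1 with h1 | h1
          · have := y.2
            rw [sub_eq_zero.1 h2, sub_eq_zero.1 h1] at this
            exact zero_ne_one ((by ring : y.1.1 * (t * y.1.2.1) - y.1.2.1 * (t * y.1.1) = 0).symm.trans this)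
          · exact hu0 h1
        · refine hind (-(y.1.2.2.2 - t * y.1.2.1)⁻¹ * (y.1.2.2.1 - t * y.1.1)) ?_
          rw [← sub_eq_zero, ← smul_eq_zero_iff_right h2, smul_sub, smul_smul]
          linear_combination (norm := (match_scalars <;> field_simp <;> ring)) h1
    · exact Subtype.ext (eg_sl huv _ _ _ _ y.2)
    · intro y y' e
      have e1 := congrArg (fun p : {p : TSPairs Q // π p = π ⟨(u, v), huv⟩} => p.1.1) e
      simp only [Prod.mk.injEq] at e1
      have hli : ∀ p p' r r' : F, p • u + p' • v = r • u + r' • v → p = r ∧ p' = r' := by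
        intro p p' r r' e
        have e' : (p - r) • u + (p' - r') • v = 0 := by linear_combination (norm := module) e
        rcases eq_or_ne (p' - r') 0 with h' | h'
        · rw [h', zero_smul, add_zero, smul_eq_zero] at e'
          exact ⟨sub_eq_zero.1 (e'.resolve_right huv.1), sub_eq_zero.1 h'⟩
        · refine absurd ?_ (huv.2.2.2.2 (-(p' - r')⁻¹ * (p - r)))
          show v = _
          rw [← sub_eq_zero, ← smul_eq_zero_iff_right h', smul_sub, smul_smul]
          linear_combination (norm := (match_scalars <;> field_simp <;> ring)) e'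
      obtain ⟨h1, h2⟩ := hli _ _ _ _ e1.1
      obtain ⟨h3, h4⟩ := hli _ _ _ _ e1.2
      exact Subtype.ext (Prod.ext h1 (Prod.ext h2 (Prod.ext h3 h4)))
    · rintro ⟨⟨⟨u', v'⟩, hp⟩, e⟩
      obtain ⟨α, β, γ, δ, hdet, h1, h2⟩ := eg_eq_pairs hQ huv hp (congrArg Subtype.val e)
      exact ⟨⟨(α, β, γ, δ), hdet⟩, Subtype.ext (Subtype.ext (Prod.ext h1.symm h2.symm))⟩
  show Nat.card T * _ = _
  rw [← Nat.card_coe_set_eq (TSPairs Q), ← Nat.card_congr (Equiv.sigmaFiberEquiv π), Nat.card_sigma,
    Finset.sum_congr rfl fun x _ => hfib x, Finset.sum_const, smul_eq_mul, Finset.card_univ,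
    Nat.card_eq_fintype_card]

end CfsgLib.OrthDeg
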