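import Mathlib
import Cfsg.Agent.Lib.Lagrangian
import Cfsg.Agent.Lib.OmegaMin.Basic
import Cfsg.Agent.Lib.OrthDeg.AltNormal
import Cfsg.Agent.Lib.OrthDeg.RootClass

/-! The Siegel parabolic of the plus-type orthogonal group. -/

set_option autoImplicit false

namespace CfsgLib.OrthDeg

open Matrix QuadraticMap CfsgLib.WittExtension CfsgLib.OmegaMin
open CfsgLib.Lagrangian (Qp Qp_apply)
open scoped commutatorElement

variable {F : Type*} [Field F] {n : ℕ}

theorem qp_dot (v : Fin n ⊕ Fin n → F) : Qp n F v = (v ∘ Sum.inl) ⬝ᵥ (v ∘ Sum.inr) := by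
  simp [Qp_apply, Cfsg.quadFormPlus, dotProduct]

theorem alt_dot (B : Alt F n) (y : Fin n → F) : (B.1 *ᵥ y) ⬝ᵥ y = 0 := by
  simp only [mulVec, dotProduct, Finset.sum_mul]
  have h := sum_split (fun i j => y i * y j) B
  rw [Finset.sum_eq_zero (s := Finset.univ) (f := fun i => ∑ j, if i < j then (y i * y j - y j * y i) * B.1 i j else 0)
    (fun i _ => Finset.sum_eq_zero fun j _ => by rw [mul_comm (y j), sub_self, zero_mul, ite_self])] at h
  rw [← h]
  exact Finset.sum_congr rfl fun i _ => Finset.sum_congr rfl fun j _ => by ring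

/-- The unipotent radical. -/
def zq (B : Alt F n) : quadIso (Qp n F) :=
  ⟨{ toFun := fun v => Sum.elim (v ∘ Sum.inl + B.1 *ᵥ (v ∘ Sum.inr)) (v ∘ Sum.inr)
     map_add' := fun u v => by
       funext s; cases s <;>
         simp [show (u + v) ∘ Sum.inr = u ∘ Sum.inr + v ∘ Sum.inr from rfl, mulVec_add, add_add_add_comm]
     map_smul' := fun c v => by
       funext s; cases s <;> simp [show (c • v) ∘ Sum.inr = c • (v ∘ Sum.inr) from rfl, mulVec_smul, mul_add]
     invFun := fun v => Sum.elim (v ∘ Sum.inl - B.1 *ᵥ (v ∘ Sum.inr)) (v ∘ Sum.inr)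
     left_inv := fun v => by funext s; cases s <;> simp
     right_inv := fun v => by funext s; cases s <;> simp },
   fun v => by
     rw [qp_dot, qp_dot]
     show (v ∘ Sum.inl + B.1 *ᵥ (v ∘ Sum.inr)) ⬝ᵥ (v ∘ Sum.inr) = _
     rw [add_dotProduct, alt_dot, add_zero]⟩

theorem zq_inl (B : Alt F n) (v : Fin n ⊕ Fin n → F) (i : Fin n) :
    (zq B).1 v (Sum.inl i) = v (Sum.inl i) + (B.1 *ᵥ (v ∘ Sum.inr)) i := rfl

theorem zq_inr (B : Alt F n) (v : Fin n ⊕ Fin n → F) (i : Fin n) :
    (zq B).1 v (Sum.inr i) = v (Sum.inr i) := rfl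

theorem zq_add (A B : Alt F n) : zq (A + B) = zq A * zq B := iso_ext _ fun v => by
  funext s
  rw [mul_app]
  rcases s with i | i
  · rw [zq_inl, zq_inl, zq_inl, show ((zq B).1 v) ∘ Sum.inr = v ∘ Sum.inr from rfl, Submodule.coe_add, add_mulVec,
      Pi.add_apply]
    ring
  · rfl

/-- The Levi subgroup. -/
noncomputable def lq (g : GL (Fin n) F) : quadIso (Qp n F) :=
  ⟨{ toFun := fun v => Sum.elim (g.1 *ᵥ (v ∘ Sum.inl)) ((g⁻¹).1ᵀ *ᵥ (v ∘ Sum.inr))
     map_add' := fun u v => by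
       funext s; cases s <;>
         simp [show (u + v) ∘ Sum.inl = u ∘ Sum.inl + v ∘ Sum.inl from rfl,
           show (u + v) ∘ Sum.inr = u ∘ Sum.inr + v ∘ Sum.inr from rfl, mulVec_add]
     map_smul' := fun c v => by
       funext s; cases s <;>
         simp [show (c • v) ∘ Sum.inl = c • (v ∘ Sum.inl) from rfl,
           show (c • v) ∘ Sum.inr = c • (v ∘ Sum.inr) from rfl, mulVec_smul]
     invFun := fun v => Sum.elim ((g⁻¹).1 *ᵥ (v ∘ Sum.inl)) (g.1ᵀ *ᵥ (v ∘ Sum.inr))
     left_inv := fun v => by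
       funext s
       cases s <;> simp [mulVec_mulVec, ← transpose_mul]
     right_inv := fun v => by
       funext s
       cases s <;> simp [mulVec_mulVec, ← transpose_mul] },
   fun v => by
     rw [qp_dot, qp_dot]
     show (g.1 *ᵥ _) ⬝ᵥ ((g⁻¹).1ᵀ *ᵥ _) = _
     rw [dotProduct_mulVec, vecMul_transpose, mulVec_mulVec, ← Units.val_mul, inv_mul_cancel, Units.val_one,
       one_mulVec]⟩

theorem lq_inl (g : GL (Fin n) F) (v : Fin n ⊕ Fin n → F) (i : Fin n) :
    (lq g).1 v (Sum.inl i) = (g.1 *ᵥ (v ∘ Sum.inl)) i := rfl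

theorem lq_inr (g : GL (Fin n) F) (v : Fin n ⊕ Fin n → F) (i : Fin n) :
    (lq g).1 v (Sum.inr i) = ((g⁻¹).1ᵀ *ᵥ (v ∘ Sum.inr)) i := rfl

theorem lq_mul (g h : GL (Fin n) F) : lq (g * h) = lq g * lq h := iso_ext _ fun v => by
  funext s
  rw [mul_app]
  rcases s with i | i
  · rw [lq_inl, lq_inl, show ((lq h).1 v) ∘ Sum.inl = h.1 *ᵥ (v ∘ Sum.inl) from rfl, mulVec_mulVec, Units.val_mul]
  · rw [lq_inr, lq_inr, show ((lq h).1 v) ∘ Sum.inr = (h⁻¹).1ᵀ *ᵥ (v ∘ Sum.inr) from rfl, mulVec_mulVec,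
      ← transpose_mul, ← Units.val_mul, _root_.mul_inv_rev]

/-- The Levi subgroup as a homomorphism. -/
noncomputable def lqHom : GL (Fin n) F →* quadIso (Qp n F) := MonoidHom.mk' lq lq_mul

theorem lq_zq (g : GL (Fin n) F) (B : Alt F n) : lq g * zq B = zq (act g.1ᵀ B) * lq g := iso_ext _ fun v => by
  funext s
  rw [mul_app, mul_app]
  rcases s with i | i
  · rw [lq_inl, zq_inl, lq_inl, show ((zq B).1 v) ∘ Sum.inl = v ∘ Sum.inl + B.1 *ᵥ (v ∘ Sum.inr) from rfl,
      show ((lq g).1 v) ∘ Sum.inr = (g⁻¹).1ᵀ *ᵥ (v ∘ Sum.inr) from rfl, mulVec_add, Pi.add_apply, act_coe,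
      transpose_transpose, mulVec_mulVec, mulVec_mulVec, mul_assoc (g.1 * B.1), ← transpose_mul, ← Units.val_mul,
      inv_mul_cancel, Units.val_one, transpose_one, mul_one]
  · rfl

/-- Permutations of the coordinates respecting the pairing. -/
def pq (π : Equiv.Perm (Fin n ⊕ Fin n)) (h : ∀ v, Qp n F (v ∘ π) = Qp n F v) : quadIso (Qp n F) :=
  ⟨LinearEquiv.funCongrLeft F F π, h⟩

theorem pq_app (π : Equiv.Perm (Fin n ⊕ Fin n)) (h : ∀ v, Qp n F (v ∘ π) = Qp n F v)
    (v : Fin n ⊕ Fin n → F) (s : Fin n ⊕ Fin n) : (pq π h).1 v s = v (π s) := rfl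

/-- The interchange of the pairs indexed by a set. -/
def swE (S : Finset (Fin n)) : Equiv.Perm (Fin n ⊕ Fin n) where
  toFun := Sum.elim (fun i => if i ∈ S then Sum.inr i else Sum.inl i) (fun i => if i ∈ S then Sum.inl i else Sum.inr i)
  invFun := Sum.elim (fun i => if i ∈ S then Sum.inr i else Sum.inl i) (fun i => if i ∈ S then Sum.inl i else Sum.inr i)
  left_inv s := by rcases s with i | i <;> by_cases h : i ∈ S <;> simp [h]
  right_inv s := by rcases s with i | i <;> by_cases h : i ∈ S <;> simp [h]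

/-- The interchange as an isometry. -/
def sw (S : Finset (Fin n)) : quadIso (Qp n F) := pq (swE S) fun v => by
  simp only [Qp_apply, Cfsg.quadFormPlus, Function.comp_apply]
  refine Finset.sum_congr rfl fun i _ => ?_
  by_cases h : i ∈ S <;> simp [swE, h, mul_comm]

theorem sw_inl (S : Finset (Fin n)) (v : Fin n ⊕ Fin n → F) (i : Fin n) :
    (sw S : quadIso (Qp n F)).1 v (Sum.inl i) = if i ∈ S then v (Sum.inr i) else v (Sum.inl i) := by
  show v (swE S (Sum.inl i)) = _
  by_cases h : i ∈ S <;> simp [swE, h]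

theorem sw_inr (S : Finset (Fin n)) (v : Fin n ⊕ Fin n → F) (i : Fin n) :
    (sw S : quadIso (Qp n F)).1 v (Sum.inr i) = if i ∈ S then v (Sum.inl i) else v (Sum.inr i) := by
  show v (swE S (Sum.inr i)) = _
  by_cases h : i ∈ S <;> simp [swE, h]

theorem sw_sq (S : Finset (Fin n)) : (sw S : quadIso (Qp n F)) * sw S = 1 := iso_ext _ fun v => by
  funext s
  rw [mul_app, one_app]
  rcases s with i | i <;> by_cases h : i ∈ S <;> simp [sw_inl, sw_inr, h]

theorem sw_inv (S : Finset (Fin n)) : (sw S : quadIso (Qp n F))⁻¹ = sw S :=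
  inv_eq_of_mul_eq_one_right (sw_sq S)

theorem comm_mem (a b : quadIso (Qp n F)) : a * b * a⁻¹ * b⁻¹ ∈ Om (Qp n F) :=
  Subgroup.commutator_mem_commutator (Subgroup.mem_top a) (Subgroup.mem_top b)

/-- An interchange of two pairs lies in the derived group. -/
theorem sw_pair_mem {i j : Fin n} (hij : i ≠ j) : (sw {i, j} : quadIso (Qp n F)) ∈ Om (Qp n F) := by
  let π : Equiv.Perm (Fin n ⊕ Fin n) := Equiv.sumCongr (Equiv.swap i j) (Equiv.swap i j)
  have hπ : ∀ v, Qp n F (v ∘ π) = Qp n F v := fun v => by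
    simp only [Qp_apply, Cfsg.quadFormPlus, Function.comp_apply]
    exact Fintype.sum_equiv (Equiv.swap i j) _ _ fun k => by simp [π]
  have h2 : pq π hπ * pq π hπ = (1 : quadIso (Qp n F)) := iso_ext _ fun v => by
    funext s
    rw [mul_app, one_app, pq_app, pq_app]
    rcases s with k | k <;> simp [π]
  have e : (sw {i, j} : quadIso (Qp n F)) = sw {i} * pq π hπ * (sw {i})⁻¹ * (pq π hπ)⁻¹ := by
    rw [sw_inv, inv_eq_of_mul_eq_one_right h2]
    refine iso_ext _ fun v => ?_
    funext s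
    simp only [mul_app]
    rcases s with k | k <;>
      by_cases h1 : k = i <;> by_cases h2 : k = j <;>
      simp_all [sw_inl, sw_inr, pq_app, π, Equiv.swap_apply_def, Ne.symm]
  rw [e]
  exact comm_mem _ _

theorem act_smul_one (c : F) (B : Alt F n) : act (c • (1 : Matrix (Fin n) (Fin n) F)) B = (c * c) • B :=
  Subtype.ext (by simp [act_coe, smul_smul])

/-- The radical lies in the derived group. -/
theorem zq_mem {μ : F} (hμ : μ * μ ≠ 1) (hμ0 : μ ≠ 0) (B : Alt F n) : zq B ∈ Om (Qp n F) := by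
  let g : GL (Fin n) F := Matrix.GeneralLinearGroup.mkOfDetNeZero (μ • 1) (by simp [hμ0])
  have hg : g.1ᵀ = μ • 1 := by simp [g]
  have h1 : μ * μ - 1 ≠ 0 := sub_ne_zero.2 hμ
  set B' : Alt F n := (μ * μ - 1)⁻¹ • B with hB'
  have e : zq B = lq g * zq B' * (lq g)⁻¹ * (zq B')⁻¹ := by
    rw [eq_mul_inv_iff_mul_eq, eq_mul_inv_iff_mul_eq, ← zq_add, lq_zq, hg, act_smul_one, hB']
    congr 2
    rw [smul_smul, show μ * μ * (μ * μ - 1)⁻¹ = 1 + (μ * μ - 1)⁻¹ by linear_combination mul_inv_cancel₀ h1, add_smul, one_smul]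
  rw [e]
  exact comm_mem _ _

/-- Levi elements with square determinant lie in the derived group. -/
theorem lq_mem (hn : 3 ≤ n) {g : GL (Fin n) F} (hg : IsSquare g.1.det) : lq g ∈ Om (Qp n F) := by
  let φ : Matrix.SpecialLinearGroup (Fin n) F →* quadIso (Qp n F) :=
    lqHom.comp Matrix.SpecialLinearGroup.toGL
  have hsl : ∀ h, φ h ∈ Om (Qp n F) := fun h => by
    have hle : (commutator (Matrix.SpecialLinearGroup (Fin n) F)).map φ ≤ Om (Qp n F) := by
      rw [Om, _root_.commutator_def, _root_.commutator_def, Subgroup.map_commutator]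
      exact Subgroup.commutator_mono le_top le_top
    exact hle ⟨h, by rw [CfsgLib.SLPerfect.commutator_eq_top hn]; exact Subgroup.mem_top _, rfl⟩
  obtain ⟨μ, hμ⟩ := hg
  have hdet : g.1.det ≠ 0 := Matrix.GeneralLinearGroup.det_ne_zero g
  have hμ0 : μ ≠ 0 := fun h => hdet (by rw [hμ, h, mul_zero])
  let z : Fin n := ⟨0, by omega⟩
  let d : Fin n → F := Function.update 1 z μ
  have hd : ∀ i, d i ≠ 0 := fun i => by
    by_cases h : i = z <;> simp [d, h, hμ0]
  let D : GL (Fin n) F := Matrix.GeneralLinearGroup.mkOfDetNeZero (Matrix.diagonal d)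
    (by rw [det_diagonal]; exact Finset.prod_ne_zero_iff.2 fun i _ => hd i)
  have hDi : (D⁻¹).1 = Matrix.diagonal (fun i => (d i)⁻¹) := by
    rw [Matrix.coe_units_inv]
    refine Matrix.inv_eq_right_inv ?_
    show Matrix.diagonal d * _ = 1
    rw [diagonal_mul_diagonal, ← diagonal_one]
    exact congrArg _ (funext fun i => mul_inv_cancel₀ (hd i))
  have hDD : lq (D * D) ∈ Om (Qp n F) := by
    have e : lq (D * D) = lq D * sw {z} * (lq D)⁻¹ * (sw {z})⁻¹ := by
      rw [lq_mul, sw_inv, mul_assoc (lq D) (sw {z}), mul_assoc (lq D)]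
      congr 1
      rw [show (lq D)⁻¹ = lq D⁻¹ from (map_inv lqHom D).symm]
      refine iso_ext _ fun v => ?_
      funext s
      simp only [mul_app]
      rcases s with k | k <;> by_cases h : k = z <;>
        simp [sw_inl, sw_inr, lq_inl, lq_inr, hDi, h, mulVec_diagonal, D, d, Function.comp]
    rw [e]; exact comm_mem _ _
  have hr : (g * (D * D)⁻¹).1.det = 1 := by
    have hD : D.1.det = μ := by
      show (Matrix.diagonal d).det = μ
      rw [det_diagonal, Finset.prod_update_of_mem (Finset.mem_univ _)]; simp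
    rw [Units.val_mul, det_mul, Matrix.coe_units_inv, Matrix.det_nonsing_inv, Units.val_mul, det_mul, hD, hμ,
      Ring.inverse_eq_inv', mul_inv_cancel₀ (mul_ne_zero hμ0 hμ0)]
  have e : lq g = φ ⟨(g * (D * D)⁻¹).1, hr⟩ * lq (D * D) := by
    show lq g = lq (Matrix.SpecialLinearGroup.toGL ⟨(g * (D * D)⁻¹).1, hr⟩) * lq (D * D)
    rw [← lq_mul]
    congr 1
    exact Units.ext (show g.1 = (g * (D * D)⁻¹).1 * (D * D).1 by rw [← Units.val_mul, inv_mul_cancel_right])
  rw [e]; exact mul_mem (hsl _) hDD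

theorem root_pair {a b : Fin n} (hab : a ≠ b) :
    ((Pi.single (Sum.inl b) 1 : Fin n ⊕ Fin n → F), Pi.single (Sum.inl a) 1) ∈ TSPairs (Qp n F) := by
  refine ⟨by simp, by simp [Qp_apply, Cfsg.quadFormPlus, Pi.single_apply],
    by simp [Qp_apply, Cfsg.quadFormPlus, Pi.single_apply],
    by simp [polar, Qp_apply, Cfsg.quadFormPlus, Pi.single_apply, add_mul, Finset.sum_add_distrib],
    fun t h => ?_⟩
  have := congrFun h (Sum.inl a)
  simp [hab] at this

theorem pol_inl' (j : Fin n) (x : Fin n ⊕ Fin n → F) :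
    polar (Qp n F) (Pi.single (Sum.inl j) 1) x = x (Sum.inr j) := by
  simp only [polar, Qp_apply, Cfsg.quadFormPlus]
  simp [Pi.single_apply, add_mul, Finset.sum_add_distrib]

/-- The radical contains a long root element. -/
theorem zq_unit_eq {a b : Fin n} (hab : a ≠ b) :
    zq (unit a b hab : Alt F n) = eg (Qp n F) (Pi.single (Sum.inl b) 1) (Pi.single (Sum.inl a) 1) :=
  iso_ext _ fun v => by
    rw [eg_pair_app (root_pair hab), pol_inl', pol_inl']
    funext s
    rcases s with i | i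
    · rw [zq_inl]
      simp [unit, sub_mulVec, Matrix.single_mulVec, Pi.single_apply, Function.update_apply]
      split_ifs <;> simp_all
    · simp [zq_inr]

end CfsgLib.OrthDeg
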