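import Mathlib
import Cfsg.Agent.Lib.OrthDeg.AltNormal
import Cfsg.Agent.Lib.SLMin.Main
import Cfsg.Agent.Lib.SympWeil.Basic

/-! Characters of alternating forms and representations of the Levi subgroup. -/

set_option autoImplicit false

namespace CfsgLib.OrthDeg

open Matrix CfsgLib.SLMin

local notation "ψ" => CfsgLib.SympWeil.ψ

variable {F : Type*} [Field F] {n : ℕ}

theorem pair_smul (C B : Alt F n) (t : F) : pair C (t • B) = t * pair C B := by
  simp only [pair, Finset.mul_sum, mul_ite, mul_zero, Submodule.coe_smul, Matrix.smul_apply, smul_eq_mul]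
  exact Finset.sum_congr rfl fun i _ => Finset.sum_congr rfl fun j _ => by
    split_ifs <;> ring

theorem pair_sub (C C' B : Alt F n) : pair (C - C') B = pair C B - pair C' B := by
  simp only [pair, ← Finset.sum_sub_distrib]
  exact Finset.sum_congr rfl fun i _ => Finset.sum_congr rfl fun j _ => by
    split_ifs <;> simp [sub_mul]

variable [Fintype F]

/-- The character of a form. -/
noncomputable def chi (C : Alt F n) : AddChar (Alt F n) ℂ :=
  ⟨fun B => (ψ : AddChar F ℂ) (pair C B), by rw [pair_zero, AddChar.map_zero_eq_one],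
    fun A B => by rw [pair_add, AddChar.map_add_eq_mul]⟩

theorem chi_apply (C B : Alt F n) : chi C B = (ψ : AddChar F ℂ) (pair C B) := rfl

theorem chi_zero : chi (0 : Alt F n) = 1 := by
  ext B
  rw [chi_apply, AddChar.one_apply, show pair (0 : Alt F n) B = 0 from by simp [pair], AddChar.map_zero_eq_one]

theorem chi_bijective : Function.Bijective (chi : Alt F n → AddChar (Alt F n) ℂ) := by
  classical
  haveI : Fintype (Alt F n) := Fintype.ofFinite _
  refine (Fintype.bijective_iff_injective_and_card _).2 ⟨fun C C' h => ?_, (AddChar.card_eq (α := Alt F n)).symm⟩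
  rw [← sub_eq_zero]
  refine eq_zero_of_pair _ fun B => ?_
  by_contra hne
  obtain ⟨x, hx⟩ := CfsgLib.SympWeil.ψ_ne hne
  apply hx
  have e := DFunLike.congr_fun h (x • B)
  rw [chi_apply, chi_apply, pair_smul, pair_smul] at e
  rw [pair_sub, sub_mul, mul_comm (pair C B), mul_comm (pair C' B), sub_eq_add_neg, AddChar.map_add_eq_mul, e,
    ← AddChar.map_add_eq_mul, add_neg_cancel, AddChar.map_zero_eq_one]

/-- A constituent without fixed vectors of a non-trivial representation. -/
theorem exists_irr_of_nontrivial {H : Type*} [Group H] [Finite H] {W : Type} [AddCommGroup W] [Module ℂ W]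
    [FiniteDimensional ℂ W] (τ : Representation ℂ H W) {g₀ : H} (h0 : τ g₀ ≠ 1) :
    ∃ (U : Type) (_ : AddCommGroup U) (_ : Module ℂ U) (_ : FiniteDimensional ℂ U) (_ : Nontrivial U)
      (σ : Representation ℂ H U), σ.IsIrreducible ∧ NoFix σ ∧ Module.finrank ℂ U ≤ Module.finrank ℂ W := by
  classical
  haveI := Fintype.ofFinite H
  let P : Module.End ℂ W := (Fintype.card H : ℂ)⁻¹ • ∑ g, τ g
  have hl : ∀ h, τ h * P = P := fun h => by
    simp only [P, mul_smul_comm, Finset.mul_sum]
    congr 1
    exact Fintype.sum_equiv (Equiv.mulLeft h) _ _ fun g => (map_mul τ h g).symm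
  have hr : ∀ h, P * τ h = P := fun h => by
    simp only [P, smul_mul_assoc, Finset.sum_mul]
    congr 1
    exact Fintype.sum_equiv (Equiv.mulRight h) _ _ fun g => (map_mul τ g h).symm
  have hinv : ∀ g x, x ∈ LinearMap.ker P → τ g x ∈ LinearMap.ker P := fun g x hx => by
    rw [LinearMap.mem_ker] at hx ⊢
    rw [← Module.End.mul_apply, hr, hx]
  let τ' : Representation ℂ H (LinearMap.ker P) :=
    { toFun := fun g => (τ g).restrict (hinv g)
      map_one' := LinearMap.ext fun x => Subtype.ext (by
        show τ 1 x.1 = x.1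
        rw [map_one]; rfl)
      map_mul' := fun g h => LinearMap.ext fun x => Subtype.ext (by
        show τ (g * h) x.1 = τ g (τ h x.1)
        rw [map_mul]; rfl) }
  have hfix : NoFix τ' := fun w hw => Subtype.ext (by
    have e : P w.1 = w.1 := by
      simp only [P, LinearMap.smul_apply, LinearMap.sum_apply]
      have hg : ∀ g, τ g w.1 = w.1 := fun g => congrArg Subtype.val (hw g)
      simp only [hg]
      rw [Finset.sum_const,
        Finset.card_univ, ← Nat.cast_smul_eq_nsmul ℂ, smul_smul,
        inv_mul_cancel₀ (Nat.cast_ne_zero.2 Fintype.card_ne_zero), one_smul]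
    rw [← e]; exact w.2)
  haveI : Nontrivial (LinearMap.ker P) := by
    rw [Submodule.nontrivial_iff_ne_bot]
    intro hb
    apply h0
    refine LinearMap.ext fun x => LinearMap.ker_eq_bot.1 hb ?_
    rw [← Module.End.mul_apply, hr, Module.End.one_apply]
  obtain ⟨U, σ, hσ, hσf, hU⟩ := exists_irr τ' hfix
  exact ⟨U, inferInstance, inferInstance, inferInstance, hU, σ, hσ, hσf,
    (Submodule.finrank_le U).trans (Submodule.finrank_le _)⟩

end CfsgLib.OrthDeg
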