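import Mathlib
import Cfsg.Agent.Lib.StdQuadForms
import Cfsg.Agent.Lib.OrthDeg.PlusModel
import Cfsg.Agent.Lib.OrthDeg.Tools

/-! The Siegel parabolic of the minus-type orthogonal group. -/

set_option autoImplicit false

namespace CfsgLib.OrthDeg

open Matrix QuadraticMap CfsgLib.WittExtension CfsgLib.OmegaMin CfsgLib.SpinorNorm
open CfsgLib.Lagrangian (Qp Qp_apply Qp_nondeg)
open CfsgLib.StdQuadForms (Qm)

/-- The alternating matrix of two vectors. -/
def wedge {F : Type*} [Field F] {n : ℕ} (a b : Fin n → F) : Alt F n :=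
  ⟨Matrix.of fun i j => a i * b j - a j * b i, fun i => by simp, fun i j => by simp⟩

variable {F : Type*} [Field F] {r : ℕ}

theorem wedge_apply (a b : Fin r → F) (i j : Fin r) : (wedge a b).1 i j = a i * b j - a j * b i := rfl

theorem wedge_smul (c : F) (a b : Fin r → F) : wedge (c • a) b = c • wedge a b :=
  Subtype.ext (Matrix.ext fun i j => by simp [wedge_apply]; ring)

/-- The form attached to a character. -/
def bf (C : Alt F r) (a b : Fin r → F) : F := a ⬝ᵥ (C.1 *ᵥ b)

theorem bf_single (C : Alt F r) (i j : Fin r) : bf C (Pi.single i 1) (Pi.single j 1) = C.1 i j := by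
  simp [bf]

theorem pair_wedge (C : Alt F r) (a b : Fin r → F) : pair C (wedge a b) = bf C a b := by
  simp only [bf, dotProduct, mulVec, Finset.mul_sum]
  rw [show (∑ i, ∑ j, a i * (C.1 i j * b j)) = ∑ i, ∑ j, a i * b j * C.1 i j from
    Finset.sum_congr rfl fun i _ => Finset.sum_congr rfl fun j _ => by ring, sum_split (fun i j => a i * b j) C, pair]
  exact Finset.sum_congr rfl fun i _ => Finset.sum_congr rfl fun j _ => by
    split_ifs
    · rw [wedge_apply]; ring
    · rfl

section forms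

variable (a b : F)

local notation "QM" => Qm (F := F) r a b
local notation "q2" => CfsgLib.OrthOrder.binForm a b

theorem qm_split (v : (Fin r ⊕ Fin r) ⊕ Fin 2 → F) :
    QM v = Qp r F (v ∘ Sum.inl) + q2 (v ∘ Sum.inr) := rfl

theorem polar_split (u v : (Fin r ⊕ Fin r) ⊕ Fin 2 → F) :
    polar QM u v = polar (Qp r F) (u ∘ Sum.inl) (v ∘ Sum.inl) + polar q2 (u ∘ Sum.inr) (v ∘ Sum.inr) := by
  simp only [polar, qm_split]
  rw [show (u + v) ∘ Sum.inl = u ∘ Sum.inl + v ∘ Sum.inl from rfl,
    show (u + v) ∘ Sum.inr = u ∘ Sum.inr + v ∘ Sum.inr from rfl]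
  ring

/-- An isometry of the hyperbolic part. -/
def liftP : quadIso (Qp r F) →* quadIso QM where
  toFun g := ⟨{ toFun := fun v => Sum.elim (g.1 (v ∘ Sum.inl)) (v ∘ Sum.inr)
                map_add' := fun u v => by
                  funext s; cases s <;> simp [show (u + v) ∘ Sum.inl = u ∘ Sum.inl + v ∘ Sum.inl from rfl]
                map_smul' := fun c v => by
                  funext s; cases s <;> simp [show (c • v) ∘ Sum.inl = c • (v ∘ Sum.inl) from rfl]
                invFun := fun v => Sum.elim (g.1.symm (v ∘ Sum.inl)) (v ∘ Sum.inr)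
                left_inv := fun v => by funext s; cases s <;> simp
                right_inv := fun v => by funext s; cases s <;> simp },
    fun v => by
      rw [qm_split, qm_split]
      show Qp r F (g.1 (v ∘ Sum.inl)) + q2 (v ∘ Sum.inr) = _
      rw [g.2]⟩
  map_one' := iso_ext _ fun v => by funext s; cases s <;> rfl
  map_mul' g h := iso_ext _ fun v => by funext s; cases s <;> rfl

theorem liftP_inl (g : quadIso (Qp r F)) (v : (Fin r ⊕ Fin r) ⊕ Fin 2 → F) :
    ((liftP a b g).1 v) ∘ Sum.inl = g.1 (v ∘ Sum.inl) := rfl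

theorem liftP_inr (g : quadIso (Qp r F)) (v : (Fin r ⊕ Fin r) ⊕ Fin 2 → F) :
    ((liftP a b g).1 v) ∘ Sum.inr = v ∘ Sum.inr := rfl

/-- An isometry of the anisotropic part. -/
def liftE : quadIso (CfsgLib.OrthOrder.binForm a b) →* quadIso QM where
  toFun g := ⟨{ toFun := fun v => Sum.elim (v ∘ Sum.inl) (g.1 (v ∘ Sum.inr))
                map_add' := fun u v => by
                  funext s; cases s <;> simp [show (u + v) ∘ Sum.inr = u ∘ Sum.inr + v ∘ Sum.inr from rfl]
                map_smul' := fun c v => by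
                  funext s; cases s <;> simp [show (c • v) ∘ Sum.inr = c • (v ∘ Sum.inr) from rfl]
                invFun := fun v => Sum.elim (v ∘ Sum.inl) (g.1.symm (v ∘ Sum.inr))
                left_inv := fun v => by funext s; cases s <;> simp
                right_inv := fun v => by funext s; cases s <;> simp },
    fun v => by
      rw [qm_split, qm_split]
      show Qp r F (v ∘ Sum.inl) + q2 (g.1 (v ∘ Sum.inr)) = _
      rw [g.2]⟩
  map_one' := iso_ext _ fun v => by funext s; cases s <;> rfl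
  map_mul' g h := iso_ext _ fun v => by funext s; cases s <;> rfl

theorem lift_comm (g : quadIso (Qp r F)) (R : quadIso (CfsgLib.OrthOrder.binForm a b)) :
    liftE a b R * liftP a b g = liftP a b g * liftE a b R := iso_ext _ fun v => by funext s; cases s <;> rfl

/-- Vectors of the standard totally singular space. -/
def ev (v : Fin r → F) : (Fin r ⊕ Fin r) ⊕ Fin 2 → F := Sum.elim (Sum.elim v 0) 0

/-- Vectors of the opposite totally singular space. -/
def fv (v : Fin r → F) : (Fin r ⊕ Fin r) ⊕ Fin 2 → F := Sum.elim (Sum.elim 0 v) 0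

/-- Vectors of the anisotropic part. -/
def zv (w : Fin 2 → F) : (Fin r ⊕ Fin r) ⊕ Fin 2 → F := Sum.elim 0 w

theorem ev_add (u v : Fin r → F) : ev (u + v) = ev u + ev v := by
  funext s; rcases s with (i | i) | i <;> simp [ev]

theorem ev_smul (c : F) (v : Fin r → F) : ev (c • v) = c • ev v := by
  funext s; rcases s with (i | i) | i <;> simp [ev]

theorem zv_add (u v : Fin 2 → F) : (zv (u + v) : (Fin r ⊕ Fin r) ⊕ Fin 2 → F) = zv u + zv v := by
  funext s; rcases s with i | i <;> simp [zv]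

theorem zv_smul (c : F) (v : Fin 2 → F) : (zv (c • v) : (Fin r ⊕ Fin r) ⊕ Fin 2 → F) = c • zv v := by
  funext s; rcases s with i | i <;> simp [zv]

theorem polar_qp (u v : Fin r ⊕ Fin r → F) :
    polar (Qp r F) u v = (u ∘ Sum.inl) ⬝ᵥ (v ∘ Sum.inr) + (v ∘ Sum.inl) ⬝ᵥ (u ∘ Sum.inr) := by
  simp only [polar, qp_dot]
  rw [show (u + v) ∘ Sum.inl = u ∘ Sum.inl + v ∘ Sum.inl from rfl,
    show (u + v) ∘ Sum.inr = u ∘ Sum.inr + v ∘ Sum.inr from rfl, add_dotProduct, dotProduct_add, dotProduct_add]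
  ring

theorem polar_ev (v : Fin r → F) (x : (Fin r ⊕ Fin r) ⊕ Fin 2 → F) :
    polar QM (ev v) x = v ⬝ᵥ (fun i => x (Sum.inl (Sum.inr i))) := by
  rw [polar_split, polar_qp]
  simp [ev, Function.comp_def, show ((fun _ => (0 : F)) : Fin 2 → F) = 0 from rfl, polar_zero_left]

theorem polar_fv (v : Fin r → F) (x : (Fin r ⊕ Fin r) ⊕ Fin 2 → F) :
    polar QM (fv v) x = (fun i => x (Sum.inl (Sum.inl i))) ⬝ᵥ v := by
  rw [polar_split, polar_qp]
  simp [fv, Function.comp_def, show ((fun _ => (0 : F)) : Fin 2 → F) = 0 from rfl, polar_zero_left]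

theorem polar_zv (w : Fin 2 → F) (x : (Fin r ⊕ Fin r) ⊕ Fin 2 → F) :
    polar QM (zv w) x = polar q2 w (x ∘ Sum.inr) := by
  rw [polar_split]
  simp [zv, polar_zero_left]

theorem qm_ev (v : Fin r → F) : QM (ev v) = 0 := by
  rw [qm_split, qp_dot]; simp [ev, Function.comp_def, show ((fun _ => (0 : F)) : Fin 2 → F) = 0 from rfl]

theorem qm_fv (v : Fin r → F) : QM (fv v) = 0 := by
  rw [qm_split, qp_dot]; simp [fv, Function.comp_def, show ((fun _ => (0 : F)) : Fin 2 → F) = 0 from rfl]

theorem qm_zv (w : Fin 2 → F) : QM (zv w) = q2 w := by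
  rw [qm_split]; simp [zv]

theorem polar_ev_zv (v : Fin r → F) (w : Fin 2 → F) : polar QM (ev v) (zv w) = 0 := by
  rw [polar_ev]; simp [zv, dotProduct]

theorem polar_ev_ev (u v : Fin r → F) : polar QM (ev u) (ev v) = 0 := by
  rw [polar_ev]; simp [ev, dotProduct]

/-- The Siegel radical. -/
noncomputable def zB (B : Alt F r) : quadIso QM := liftP a b (zq B)

/-- The Levi subgroup. -/
noncomputable def LG (g : GL (Fin r) F) : quadIso QM := liftP a b (lq g)

/-- The elements covering the radical modulo its derived subgroup. -/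
noncomputable def EU (v : Fin r → F) (w : Fin 2 → F) : quadIso QM := eg QM (ev v) (zv w)

theorem zB_add (A B : Alt F r) : zB a b (A + B) = zB a b A * zB a b B := by
  rw [zB, zq_add, map_mul]; rfl

theorem zB_ev (B : Alt F r) (v : Fin r → F) : (zB a b B).1 (ev v) = ev v := by
  funext s; rcases s with (i | i) | i
  · show (zq B).1 ((ev v) ∘ Sum.inl) (Sum.inl i) = _
    rw [zq_inl]; simp [ev, Function.comp_def, mulVec, dotProduct]
  · rfl
  · rfl

theorem zB_zv (B : Alt F r) (w : Fin 2 → F) : (zB a b B).1 (zv w) = zv w := by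
  funext s; rcases s with (i | i) | i
  · show (zq B).1 ((zv w) ∘ Sum.inl) (Sum.inl i) = _
    rw [zq_inl]; simp [zv, Function.comp_def, mulVec, dotProduct]
  · rfl
  · rfl

theorem EU_add (v : Fin r → F) (w w' : Fin 2 → F) : EU a b v (w + w') = EU a b v w * EU a b v w' := by
  rw [EU, zv_add, eg_add (qm_ev a b v) (polar_ev_zv a b v w) (polar_ev_zv a b v w')]; rfl

theorem EU_zero (v : Fin r → F) : EU a b v 0 = 1 := by
  rw [EU, show (zv (0 : Fin 2 → F) : (Fin r ⊕ Fin r) ⊕ Fin 2 → F) = 0 from by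
    funext s; rcases s with i | i <;> simp [zv]]
  exact eg_zero (qm_ev a b v)

theorem EU_smul (c : F) (v : Fin r → F) (w : Fin 2 → F) : EU a b (c • v) w = EU a b v (c • w) := by
  rw [EU, EU, ev_smul, zv_smul, eg_smul_left (qm_ev a b v) (polar_ev_zv a b v w)]

theorem zB_EU (B : Alt F r) (v : Fin r → F) (w : Fin 2 → F) :
    zB a b B * EU a b v w = EU a b v w * zB a b B := by
  have h := eg_conj (qm_ev a b v) (polar_ev_zv a b v w) (zB a b B)
  rw [zB_ev, zB_zv] at h
  exact mul_inv_eq_iff_eq_mul.1 h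

theorem LG_EU (g : GL (Fin r) F) (v : Fin r → F) (w : Fin 2 → F) :
    LG a b g * EU a b v w = EU a b (g.1 *ᵥ v) w * LG a b g := by
  have h := eg_conj (qm_ev a b v) (polar_ev_zv a b v w) (LG a b g)
  have e1 : (LG a b g).1 (ev v) = ev (g.1 *ᵥ v) := by
    funext s; rcases s with (i | i) | i
    · show (lq g).1 ((ev v) ∘ Sum.inl) (Sum.inl i) = _
      rw [lq_inl]; simp [ev, Function.comp_def]
    · show (lq g).1 ((ev v) ∘ Sum.inl) (Sum.inr i) = _
      rw [lq_inr]; simp [ev, Function.comp_def, mulVec, dotProduct]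
    · rfl
  have e2 : (LG a b g).1 (zv w) = zv w := by
    funext s; rcases s with (i | i) | i
    · show (lq g).1 ((zv w) ∘ Sum.inl) (Sum.inl i) = _
      rw [lq_inl]; simp [zv, Function.comp_def, mulVec, dotProduct]
    · show (lq g).1 ((zv w) ∘ Sum.inl) (Sum.inr i) = _
      rw [lq_inr]; simp [zv, Function.comp_def, mulVec, dotProduct]
    · rfl
  rw [e1, e2] at h
  exact mul_inv_eq_iff_eq_mul.1 h

theorem LG_zB (g : GL (Fin r) F) (B : Alt F r) : LG a b g * zB a b B = zB a b (act g.1ᵀ B) * LG a b g := by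
  rw [LG, zB, zB, ← map_mul, ← map_mul, lq_zq]

theorem RE_EU (R : quadIso (CfsgLib.OrthOrder.binForm a b)) (v : Fin r → F) (w : Fin 2 → F) :
    liftE a b R * EU a b v w = EU a b v (R.1 w) * liftE a b R := by
  have h := eg_conj (qm_ev a b v) (polar_ev_zv a b v w) (liftE a b R)
  have e1 : (liftE a b R).1 (ev v) = ev v := by
    funext s; rcases s with i | i
    · rfl
    · show R.1 ((ev v : (Fin r ⊕ Fin r) ⊕ Fin 2 → F) ∘ Sum.inr) i = _
      simp [ev, show ((fun _ => 0 : Fin 2 → F)) = 0 from rfl, Function.comp_def]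
  have e2 : (liftE a b R).1 (zv w) = (zv (R.1 w) : (Fin r ⊕ Fin r) ⊕ Fin 2 → F) := by
    funext s; rcases s with i | i <;> rfl
  rw [e1, e2] at h
  exact mul_inv_eq_iff_eq_mul.1 h

theorem RE_zB (R : quadIso (CfsgLib.OrthOrder.binForm a b)) (B : Alt F r) :
    liftE a b R * zB a b B = zB a b B * liftE a b R := lift_comm a b _ R

/-- A root element of the radical. -/
theorem eg_ev_ev (u v : Fin r → F) : eg QM (ev u) (ev v) = zB a b (wedge v u) := iso_ext _ fun x => by
  rw [eg_app (qm_ev a b u) (polar_ev_ev a b u v), qm_ev, polar_ev, polar_ev]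
  funext s
  rcases s with (i | i) | i
  · show _ = (zq (wedge v u)).1 (x ∘ Sum.inl) (Sum.inl i)
    rw [zq_inl]
    simp [ev, wedge_apply, mulVec, dotProduct, sub_mul, Finset.sum_sub_distrib, Finset.mul_sum, Finset.sum_mul]
    rw [sub_eq_add_neg]
    congr 1
    · exact Finset.sum_congr rfl fun j _ => by ring
    · rw [neg_inj]; exact Finset.sum_congr rfl fun j _ => by ring
  · simp [ev, zB, liftP, zq]
  · simp [ev, zB, liftP]

/-- Commutators of the covering elements. -/
theorem EU_comm (v v' : Fin r → F) (w w' : Fin 2 → F) :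
    EU a b v w * EU a b v' w' =
      zB a b ((-(polar q2 w w')) • wedge v v') * EU a b v' w' * EU a b v w := by
  have h := eg_conj (qm_ev a b v') (polar_ev_zv a b v' w') (EU a b v w)
  have e1 : (EU a b v w).1 (ev v') = ev v' :=
    eg_fix (qm_ev a b v) (polar_ev_zv a b v w) (polar_ev_ev a b v v')
      (by rw [polar_comm, polar_ev_zv])
  have e2 : (EU a b v w).1 (zv w') = zv w' + (-(polar q2 w w')) • ev v := by
    rw [EU, eg_app (qm_ev a b v) (polar_ev_zv a b v w), polar_ev_zv, polar_zv,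
      show (zv w' : (Fin r ⊕ Fin r) ⊕ Fin 2 → F) ∘ Sum.inr = w' from rfl, zero_smul, mul_zero, sub_zero, zero_add]
  rw [e1, e2, add_comm, eg_add (qm_ev a b v') (by rw [polar_smul_right, polar_ev_ev, smul_zero])
    (polar_ev_zv a b v' w'), ← ev_smul, eg_ev_ev, wedge_smul] at h
  exact mul_inv_eq_iff_eq_mul.1 h

theorem EU_add_left (v v' : Fin r → F) (w : Fin 2 → F) :
    EU a b (v + v') w = zB a b ((-(q2 w)) • wedge v' v) * (EU a b v w * EU a b v' w) := by
  rw [EU, ev_add, eg_add_left (qm_ev a b v) (qm_ev a b v') (polar_ev_ev a b v v') (polar_ev_zv a b v w)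
    (polar_ev_zv a b v' w), qm_zv, ← ev_smul, eg_ev_ev, wedge_smul]; rfl

variable [Fintype F] (hr : 3 ≤ r) (hab : ∀ z₁ z₂ : F, z₁ ^ 2 + a * z₁ * z₂ + b * z₂ ^ 2 = 0 → z₁ = 0 ∧ z₂ = 0)
include hr hab

theorem dim_ge : 7 ≤ Module.finrank F ((Fin r ⊕ Fin r) ⊕ Fin 2 → F) := by
  rw [Module.finrank_fintype_fun_eq_card]; simp; omega

theorem EU_mem (v : Fin r → F) (w : Fin 2 → F) : EU a b v w ∈ Om QM :=
  eg_mem QM (CfsgLib.StdQuadForms.Qm_nondeg r hab) (by have := dim_ge a b hr hab; omega) (qm_ev a b v)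
    (polar_ev_zv a b v w)

theorem zB_mem (B : Alt F r) : zB a b B ∈ Om QM := by
  classical
  let φ : Alt F r →+ Additive (quadIso QM) := AddMonoidHom.mk' (fun B => Additive.ofMul (zB a b B))
    fun A B => congrArg Additive.ofMul (zB_add a b A B)
  have e : B = ∑ i, wedge (Pi.single i 1) (fun j => if i < j then B.1 i j else 0) := by
    refine Subtype.ext (Matrix.ext fun i j => ?_)
    rw [AddSubmonoidClass.coe_finset_sum, Matrix.sum_apply]
    simp only [wedge_apply, Pi.single_apply, ite_mul, one_mul, zero_mul, Finset.sum_sub_distrib]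
    rw [Finset.sum_ite_eq, Finset.sum_ite_eq, if_pos (Finset.mem_univ _), if_pos (Finset.mem_univ _)]
    rcases lt_trichotomy i j with h | h | h
    · rw [if_pos h, if_neg (lt_asymm h), sub_zero]
    · subst h; simp [alt_diag]
    · rw [if_neg (lt_asymm h), if_pos h, zero_sub, alt_skew B i j]
  have hmem : ∀ C, C ∈ ((Om QM).toAddSubgroup.comap φ) ↔ zB a b C ∈ Om QM := fun C => Iff.rfl
  rw [← hmem, e]
  refine AddSubgroup.sum_mem _ fun i _ => (hmem _).2 ?_
  rw [← eg_ev_ev]
  exact eg_mem QM (CfsgLib.StdQuadForms.Qm_nondeg r hab) (by have := dim_ge a b hr hab; omega) (qm_ev a b _)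
    (polar_ev_ev a b _ _)

omit hab in
theorem LG_mem {g : GL (Fin r) F} (hg : IsSquare g.1.det) : LG a b g ∈ Om QM := by
  have hle : (Om (Qp r F)).map (liftP a b) ≤ Om QM := by
    rw [Om, Om, _root_.commutator_def, _root_.commutator_def, Subgroup.map_commutator]
    exact Subgroup.commutator_mono le_top le_top
  exact hle ⟨_, lq_mem hr hg, rfl⟩

omit hr in
/-- A rotation of the anisotropic part without fixed vectors. -/
theorem exists_rot : ∃ R : quadIso (CfsgLib.OrthOrder.binForm a b),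
    liftE a b R ∈ Om QM ∧ ∀ w, R.1 w = w → w = 0 := by
  set Q2 := CfsgLib.OrthOrder.binForm a b
  have happ : ∀ z, Q2 z = z 0 ^ 2 + a * z 0 * z 1 + b * z 1 ^ 2 := CfsgLib.OrthOrder.binForm_apply a b
  have haniso : ∀ z, Q2 z = 0 → z = 0 := fun z hz => by
    rw [happ] at hz
    obtain ⟨h0, h1⟩ := hab _ _ hz
    funext i; fin_cases i <;> assumption
  have hpol : ∀ u v, polar Q2 u v = 2 * (u 0 * v 0) + a * (u 0 * v 1 + u 1 * v 0) + 2 * b * (u 1 * v 1) := fun u v => by
    simp only [polar, happ, Pi.add_apply]; ring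
  have hdisc : a ^ 2 - 4 * b ≠ 0 := by
    intro h
    by_cases h2 : (2 : F) = 0
    · have ha : a = 0 := by
        have : a ^ 2 = 0 := by linear_combination h + 2 * b * h2
        exact pow_eq_zero_iff (by norm_num : (2:ℕ) ≠ 0) |>.1 this
      haveI : CharP F 2 := CharTwo.of_one_ne_zero_of_two_eq_zero one_ne_zero h2
      haveI : Finite F := Finite.of_fintype F
      obtain ⟨s, hs⟩ := FiniteField.isSquare_of_char_two (ringChar.eq F 2) b
      exact one_ne_zero (hab s 1 (by rw [ha, hs]; linear_combination s * s * h2)).2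
    · exact one_ne_zero (hab (-a / 2) 1 (by field_simp; linear_combination -h)).2
  obtain ⟨s, hs⟩ : ∃ s : F, 2 * s + a ≠ 0 := by
    by_cases ha : a = 0
    · refine ⟨1, fun h => hdisc ?_⟩
      have h2 : (2 : F) = 0 := by linear_combination h - ha
      linear_combination (-2 * b) * h2 + a * ha
    · exact ⟨0, by simpa using ha⟩
  let w1 : Fin 2 → F := ![1, 0]
  let w2 : Fin 2 → F := ![s, 1]
  have h1 : Q2 w1 = 1 := by simp [happ, w1]
  have h1' : Q2 w1 ≠ 0 := by rw [h1]; exact one_ne_zero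
  have h2' : Q2 w2 ≠ 0 := fun h => one_ne_zero (α := F) (by simpa [w2] using congrFun (haniso w2 h) 1)
  have hβ : polar Q2 w1 w2 = 2 * s + a := by simp [hpol, w1, w2]
  set s1 := refl Q2 h1'
  set s2 := refl Q2 h2'
  refine ⟨s1 * s2 * s1⁻¹ * s2⁻¹, ?_, fun w hw => ?_⟩
  · rw [map_mul, map_mul, map_mul, map_inv, map_inv]
    exact Subgroup.commutator_mem_commutator (Subgroup.mem_top _) (Subgroup.mem_top _)
  have hinv : ∀ {v : Fin 2 → F} (hv : Q2 v ≠ 0), (refl Q2 hv)⁻¹ = refl Q2 hv := fun {v} hv =>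
    inv_eq_of_mul_eq_one_right (iso_ext _ fun x => by
      rw [mul_app, one_app, refl_apply, refl_apply, polar_add_right, polar_smul_right,
        CfsgLib.ReflectionGen.pol_self, smul_eq_mul]
      match_scalars <;> field_simp <;> ring)
  rw [hinv, hinv, mul_app, mul_app, mul_app] at hw
  set c := polar Q2 w1 w2 ^ 2 / Q2 w2
  have key : ∀ x, s1.1 (s2.1 (s1.1 (s2.1 x))) = (c - 2) • s1.1 (s2.1 x) - x := fun x => by
    have hx : x = (x 0 - s * x 1) • w1 + x 1 • w2 := by
      funext i; fin_cases i <;> simp [w1, w2] <;> ring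
    rw [hx]
    simp only [s1, s2, refl_apply, polar_add_right, polar_smul_right, CfsgLib.ReflectionGen.pol_self, h1,
      smul_eq_mul, polar_comm Q2 w2 w1, c]
    match_scalars <;> field_simp <;> ring
  rw [key, sub_eq_iff_eq_add, ← two_smul F w] at hw
  by_contra hw0
  have hq : Q2 (s1.1 (s2.1 w)) = Q2 w := by rw [s1.2, s2.2]
  have hcc : (c - 2) ^ 2 * Q2 w = 2 ^ 2 * Q2 w := by
    have e := congrArg Q2 hw
    rw [QuadraticMap.map_smul, QuadraticMap.map_smul, hq, smul_eq_mul, smul_eq_mul] at e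
    linear_combination e
  have hc : c * (c - 4) = 0 := by
    refine (mul_eq_zero.1 ?_).resolve_right (fun h => hw0 (haniso w h))
    linear_combination hcc
  rcases mul_eq_zero.1 hc with h | h
  · rcases div_eq_zero_iff.1 h with h | h
    · rw [hβ] at h; exact hs (pow_eq_zero_iff (by norm_num : (2:ℕ) ≠ 0) |>.1 h)
    · exact h2' h
  · rw [sub_eq_zero, div_eq_iff h2', hβ, happ] at h
    simp only [w2, Matrix.cons_val_zero, Matrix.cons_val_one] at h
    apply hdisc
    linear_combination h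

/-- Transvections of the Levi subgroup are long root elements. -/
theorem LG_eq_eg (i0 : Fin r) (δ : Fin r → F) (hδ : δ i0 = 0) (g : GL (Fin r) F)
    (hg : g.1 = 1 + Matrix.vecMulVec (Pi.single i0 1) δ) :
    LG a b g = eg QM (fv δ) (ev (Pi.single i0 1)) := iso_ext _ fun x => by
  have hp : polar QM (fv δ) (ev (Pi.single i0 1)) = 0 := by
    rw [polar_fv]; simp [ev, dotProduct, Pi.single_apply, hδ]
  have hgi : (g⁻¹).1 = 1 - Matrix.vecMulVec (Pi.single i0 1) δ := by
    rw [Matrix.coe_units_inv, hg]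
    refine Matrix.inv_eq_right_inv ?_
    rw [mul_sub, mul_one, add_mul, one_mul, Matrix.vecMulVec_mul_vecMulVec]
    simp [hδ]
  rw [eg_app (qm_fv a b δ) hp, qm_ev, polar_fv, polar_ev]
  funext s
  rcases s with (i | i) | i
  · show (lq g).1 (x ∘ Sum.inl) (Sum.inl i) = _
    rw [lq_inl, hg, add_mulVec, one_mulVec, vecMulVec_mulVec]
    simp [ev, fv, Function.comp_def, dotProduct_comm δ, mul_comm, Pi.single_apply]
  · show (lq g).1 (x ∘ Sum.inl) (Sum.inr i) = _
    rw [lq_inr, hgi, transpose_sub, transpose_one, transpose_vecMulVec, sub_mulVec, one_mulVec, vecMulVec_mulVec]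
    simp [ev, fv, Function.comp_def]
    ring
  · simp [ev, fv, LG, liftP]

end forms

end CfsgLib.OrthDeg
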