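import Mathlib

/-! An abelian group of operators with a regular family of shifts. -/

set_option autoImplicit false

namespace CfsgLib.OrthDeg

variable {W : Type*} [AddCommGroup W] [Module ℂ W] [FiniteDimensional ℂ W]
  {E : Type*} [AddCommGroup E] [Fintype E] (A : E → Module.End ℂ W)

/-- The eigen-projection of a character. -/
noncomputable def pA (θ : AddChar E ℂ) : Module.End ℂ W :=
  (Fintype.card E : ℂ)⁻¹ • ∑ v, θ (-v) • A v

/-- Operators commute with the projections when they commute with the family. -/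
theorem pA_comm {X : Module.End ℂ W} (h : ∀ v, X * A v = A v * X) (θ : AddChar E ℂ) :
    X * pA A θ = pA A θ * X := by
  simp only [pA, mul_smul_comm, smul_mul_assoc, Finset.mul_sum, Finset.sum_mul]
  congr 1
  exact Finset.sum_congr rfl fun v _ => by rw [h]

/-- A shift moves the projections. -/
theorem pA_shift {H : Module.End ℂ W} {c : AddChar E ℂ} (h : ∀ v, A v * H = c v • (H * A v)) (θ : AddChar E ℂ) :
    pA A (θ * c) * H = H * pA A θ := by
  simp only [pA, mul_smul_comm, smul_mul_assoc, Finset.mul_sum, Finset.sum_mul]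
  congr 1
  refine Finset.sum_congr rfl fun v _ => ?_
  rw [h, smul_smul, AddChar.mul_apply, mul_assoc, ← AddChar.map_add_eq_mul, neg_add_cancel,
    AddChar.map_zero_eq_one, mul_one]

variable (h0 : A 0 = 1) (hA : ∀ v w, A (v + w) = A v * A w)
include h0 hA

omit [FiniteDimensional ℂ W] h0 in
theorem A_pA (v : E) (θ : AddChar E ℂ) : A v * pA A θ = θ v • pA A θ := by
  simp only [pA, mul_smul_comm, Finset.mul_sum, Finset.smul_sum, smul_smul]
  refine Fintype.sum_equiv (Equiv.addLeft v) _ _ fun S => ?_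
  show _ = _ • A (v + S)
  rw [← hA]
  congr 1
  rw [Equiv.coe_addLeft, neg_add, AddChar.map_add_eq_mul]
  have : θ v * θ (-v) = 1 := by rw [← AddChar.map_add_eq_mul, add_neg_cancel, AddChar.map_zero_eq_one]
  linear_combination (-((Fintype.card E : ℂ)⁻¹ * θ (-S))) * this

omit [FiniteDimensional ℂ W] hA in
theorem sum_pA : ∑ θ, pA A θ = 1 := by
  classical
  simp only [pA, ← Finset.smul_sum]
  rw [Finset.sum_comm]
  simp only [← Finset.sum_smul]
  rw [Finset.sum_eq_single (0 : E) (fun S _ hS => ?_) (by simp)]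
  · rw [h0, neg_zero, smul_smul]
    simp only [AddChar.map_zero_eq_one, Finset.sum_const, Finset.card_univ, nsmul_eq_mul, mul_one]
    rw [AddChar.card_eq, inv_mul_cancel₀ (Nat.cast_ne_zero.2 Fintype.card_ne_zero), one_smul]
  · rw [AddChar.sum_apply_eq_zero_iff_ne_zero.2 (neg_ne_zero.2 hS), zero_smul]

omit [FiniteDimensional ℂ W] h0 in
theorem pA_idem (θ : AddChar E ℂ) : pA A θ * pA A θ = pA A θ := by
  conv_lhs => lhs; rw [pA]
  simp only [smul_mul_assoc, Finset.sum_mul, A_pA A hA, smul_smul, ← Finset.sum_smul]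
  simp only [← AddChar.map_add_eq_mul, neg_add_cancel, AddChar.map_zero_eq_one, Finset.sum_const,
    Finset.card_univ, nsmul_eq_mul, mul_one]
  rw [inv_mul_cancel₀ (Nat.cast_ne_zero.2 Fintype.card_ne_zero), one_smul]

omit h0 in
theorem trace_pA (θ : AddChar E ℂ) :
    LinearMap.trace ℂ W (pA A θ) = (Module.finrank ℂ (LinearMap.range (pA A θ)) : ℂ) :=
  (LinearMap.IsIdempotentElem.isProj_range _ (pA_idem A hA θ)).trace

/-- The trace of an operator is the sum over the eigenspaces. -/
theorem trace_split (X : Module.End ℂ W) :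
    LinearMap.trace ℂ W X = ∑ θ, LinearMap.trace ℂ W (X * pA A θ) := by
  rw [← map_sum, ← Finset.mul_sum, sum_pA A h0, mul_one]

omit h0 in
/-- An operator commuting with the family is a scalar on a one-dimensional eigenspace. -/
theorem line_scalar {X : Module.End ℂ W} (h : ∀ v, X * A v = A v * X) {θ : AddChar E ℂ}
    (h1 : Module.finrank ℂ (LinearMap.range (pA A θ)) = 1) :
    X * pA A θ = LinearMap.trace ℂ W (X * pA A θ) • pA A θ := by
  have e := pA_comm A h θ
  have hrange : ∀ x, X (pA A θ x) ∈ LinearMap.range (pA A θ) := fun x => by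
    rw [← Module.End.mul_apply, e, Module.End.mul_apply]
    exact LinearMap.mem_range_self _ _
  obtain ⟨w, hw0, hw⟩ := finrank_eq_one_iff'.1 h1
  obtain ⟨y, hy⟩ := w.2
  obtain ⟨s, hs⟩ := hw ⟨_, hrange y⟩
  have key : X * pA A θ = s • pA A θ := by
    refine LinearMap.ext fun x => ?_
    obtain ⟨t, ht⟩ := hw ⟨_, LinearMap.mem_range_self (pA A θ) x⟩
    have hs' : s • (w : W) = X w := by
      rw [← hy]; have := congrArg Subtype.val hs; simpa [hy] using this
    have ht' : t • (w : W) = pA A θ x := congrArg Subtype.val ht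
    rw [Module.End.mul_apply, LinearMap.smul_apply, ← ht', map_smul, ← hs', smul_comm]
  have hts : LinearMap.trace ℂ W (X * pA A θ) = s := by
    rw [key, map_smul, trace_pA A hA, h1, Nat.cast_one, smul_eq_mul, mul_one]
  rw [hts]; exact key

variable {ι : Type*} (H H' : ι → Module.End ℂ W) (c : ι → AddChar E ℂ) (hinv : ∀ i, H i * H' i = 1)
  (hH : ∀ i v, A v * H i = c i v • (H i * A v)) (hc : Function.Surjective c)
include hinv hH hc

/-- All eigenspaces have one dimension. -/
theorem shift_dim (θ : AddChar E ℂ) :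
    Fintype.card E * Module.finrank ℂ (LinearMap.range (pA A θ)) = Module.finrank ℂ W := by
  classical
  have hconst : ∀ θ', Module.finrank ℂ (LinearMap.range (pA A θ')) = Module.finrank ℂ (LinearMap.range (pA A θ)) := by
    intro θ'
    obtain ⟨i, hi⟩ := hc (θ⁻¹ * θ')
    have e := pA_shift A (hH i) θ
    rw [hi, mul_inv_cancel_left] at e
    apply Nat.cast_injective (R := ℂ)
    have hinv' : H' i * H i = 1 := mul_eq_one_comm.1 (hinv i)
    rw [← trace_pA A hA, ← trace_pA A hA]
    calc LinearMap.trace ℂ W (pA A θ') = LinearMap.trace ℂ W (pA A θ' * H i * H' i) := by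
          rw [mul_assoc, hinv, mul_one]
      _ = LinearMap.trace ℂ W (H' i * (H i * pA A θ)) := by rw [e, LinearMap.trace_mul_comm]
      _ = _ := by rw [← mul_assoc, hinv', one_mul]
  apply Nat.cast_injective (R := ℂ)
  rw [← LinearMap.trace_one ℂ W, ← sum_pA A h0, map_sum, Finset.sum_congr rfl fun θ' _ =>
    (by rw [trace_pA A hA, hconst θ'] :
      LinearMap.trace ℂ W (pA A θ') = (Module.finrank ℂ (LinearMap.range (pA A θ)) : ℂ)),
    Finset.sum_const, Finset.card_univ, AddChar.card_eq, nsmul_eq_mul, Nat.cast_mul]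

/-- An operator commuting with a regular system is a scalar. -/
theorem scalar_of_comm (hdim : Module.finrank ℂ W = Fintype.card E) {X : Module.End ℂ W}
    (hXA : ∀ v, X * A v = A v * X) (hXH : ∀ i, X * H i = H i * X) : ∃ s : ℂ, X = s • 1 := by
  classical
  have h1 : ∀ θ, Module.finrank ℂ (LinearMap.range (pA A θ)) = 1 := fun θ => by
    have := shift_dim A h0 hA H H' c hinv hH hc θ
    rw [hdim] at this
    exact Nat.eq_of_mul_eq_mul_left Fintype.card_pos (this.trans (mul_one _).symm)
  have hs : ∀ θ, ∃ s : ℂ, X * pA A θ = s • pA A θ := fun θ => by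
    have e := pA_comm A hXA θ
    have hrange : ∀ x, X (pA A θ x) ∈ LinearMap.range (pA A θ) := fun x => by
      rw [← Module.End.mul_apply, e, Module.End.mul_apply]
      exact LinearMap.mem_range_self _ _
    obtain ⟨w, hw0, hw⟩ := finrank_eq_one_iff'.1 (h1 θ)
    obtain ⟨y, hy⟩ := w.2
    obtain ⟨s, hs⟩ := hw ⟨_, hrange y⟩
    refine ⟨s, LinearMap.ext fun x => ?_⟩
    obtain ⟨t, ht⟩ := hw ⟨_, LinearMap.mem_range_self (pA A θ) x⟩
    have hs' : s • (w : W) = X w := by
      rw [← hy]; have := congrArg Subtype.val hs; simpa [hy] using this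
    have ht' : t • (w : W) = pA A θ x := congrArg Subtype.val ht
    rw [Module.End.mul_apply, LinearMap.smul_apply, ← ht', map_smul, ← hs', smul_comm]
  choose s hs using hs
  have hne : ∀ θ, pA A θ ≠ 0 := fun θ h => by
    have := h1 θ
    rw [h, LinearMap.range_zero, finrank_bot] at this
    exact zero_ne_one this
  have hconst : ∀ θ, s θ = s 1 := fun θ => by
    obtain ⟨i, hi⟩ := hc θ
    have e := pA_shift A (hH i) 1
    rw [hi, one_mul] at e
    have e2 : (s θ) • (pA A θ * H i) = (s 1) • (pA A θ * H i) := by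
      conv_rhs => rw [e, ← mul_smul_comm, ← hs, ← mul_assoc, ← hXH, mul_assoc, ← e, ← mul_assoc, hs, smul_mul_assoc]
    refine smul_left_injective ℂ (fun h => hne θ ?_) e2
    rw [← mul_one (pA A θ), ← hinv i, ← mul_assoc, h, zero_mul]
  refine ⟨s 1, ?_⟩
  rw [← mul_one X, ← sum_pA A h0, Finset.mul_sum, Finset.smul_sum]
  exact Finset.sum_congr rfl fun θ _ => by rw [hs, hconst]

end CfsgLib.OrthDeg
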