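import Mathlib
import Cfsg.Agent.Lib.OrthDeg.MinusModel
import Cfsg.Agent.Lib.OrthDeg.Engine
import Cfsg.Agent.Lib.OrthDeg.AltCount
import Cfsg.Agent.Lib.OrthDeg.Shift

/-! The covering elements acting on one isotypic part of the radical. -/

set_option autoImplicit false
set_option maxHeartbeats 800000

namespace CfsgLib.OrthDeg

open Matrix QuadraticMap CfsgLib.WittExtension CfsgLib.OmegaMin CfsgLib.RadicalBound
open CfsgLib.StdQuadForms (Qm)

local notation "ψ" => CfsgLib.SympWeil.ψ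

variable {F : Type*} [Field F] [Fintype F] [DecidableEq F] {r : ℕ} {a b : F}
  (hr : 3 ≤ r) (hab : ∀ z₁ z₂ : F, z₁ ^ 2 + a * z₁ * z₂ + b * z₂ ^ 2 = 0 → z₁ = 0 ∧ z₂ = 0)

/-- The radical inside the derived group. -/
noncomputable def fM (B : Alt F r) : Om (Qm r a b) := ⟨zB a b B, zB_mem a b hr hab B⟩

/-- The covering elements inside the derived group. -/
noncomputable def uM (v : Fin r → F) (w : Fin 2 → F) : Om (Qm r a b) := ⟨EU a b v w, EU_mem a b hr hab v w⟩

theorem fM_add (A B : Alt F r) : fM hr hab (A + B) = fM hr hab A * fM hr hab B :=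
  Subtype.ext (zB_add a b A B)

variable {k : ℕ} (ρ : Representation ℂ (Om (Qm r a b)) (Fin k → ℂ))

/-- The projection to a character of the radical. -/
noncomputable def PC (C : Alt F r) : Module.End ℂ (Fin k → ℂ) :=
  RadicalBound.proj (fM hr hab) ρ (chi C)

/-- The multiplicity of a character of the radical. -/
noncomputable def mC (C : Alt F r) : ℕ := mult (fM hr hab) ρ (chi C)

/-- The stabiliser of an isotypic part. -/
noncomputable def Nrm (C : Alt F r) : Submonoid (Om (Qm r a b)) where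
  carrier := {g | ρ g * PC hr hab ρ C = PC hr hab ρ C * ρ g}
  one_mem' := by simp
  mul_mem' {g h} hg hh := by
    show ρ (g * h) * _ = _ * ρ (g * h)
    rw [map_mul, mul_assoc, show ρ h * PC hr hab ρ C = PC hr hab ρ C * ρ h from hh, ← mul_assoc,
      show ρ g * PC hr hab ρ C = PC hr hab ρ C * ρ g from hg, mul_assoc]

/-- The operators of the stabiliser on the isotypic part. -/
noncomputable def rp (C : Alt F r) : Nrm hr hab ρ C →* Module.End ℂ (LinearMap.range (PC hr hab ρ C)) where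
  toFun g := (ρ g.1).restrict (p := LinearMap.range (PC hr hab ρ C)) (q := LinearMap.range (PC hr hab ρ C)) (by
    rintro _ ⟨x, rfl⟩
    exact ⟨ρ g.1 x, (LinearMap.congr_fun g.2 x).symm⟩)
  map_one' := LinearMap.ext fun x => Subtype.ext (by
    show ρ (1 : Om (Qm r a b)) x.1 = x.1
    rw [map_one]; rfl)
  map_mul' g h := LinearMap.ext fun x => Subtype.ext (by
    show ρ (g.1 * h.1) x.1 = ρ g.1 (ρ h.1 x.1)
    rw [map_mul]; rfl)

theorem mC_eq (C : Alt F r) : mC hr hab ρ C = Module.finrank ℂ (LinearMap.range (PC hr hab ρ C)) := rfl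

/-- The trace on an isotypic part. -/
theorem trace_rp (C : Alt F r) (g : Nrm hr hab ρ C) :
    LinearMap.trace ℂ (Fin k → ℂ) (ρ g.1 * PC hr hab ρ C) =
      LinearMap.trace ℂ _ (rp hr hab ρ C g) := by
  have hmem : ∀ x, (ρ g.1 * PC hr hab ρ C) x ∈ LinearMap.range (PC hr hab ρ C) := fun x => by
    rw [show ρ g.1 * PC hr hab ρ C = PC hr hab ρ C * ρ g.1 from g.2]
    exact LinearMap.mem_range_self _ _
  rw [← LinearMap.trace_restrict_eq_of_forall_mem _ _ hmem]
  congr 1
  refine LinearMap.ext fun x => Subtype.ext ?_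
  obtain ⟨y, hy⟩ := x.2
  show (ρ g.1) ((PC hr hab ρ C) x.1) = ρ g.1 x.1
  rw [← hy]
  congr 1
  exact LinearMap.congr_fun (idem (fM hr hab) ρ (fM_add hr hab) (chi C)) y

theorem fM_nrm (C B : Alt F r) : fM hr hab B ∈ Nrm hr hab ρ C :=
  proj_comm (fM hr hab) ρ (fM_add hr hab) _ (AddEquiv.refl _)
    (fun S => by rw [AddEquiv.refl_apply, ← fM_add, ← fM_add, add_comm]) _ fun S => rfl

theorem uM_nrm (C : Alt F r) (v : Fin r → F) (w : Fin 2 → F) : uM hr hab v w ∈ Nrm hr hab ρ C :=
  proj_comm (fM hr hab) ρ (fM_add hr hab) _ (AddEquiv.refl _)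
    (fun S => Subtype.ext (zB_EU a b S v w).symm) _ fun S => rfl

/-- The radical on an isotypic part. -/
noncomputable def zz (C B : Alt F r) : Nrm hr hab ρ C := ⟨fM hr hab B, fM_nrm hr hab ρ C B⟩

/-- The covering elements on an isotypic part. -/
noncomputable def uu (C : Alt F r) (v : Fin r → F) (w : Fin 2 → F) : Nrm hr hab ρ C :=
  ⟨uM hr hab v w, uM_nrm hr hab ρ C v w⟩

/-- The operators of the covering elements. -/
noncomputable def Ev (C : Alt F r) (v : Fin r → F) (w : Fin 2 → F) :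
    Module.End ℂ (LinearMap.range (PC hr hab ρ C)) := rp hr hab ρ C (uu hr hab ρ C v w)

theorem rp_zz (C B : Alt F r) : rp hr hab ρ C (zz hr hab ρ C B) = (chi C B : ℂ) • 1 := by
  refine LinearMap.ext fun x => Subtype.ext ?_
  obtain ⟨y, hy⟩ := x.2
  show ρ (fM hr hab B) x.1 = chi C B • x.1
  rw [← hy, ← Module.End.mul_apply]
  exact LinearMap.congr_fun (eig_proj (fM hr hab) (fM_add hr hab) ρ (chi C) B) y

theorem Ev_add (C : Alt F r) (v : Fin r → F) (w w' : Fin 2 → F) :
    Ev hr hab ρ C v (w + w') = Ev hr hab ρ C v w * Ev hr hab ρ C v w' := by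
  rw [Ev, Ev, Ev, ← map_mul]
  congr 1
  exact Subtype.ext (Subtype.ext (EU_add a b v w w'))

theorem Ev_zero (C : Alt F r) (v : Fin r → F) : Ev hr hab ρ C v 0 = 1 := by
  rw [Ev, show uu hr hab ρ C v 0 = 1 from Subtype.ext (Subtype.ext (EU_zero a b v)), map_one]

theorem Ev_smul (C : Alt F r) (c : F) (v : Fin r → F) (w : Fin 2 → F) :
    Ev hr hab ρ C (c • v) w = Ev hr hab ρ C v (c • w) := by
  rw [Ev, Ev, show uu hr hab ρ C (c • v) w = uu hr hab ρ C v (c • w) from
    Subtype.ext (Subtype.ext (EU_smul a b c v w))]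

theorem chi_wedge (C : Alt F r) (c : F) (u v : Fin r → F) :
    chi C (c • wedge u v) = (ψ : AddChar F ℂ) (c * bf C u v) := by
  rw [chi_apply, pair_smul, pair_wedge]

theorem Ev_comm (C : Alt F r) (v v' : Fin r → F) (w w' : Fin 2 → F) :
    Ev hr hab ρ C v w * Ev hr hab ρ C v' w' =
      (ψ : AddChar F ℂ) (-(polar (CfsgLib.OrthOrder.binForm a b) w w') * bf C v v') •
        (Ev hr hab ρ C v' w' * Ev hr hab ρ C v w) := by
  rw [← chi_wedge, Ev, Ev, ← map_mul, ← map_mul, ← mul_one (rp hr hab ρ C (uu hr hab ρ C v' w' * _)),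
    ← mul_smul_comm, show uu hr hab ρ C v w * uu hr hab ρ C v' w' =
      zz hr hab ρ C ((-(polar (CfsgLib.OrthOrder.binForm a b) w w')) • wedge v v') * (uu hr hab ρ C v' w' * uu hr hab ρ C v w)
      from Subtype.ext (Subtype.ext ((EU_comm a b v v' w w').trans (mul_assoc _ _ _))), map_mul, rp_zz,
    smul_mul_assoc, one_mul, mul_smul_comm, mul_one]

theorem Ev_left (C : Alt F r) (v v' : Fin r → F) (w : Fin 2 → F) :
    Ev hr hab ρ C (v + v') w =
      (ψ : AddChar F ℂ) (-(CfsgLib.OrthOrder.binForm a b w) * bf C v' v) •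
        (Ev hr hab ρ C v w * Ev hr hab ρ C v' w) := by
  rw [← chi_wedge, Ev, Ev, Ev, ← map_mul, show uu hr hab ρ C (v + v') w =
      zz hr hab ρ C ((-(CfsgLib.OrthOrder.binForm a b w)) • wedge v' v) * (uu hr hab ρ C v w * uu hr hab ρ C v' w)
      from Subtype.ext (Subtype.ext (EU_add_left a b v v' w)), map_mul (rp hr hab ρ C) (zz hr hab ρ C _), rp_zz,
    smul_mul_assoc, one_mul]

theorem Ev_unit (C : Alt F r) (v : Fin r → F) (w : Fin 2 → F) :
    Ev hr hab ρ C v w * Ev hr hab ρ C v (-w) = 1 := by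
  rw [← Ev_add, add_neg_cancel, Ev_zero]

/-- A character of a plane. -/
noncomputable def bchar (d : F) (u : Fin 2 → F) : AddChar (Fin 2 → F) ℂ :=
  ⟨fun w => (ψ : AddChar F ℂ) (-(polar (CfsgLib.OrthOrder.binForm a b) w u) * d),
    by rw [polar_zero_left, neg_zero, zero_mul, AddChar.map_zero_eq_one],
    fun w w' => by rw [polar_add_left, neg_add, add_mul, AddChar.map_add_eq_mul]⟩

theorem bchar_apply (d : F) (u w : Fin 2 → F) :
    bchar (a := a) (b := b) d u w = (ψ : AddChar F ℂ) (-(polar (CfsgLib.OrthOrder.binForm a b) w u) * d) := rfl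

include hab in
theorem bchar_bijective {d : F} (hd : d ≠ 0) : Function.Bijective (bchar (a := a) (b := b) d) := by
  classical
  refine (Fintype.bijective_iff_injective_and_card _).2 ⟨fun u u' h => ?_, (AddChar.card_eq (α := Fin 2 → F)).symm⟩
  rw [← sub_eq_zero]
  refine CfsgLib.OrthOrder.bin_nondeg hab _ fun w => ?_
  by_contra hne
  obtain ⟨t, ht⟩ := CfsgLib.SympWeil.ψ_ne (show polar (CfsgLib.OrthOrder.binForm a b) (u - u') w * d ≠ 0 from
    mul_ne_zero hne hd)
  apply ht
  have e := DFunLike.congr_fun h (t • w)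
  rw [bchar_apply, bchar_apply, polar_smul_left, polar_smul_left, polar_comm _ w u, polar_comm _ w u'] at e
  rw [show polar (CfsgLib.OrthOrder.binForm a b) (u - u') w * d * t =
      (-(t • polar (CfsgLib.OrthOrder.binForm a b) u' w) * d) + -(-(t • polar (CfsgLib.OrthOrder.binForm a b) u w) * d) by
    rw [sub_eq_add_neg, polar_add_left, polar_neg_left, smul_eq_mul, smul_eq_mul]; ring,
    AddChar.map_add_eq_mul, ← e, ← AddChar.map_add_eq_mul, add_neg_cancel, AddChar.map_zero_eq_one]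

variable (C : Alt F r) {v p : Fin r → F}

theorem Ev_shift (u : Fin 2 → F) (w : Fin 2 → F) :
    Ev hr hab ρ C v w * Ev hr hab ρ C p u =
      bchar (a := a) (b := b) (bf C v p) u w • (Ev hr hab ρ C p u * Ev hr hab ρ C v w) := by
  rw [Ev_comm, bchar_apply]

variable (hvp : bf C v p ≠ 0)
include hvp

/-- An occurring non-trivial character has multiplicity divisible by the square of the field order. -/
theorem mC_dvd : Fintype.card F ^ 2 ∣ mC hr hab ρ C := by
  have h := shift_dim (Ev hr hab ρ C v) (Ev_zero hr hab ρ C v) (Ev_add hr hab ρ C v)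
    (fun u => Ev hr hab ρ C p u) (fun u => Ev hr hab ρ C p (-u)) (fun u => bchar (a := a) (b := b) (bf C v p) u)
    (Ev_unit hr hab ρ C p) (fun u w => Ev_shift hr hab ρ C u w) (bchar_bijective hab hvp).2 1
  rw [Fintype.card_fun, Fintype.card_fin] at h
  exact ⟨_, h.symm⟩

/-- An operator commuting with a regular system of covering elements is a scalar. -/
theorem Ev_scalar (h1 : mC hr hab ρ C = Fintype.card F ^ 2)
    {X : Module.End ℂ (LinearMap.range (PC hr hab ρ C))}
    (hXv : ∀ w, X * Ev hr hab ρ C v w = Ev hr hab ρ C v w * X)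
    (hXp : ∀ w, X * Ev hr hab ρ C p w = Ev hr hab ρ C p w * X) : ∃ s : ℂ, X = s • 1 := by
  refine scalar_of_comm (Ev hr hab ρ C v) (Ev_zero hr hab ρ C v) (Ev_add hr hab ρ C v)
    (fun u => Ev hr hab ρ C p u) (fun u => Ev hr hab ρ C p (-u)) (fun u => bchar (a := a) (b := b) (bf C v p) u)
    (Ev_unit hr hab ρ C p) (fun u w => Ev_shift hr hab ρ C u w) (bchar_bijective hab hvp).2 ?_ hXv hXp
  rw [← mC_eq, h1, Fintype.card_fun, Fintype.card_fin]

/-- Two orthogonal regular systems give the fourth power. -/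
theorem mC_dvd_four {v' p' : Fin r → F} (hvp' : bf C v' p' ≠ 0) (h00 : bf C v v' = 0) (h01 : bf C v p' = 0)
    (h10 : bf C v' p = 0) : Fintype.card F ^ 4 ∣ mC hr hab ρ C := by
  have hcomm : ∀ w w', Ev hr hab ρ C v w * Ev hr hab ρ C v' w' = Ev hr hab ρ C v' w' * Ev hr hab ρ C v w := by
    intro w w'; rw [Ev_comm, h00, mul_zero, AddChar.map_zero_eq_one, one_smul]
  let A : (Fin 2 → F) × (Fin 2 → F) → Module.End ℂ (LinearMap.range (PC hr hab ρ C)) :=
    fun x => Ev hr hab ρ C v x.1 * Ev hr hab ρ C v' x.2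
  let H : (Fin 2 → F) × (Fin 2 → F) → Module.End ℂ (LinearMap.range (PC hr hab ρ C)) :=
    fun x => Ev hr hab ρ C p x.1 * Ev hr hab ρ C p' x.2
  let c : (Fin 2 → F) × (Fin 2 → F) → AddChar ((Fin 2 → F) × (Fin 2 → F)) ℂ := fun x =>
    (bchar (a := a) (b := b) (bf C v p) x.1).compAddMonoidHom (AddMonoidHom.fst _ _) *
      (bchar (a := a) (b := b) (bf C v' p') x.2).compAddMonoidHom (AddMonoidHom.snd _ _)
  have hca : ∀ x y, c x y = bchar (a := a) (b := b) (bf C v p) x.1 y.1 * bchar (a := a) (b := b) (bf C v' p') x.2 y.2 :=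
    fun x y => rfl
  have hc : Function.Surjective c := by
    refine (((Fintype.bijective_iff_injective_and_card _).2 ⟨fun x y h => ?_, ?_⟩).2)
    · refine Prod.ext ((bchar_bijective hab hvp).1 (DFunLike.ext _ _ fun w => ?_))
        ((bchar_bijective hab hvp').1 (DFunLike.ext _ _ fun w => ?_))
      · simpa [hca] using DFunLike.congr_fun h (w, 0)
      · simpa [hca] using DFunLike.congr_fun h (0, w)
    · exact (AddChar.card_eq (α := (Fin 2 → F) × (Fin 2 → F))).symm
  have h := shift_dim A (by simp [A, Ev_zero]) (fun x y => by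
      simp only [A, Prod.fst_add, Prod.snd_add, Ev_add]
      rw [mul_assoc, ← mul_assoc (Ev hr hab ρ C v y.1), hcomm, mul_assoc, ← mul_assoc])
    H (fun x => Ev hr hab ρ C p' (-x.2) * Ev hr hab ρ C p (-x.1)) c (fun x => by
      show _ * _ * (_ * _) = 1
      rw [mul_assoc, ← mul_assoc (Ev hr hab ρ C p' x.2), Ev_unit, one_mul, Ev_unit]) (fun x y => by
      show Ev hr hab ρ C v y.1 * Ev hr hab ρ C v' y.2 * (Ev hr hab ρ C p x.1 * Ev hr hab ρ C p' x.2) = _
      rw [mul_assoc, ← mul_assoc (Ev hr hab ρ C v' y.2), Ev_comm hr hab ρ C v' p, h10, mul_zero,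
        AddChar.map_zero_eq_one, one_smul, mul_assoc, Ev_shift, mul_smul_comm, mul_smul_comm,
        ← mul_assoc, Ev_shift, smul_mul_assoc, smul_smul, mul_assoc (Ev hr hab ρ C p x.1),
        ← mul_assoc (Ev hr hab ρ C v y.1), Ev_comm hr hab ρ C v p', h01, mul_zero, AddChar.map_zero_eq_one,
        one_smul, hca, mul_comm (bchar (a := a) (b := b) (bf C v p) x.1 y.1)]
      simp only [A, H, mul_assoc]) hc 1
  rw [Fintype.card_prod, Fintype.card_fun, Fintype.card_fin, ← pow_add] at h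
  exact ⟨_, h.symm⟩

end CfsgLib.OrthDeg
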