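import Mathlib
import Cfsg.Agent.Lib.OrthDeg.MinusOps
import Cfsg.Agent.Lib.OrthDeg.RootClass
import Cfsg.Agent.Lib.CharTheory.Integral
import Cfsg.Agent.Lib.QuadCount

/-! The class of long root elements of the minus-type group and the excluded degrees. -/

set_option autoImplicit false
set_option maxHeartbeats 1000000

namespace CfsgLib.OrthDeg

open Matrix QuadraticMap CfsgLib.WittExtension CfsgLib.OmegaMin
open CfsgLib.StdQuadForms (Qm)

variable {F : Type*} [Field F] [Fintype F] [DecidableEq F] {m : ℕ} {a b : F}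
  (hr : 3 ≤ m + 3) (hab : ∀ z₁ z₂ : F, z₁ ^ 2 + a * z₁ * z₂ + b * z₂ ^ 2 = 0 → z₁ = 0 ∧ z₂ = 0)

theorem ts_pair_ev : ((ev (Pi.single (0 : Fin (m + 3)) 1)), (ev (Pi.single (1 : Fin (m + 3)) 1))) ∈
    TSPairs (Qm (m + 3) a b) := by
  refine ⟨fun h => ?_, qm_ev a b _, qm_ev a b _, polar_ev_ev a b _ _, fun t h => ?_⟩
  · have := congrFun h (Sum.inl (Sum.inl 0))
    simp [ev] at this
  · have := congrFun h (Sum.inl (Sum.inl 1))
    simp [ev] at this

/-- The class of a long root element in the derived group. -/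
theorem minus_class :
    ((Fintype.card F : ℤ) ^ 2 - 1) * (Nat.card {y : Om (Qm (m + 3) a b) //
        IsConj (fM hr hab (wedge (Pi.single 1 1) (Pi.single 0 1))) y} : ℤ) =
      ((Fintype.card F : ℤ) ^ (m + 4) + 1) * ((Fintype.card F : ℤ) ^ (m + 3) - 1) *
        (((Fintype.card F : ℤ) ^ (m + 3) + 1) * ((Fintype.card F : ℤ) ^ (m + 2) - 1)) := by
  classical
  set q := Fintype.card F with hqdef
  have hq2 : 2 ≤ q := Fintype.one_lt_card
  set x := q ^ (m + 2) with hx
  have hx1 : 1 ≤ x := Nat.one_le_pow _ _ (by omega)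
  have hQ := CfsgLib.StdQuadForms.Qm_nondeg (m + 3) hab
  have hcnt : cnt (Qm (m + 3) a b) (0 : F) + q * q * x = q * q * q * x * x + q * x := by
    have e := CfsgLib.QuadCount.card_minus (F := F) (m + 4) (by omega) a b hab
    have e' : cnt (Qm (m + 3) a b) (0 : F) = q ^ (2 * (m + 4) - 1) + q ^ (m + 4 - 1) - q ^ (m + 4) := by
      rw [hqdef, ← e, cnt]
      exact Nat.card_congr (Equiv.subtypeEquivRight fun v => by rw [CfsgLib.StdQuadForms.Qm_apply]; rfl)
    rw [e', show 2 * (m + 4) - 1 = (m + 2) + (m + 2) + 3 by omega, show m + 4 - 1 = m + 3 by omega,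
      show q ^ ((m + 2) + (m + 2) + 3) = q * q * q * x * x by rw [hx]; ring,
      show q ^ (m + 3) = q * x by rw [hx]; ring, show q ^ (m + 4) = q * q * x by rw [hx]; ring]
    have : q * q * x ≤ q * q * q * x * x := by
      calc q * q * x = q * q * 1 * x * 1 := by ring
        _ ≤ _ := Nat.mul_le_mul (Nat.mul_le_mul_right _ (Nat.mul_le_mul_left _ (by omega))) hx1
    omega
  set s := (q * x + 1) * (x - 1) with hs
  have hsZ : (s : ℤ) = ((q : ℤ) * x + 1) * (x - 1) := by rw [hs]; push_cast [Nat.cast_sub hx1]; ring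
  have hdim : Module.finrank F ((Fin (m + 3) ⊕ Fin (m + 3)) ⊕ Fin 2 → F) - 2 = (m + 2) + (m + 2) + 2 := by
    rw [Module.finrank_fintype_fun_eq_card]; simp; omega
  have hs' : cnt (Qm (m + 3) a b) (0 : F) = q * (s + 1) +
      (q - 1) * q ^ (Module.finrank F ((Fin (m + 3) ⊕ Fin (m + 3)) ⊕ Fin 2 → F) - 2) := by
    rw [hdim, show q ^ ((m + 2) + (m + 2) + 2) = q * q * x * x by rw [hx]; ring]
    zify [show 1 ≤ q by omega] at hcnt ⊢
    rw [hsZ]; linear_combination hcnt
  have hcl := class_card hQ (dim_ge a b hr hab) s hs' (ts_pair_ev (a := a) (b := b) (m := m))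
  set N := Nat.card {y : Om (Qm (m + 3) a b) //
        IsConj (fM hr hab (wedge (Pi.single 1 1) (Pi.single 0 1))) y} with hN
  have hN' : Nat.card {y : quadIso (Qm (m + 3) a b) // ∃ g ∈ Om (Qm (m + 3) a b),
      g * eg (Qm (m + 3) a b) (ev (Pi.single 0 1)) (ev (Pi.single 1 1)) * g⁻¹ = y} = N := by
    rw [eg_ev_ev]
    refine Nat.card_congr
      { toFun := fun y => ⟨⟨y.1, by
            obtain ⟨g, hg, e⟩ := y.2
            rw [← e]; exact mul_mem (mul_mem hg (zB_mem a b hr hab _)) (inv_mem hg)⟩, by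
            obtain ⟨g, hg, e⟩ := y.2
            exact isConj_iff.2 ⟨⟨g, hg⟩, Subtype.ext e⟩⟩
        invFun := fun y => ⟨y.1.1, by
            obtain ⟨g, hg⟩ := isConj_iff.1 y.2
            exact ⟨g.1, g.2, congrArg Subtype.val hg⟩⟩
        left_inv := fun _ => rfl
        right_inv := fun _ => rfl }
  rw [hN'] at hcl
  have hsing : (Sing (Qm (m + 3) a b)).ncard + 1 = cnt (Qm (m + 3) a b) (0 : F) := sing_card
  have hpos : q ≤ q ^ 3 := Nat.le_self_pow (by norm_num) q
  rw [← hqdef] at hcl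
  zify [hpos] at hcl hsing hcnt
  have hSing : ((Sing (Qm (m + 3) a b)).ncard : ℤ) = ((q : ℤ) * q * x + 1) * (q * x - 1) := by
    linear_combination hsing + hcnt
  rw [hSing, hsZ] at hcl
  have e1 : (q : ℤ) ^ (m + 4) = q * q * x := by rw [hx]; push_cast; ring
  have e2 : (q : ℤ) ^ (m + 3) = q * x := by rw [hx]; push_cast; ring
  have e3 : (q : ℤ) ^ (m + 2) = x := by rw [hx]; push_cast; ring
  rw [e1, e2, e3]
  refine mul_left_cancel₀ (show (q : ℤ) ≠ 0 by exact_mod_cast (by omega : q ≠ 0)) ?_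
  linear_combination hcl

/-- The divisibility from integrality. -/
theorem dvd_nat_of_isIntegral {k N c : ℕ} (hk : 0 < k)
    (h : IsIntegral ℤ ((N : ℂ) * ((k : ℂ) - (c : ℂ)) / (k : ℂ))) : k ∣ N * c := by
  obtain ⟨j, hj⟩ := CharTheory.exists_int_of_isIntegral_ratCast
    (q := (N : ℚ) * ((k : ℚ) - (c : ℚ)) / k) (by push_cast; exact h)
  rw [div_eq_iff (by exact_mod_cast (by omega : k ≠ 0))] at hj
  have e : ((N : ℤ) * ((k : ℤ) - c) : ℚ) = ((k : ℤ) * j : ℚ) := by push_cast; linarith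
  have e' : (N : ℤ) * ((k : ℤ) - c) = (k : ℤ) * j := by exact_mod_cast e
  exact Int.natCast_dvd_natCast.1 ⟨(N : ℤ) - j, by push_cast; linear_combination -e'⟩

end CfsgLib.OrthDeg
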