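import Mathlib
import Cfsg.Agent.Lib.OrthDeg.MinusOps
import Cfsg.Agent.Lib.OrthDeg.RootClass

/-! The fixed space of the radical is a non-trivial module for the Levi subgroup. -/

set_option autoImplicit false
set_option maxHeartbeats 6400000

namespace CfsgLib.OrthDeg

open Matrix QuadraticMap CfsgLib.WittExtension CfsgLib.OmegaMin CfsgLib.RadicalBound CfsgLib.SLMin
open CfsgLib.StdQuadForms (Qm)

local notation "ψ" => CfsgLib.SympWeil.ψ

variable {F : Type*} [Field F] [Fintype F] [DecidableEq F]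

/-- The number of representations of a value by the anisotropic binary form is one modulo the characteristic. -/
theorem count_bin {a b : F} (hab : ∀ z₁ z₂ : F, z₁ ^ 2 + a * z₁ * z₂ + b * z₂ ^ 2 = 0 → z₁ = 0 ∧ z₂ = 0) (c : F) :
    ((Finset.univ.filter fun w : Fin 2 → F => CfsgLib.OrthOrder.binForm a b w = c).card : F) = 1 := by
  classical
  set Q2 := CfsgLib.OrthOrder.binForm a b
  have happ : ∀ z, Q2 z = z 0 ^ 2 + a * z 0 * z 1 + b * z 1 ^ 2 := CfsgLib.OrthOrder.binForm_apply a b
  set N : F → ℕ := fun c => (Finset.univ.filter fun w : Fin 2 → F => Q2 w = c).card with hN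
  show (N c : F) = 1
  have haniso : ∀ z, Q2 z = 0 → z = 0 := fun z hz => by
    rw [happ] at hz
    obtain ⟨h0, h1⟩ := hab _ _ hz
    funext i; fin_cases i <;> assumption
  have h0 : N 0 = 1 := by
    rw [hN]
    refine Finset.card_eq_one.2 ⟨0, Finset.ext fun w => ?_⟩
    simp only [Finset.mem_filter, Finset.mem_univ, true_and, Finset.mem_singleton]
    exact ⟨haniso w, fun h => by rw [h, QuadraticMap.map_zero]⟩
  by_cases hc : c = 0
  · rw [hc, h0, Nat.cast_one]
  have h1 : N 1 = Fintype.card F + 1 := by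
    rw [← CfsgLib.OrthOrder.card_conic hab, Nat.card_eq_fintype_card, Fintype.card_subtype]
  have hle : ∀ c : F, c ≠ 0 → N c = 0 ∨ N c = Fintype.card F + 1 := by
    intro c hc
    by_cases hex : ∃ w, Q2 w = c
    · obtain ⟨w, hw⟩ := hex
      right
      rw [← h1]
      let f : (Fin 2 → F) → (Fin 2 → F) → Fin 2 → F := fun z u =>
        ![z 0 * u 0 - b * (z 1 * u 1), z 0 * u 1 + z 1 * u 0 + a * (z 1 * u 1)]
      have hm : ∀ z u, Q2 (f z u) = Q2 z * Q2 u := fun z u => by
        simp only [happ, f, Matrix.cons_val_zero, Matrix.cons_val_one]; ring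
      let wi : Fin 2 → F := c⁻¹ • ![w 0 + a * w 1, -w 1]
      have hwi : Q2 wi = c⁻¹ := by
        rw [happ] at hw
        show Q2 (c⁻¹ • ![w 0 + a * w 1, -w 1]) = c⁻¹
        rw [QuadraticMap.map_smul, happ]
        simp only [Matrix.cons_val_zero, Matrix.cons_val_one, smul_eq_mul]
        field_simp
        linear_combination hw
      have hcancel : ∀ z, f (f z w) wi = z ∧ f (f z wi) w = z := fun z => by
        rw [happ] at hw
        constructor <;> funext i <;> fin_cases i <;>
          simp [f, wi] <;> field_simp <;>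
          first | linear_combination (z 0) * hw | linear_combination (z 1) * hw
      refine Finset.card_nbij' (fun z => f z wi) (fun z => f z w) ?_ ?_ ?_ ?_
      · intro z hz
        simp only [Finset.coe_filter, Finset.mem_univ, true_and, Set.mem_setOf_eq] at hz ⊢
        rw [hm, hz, hwi, mul_inv_cancel₀ hc]
      · intro z hz
        simp only [Finset.coe_filter, Finset.mem_univ, true_and, Set.mem_setOf_eq] at hz ⊢
        rw [hm, hz, hw, one_mul]
      · exact fun z _ => (hcancel z).2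
      · exact fun z _ => (hcancel z).1
    · left
      rw [hN, Finset.card_eq_zero, Finset.filter_eq_empty_iff]
      exact fun w _ hw => hex ⟨w, hw⟩
  have hsum : ∑ c, N c = Fintype.card F ^ 2 := by
    rw [hN, ← Finset.card_eq_sum_card_fiberwise (t := Finset.univ) (fun _ _ => Finset.mem_univ _),
      Finset.card_univ, Fintype.card_fun, Fintype.card_fin]
  rw [← Finset.add_sum_erase _ _ (Finset.mem_univ (0 : F)), h0] at hsum
  have hall : N c = Fintype.card F + 1 := by
    by_contra hne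
    have hc0 : N c = 0 := (hle c hc).resolve_right hne
    have hlt : ∑ x ∈ Finset.univ.erase (0 : F), N x ≤
        ((Finset.univ.erase (0 : F)).erase c).card * (Fintype.card F + 1) := by
      rw [← Finset.add_sum_erase _ _ (Finset.mem_erase.2 ⟨hc, Finset.mem_univ c⟩), hc0, zero_add, ← smul_eq_mul]
      refine Finset.sum_le_card_nsmul _ _ _ fun x hx => ?_
      rcases hle x (Finset.ne_of_mem_erase (Finset.mem_of_mem_erase hx)) with h | h <;> omega
    rw [Finset.card_erase_of_mem (Finset.mem_erase.2 ⟨hc, Finset.mem_univ c⟩),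
      Finset.card_erase_of_mem (Finset.mem_univ _), Finset.card_univ] at hlt
    obtain ⟨q, hq⟩ : ∃ q, Fintype.card F = q + 2 := ⟨Fintype.card F - 2, by
      have := Fintype.one_lt_card (α := F); omega⟩
    rw [hq] at hlt hsum
    simp only [show q + 2 - 1 - 1 = q by omega] at hlt
    nlinarith
  rw [hall, Nat.cast_add, Nat.cast_card_eq_zero, zero_add, Nat.cast_one]

theorem smul_one_inj {W : Type*} [AddCommGroup W] [Module ℂ W] [Nontrivial W] {x y : ℂ}
    (h : x • (1 : Module.End ℂ W) = y • 1) : x = y := by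
  obtain ⟨v, hv⟩ := exists_ne (0 : W)
  exact smul_left_injective ℂ hv (LinearMap.congr_fun h v)

variable {m : ℕ} {a b : F}

/-- A transvection. -/
noncomputable def xg (d : Fin (m + 2) → F) : GL (Fin (m + 3)) F := Matrix.SpecialLinearGroup.toGL (tx d)

theorem xg_coe (d : Fin (m + 2) → F) :
    (xg d).1 = 1 + vecMulVec (Pi.single 0 1) (Fin.cons (0 : F) d) := by
  show blkM 1 d 1 = _
  ext i j
  refine Fin.cases ?_ (fun i' => ?_) i <;> refine Fin.cases ?_ (fun j' => ?_) j <;>
    simp [blkM_00, blkM_0s, blkM_s0, blkM_ss, vecMulVec_apply, Matrix.one_apply, Fin.succ_ne_zero,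
      (Fin.succ_ne_zero _).symm]

theorem xg_mulVec (d : Fin (m + 2) → F) (v : Fin (m + 3) → F) :
    (xg d).1 *ᵥ v = v + ((Fin.cons (0 : F) d : Fin (m + 3) → F) ⬝ᵥ v) • Pi.single 0 1 := by
  rw [xg_coe, add_mulVec, one_mulVec, vecMulVec_mulVec]
  funext i; simp [mul_comm]

theorem xg_add (d d' : Fin (m + 2) → F) : xg (d + d') = xg d * xg d' := by
  rw [xg, xg, xg, tx_add, map_mul]

/-- The action of a transvection on a form. -/
theorem act_xg (d : Fin (m + 2) → F) (C : Alt F (m + 3)) :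
    act (xg d).1 C = C + wedge (Fin.cons 0 d) (C.1 0) := by
  refine Subtype.ext (Matrix.ext fun i j => ?_)
  rw [act_coe, xg_coe, transpose_add, transpose_one, transpose_vecMulVec, add_mul, one_mul, mul_add, mul_one,
    vecMulVec_mul, Matrix.mul_vecMulVec]
  simp only [Submodule.coe_add, Matrix.add_apply, wedge_apply, vecMulVec_apply, add_mulVec, mulVec_single_one,
    Matrix.single_one_vecMul]
  simp [Matrix.col, vecMulVec_apply, alt_diag, alt_skew C i 0]
  ring

variable (hm : 3 ≤ m + 3) (hab : ∀ z₁ z₂ : F, z₁ ^ 2 + a * z₁ * z₂ + b * z₂ ^ 2 = 0 → z₁ = 0 ∧ z₂ = 0)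
  {k : ℕ} (ρ : Representation ℂ (Om (Qm (m + 3) a b)) (Fin k → ℂ))

theorem tx_square (d : Fin (m + 2) → F) : IsSquare (xg d).1.det := by
  rw [show (xg d).1.det = 1 from (tx d).2]; exact IsSquare.one

/-- A transvection inside the derived group. -/
noncomputable def xM (d : Fin (m + 2) → F) : Om (Qm (m + 3) a b) :=
  ⟨LG a b (xg d), LG_mem a b hm (tx_square d)⟩

theorem xM_add (d d' : Fin (m + 2) → F) : xM (a := a) (b := b) hm (d + d') = xM hm d * xM hm d' :=
  Subtype.ext (by
    show LG a b (xg (d + d')) = LG a b (xg d) * LG a b (xg d')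
    rw [xg_add]; simp only [LG, lq_mul, map_mul])

theorem xM_fM (d : Fin (m + 2) → F) (B : Alt F (m + 3)) :
    xM hm d * fM hm hab B = fM hm hab (act (xg d).1ᵀ B) * xM hm d := Subtype.ext (LG_zB a b (xg d) B)

theorem xM_uM (d : Fin (m + 2) → F) (v : Fin (m + 3) → F) (w : Fin 2 → F) :
    xM hm d * uM hm hab v w = uM hm hab ((xg d).1 *ᵥ v) w * xM hm d := Subtype.ext (LG_EU a b (xg d) v w)

/-- Congruence by a transvection as an additive equivalence. -/
noncomputable def cx (d : Fin (m + 2) → F) : Alt F (m + 3) ≃+ Alt F (m + 3) :=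
  AddEquiv.ofBijective (act (xg d).1ᵀ).toAddMonoidHom (Finite.injective_iff_bijective.1
    (act_injective (by rw [det_transpose, show (xg d).1.det = 1 from (tx d).2]; exact one_ne_zero)))

theorem PC_move (d : Fin (m + 2) → F) (C : Alt F (m + 3)) :
    ρ (xM hm d) * PC hm hab ρ (act (xg d).1 C) = PC hm hab ρ C * ρ (xM hm d) :=
  proj_conj (fM hm hab) ρ (xM hm d) (cx d) (fun S => xM_fM hm hab d S) _ _ fun S => by
    show chi C (act (xg d).1ᵀ S) = _
    rw [chi_apply, chi_apply, pair_act]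

theorem xM_nrm {d : Fin (m + 2) → F} {C : Alt F (m + 3)} (h : wedge (Fin.cons 0 d) (C.1 0) = 0) :
    xM hm d ∈ Nrm hm hab ρ C := by
  have := PC_move hm hab ρ d C
  rw [act_xg, h, add_zero] at this
  exact this

theorem trace_moved {d : Fin (m + 2) → F} {C : Alt F (m + 3)} (h : wedge (Fin.cons 0 d) (C.1 0) ≠ 0) :
    LinearMap.trace ℂ (Fin k → ℂ) (ρ (xM hm d) * PC hm hab ρ C) = 0 := by
  classical
  have hne : chi (act (xg d).1 C) ≠ chi C := fun e => h (by
    have := chi_bijective.1 e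
    rw [act_xg] at this
    simpa using this)
  rw [show PC hm hab ρ C = PC hm hab ρ C * PC hm hab ρ C from (idem (fM hm hab) ρ (fM_add hm hab) (chi C)).eq.symm,
    ← mul_assoc, LinearMap.trace_mul_comm, ← mul_assoc, ← PC_move hm hab ρ d C, mul_assoc]
  unfold PC
  rw [proj_mul (fM hm hab) ρ (fM_add hm hab), if_neg hne, mul_zero, map_zero]

theorem mC_move (d : Fin (m + 2) → F) (C : Alt F (m + 3)) :
    mC hm hab ρ (act (xg d).1 C) = mC hm hab ρ C :=
  mult_conj (fM hm hab) ρ (fM_add hm hab) (xM hm d) (cx d) (fun S => xM_fM hm hab d S) _ _ fun S => by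
    show chi C (act (xg d).1ᵀ S) = _
    rw [chi_apply, chi_apply, pair_act]

/-- A covering element of a radical direction acts trivially. -/
theorem Ev_rad {C : Alt F (m + 3)} {e v p : Fin (m + 3) → F} (hvp : bf C v p ≠ 0) (he : ∀ u, bf C e u = 0)
    (h1 : mC hm hab ρ C = Fintype.card F ^ 2) (w : Fin 2 → F) : Ev hm hab ρ C e w = 1 := by
  classical
  have hcomm : ∀ u w', ∀ x, Ev hm hab ρ C e x * Ev hm hab ρ C u w' = Ev hm hab ρ C u w' * Ev hm hab ρ C e x :=
    fun u w' x => by rw [Ev_comm, he, mul_zero, AddChar.map_zero_eq_one, one_smul]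
  choose s hs using fun x => Ev_scalar hm hab ρ C hvp h1 (fun w' => hcomm v w' x) (fun w' => hcomm p w' x)
  obtain ⟨R, hR, hRfix⟩ := exists_rot a b hab
  have hRn : (⟨liftE a b R, hR⟩ : Om (Qm (m + 3) a b)) ∈ Nrm hm hab ρ C :=
    proj_comm (fM hm hab) ρ (fM_add hm hab) _ (AddEquiv.refl _)
      (fun S => Subtype.ext (RE_zB a b R S)) _ fun S => rfl
  haveI : Nontrivial (LinearMap.range (PC hm hab ρ C)) := Module.finrank_pos_iff.1 (by
    rw [← mC_eq, h1]; exact pow_pos Fintype.card_pos 2)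
  have hinj : ∀ x y : ℂ, x • (1 : Module.End ℂ (LinearMap.range (PC hm hab ρ C))) = y • 1 → x = y :=
    fun x y h => smul_one_inj h
  have hsR : ∀ x, s (R.1 x) = s x := fun x => by
    set r0 := rp hm hab ρ C ⟨_, hRn⟩ with hr0
    have e0 : r0 * Ev hm hab ρ C e x = Ev hm hab ρ C e (R.1 x) * r0 := by
      rw [hr0, Ev, Ev, ← map_mul, ← map_mul]
      congr 1
      exact Subtype.ext (Subtype.ext (RE_EU a b R e x))
    rw [hs, hs, mul_smul_comm, smul_mul_assoc, mul_one, one_mul] at e0
    have hu : IsUnit r0 := by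
      refine IsUnit.of_mul_eq_one (rp hm hab ρ C ⟨(⟨liftE a b R, hR⟩ : Om (Qm (m + 3) a b))⁻¹, ?_⟩) ?_
      · exact proj_comm (fM hm hab) ρ (fM_add hm hab) _ (AddEquiv.refl _)
          (fun S => Subtype.ext (by
            show (liftE a b R)⁻¹ * zB a b S = zB a b S * (liftE a b R)⁻¹
            rw [← map_inv]; exact RE_zB a b R⁻¹ S)) _ fun S => rfl
      · rw [hr0, ← map_mul]
        exact (congrArg _ (Subtype.ext (mul_inv_cancel _))).trans (map_one _)
    obtain ⟨u, hu⟩ := hu
    obtain ⟨v, hv⟩ := exists_ne (0 : LinearMap.range (PC hm hab ρ C))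
    have hne : r0 v ≠ 0 := fun h => hv (by
      rw [show v = u.inv (r0 v) by rw [← hu, ← Module.End.mul_apply, u.inv_val, Module.End.one_apply], h, map_zero])
    exact (smul_left_injective ℂ hne (LinearMap.congr_fun e0 v)).symm
  have hadd : ∀ x y, s (x + y) = s x * s y := fun x y => hinj _ _ (by
    rw [← hs, Ev_add, hs, hs, smul_mul_assoc, one_mul, smul_smul])
  have hsurj : Function.Surjective fun x => R.1 x - x := by
    refine Finite.injective_iff_surjective.1 fun x y h => sub_eq_zero.1 (hRfix _ ?_)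
    rw [map_sub]
    linear_combination (norm := abel) h
  obtain ⟨y, hy⟩ := hsurj w
  have hy' : R.1 y = w + y := by rw [← hy]; simp
  have h2 := hsR y
  rw [hy', hadd] at h2
  have hy0 : s y ≠ 0 := fun h0 => by
    have := Ev_unit hm hab ρ C e y
    rw [hs, hs, h0, zero_smul, zero_mul] at this
    exact zero_ne_one this
  rw [hs, mul_eq_right₀ hy0 |>.1 h2, one_smul]

/-- The trace sum over transvections on a part where they are scalars. -/
theorem sum_scalar {C : Alt F (m + 3)} (hC : C ≠ 0) (h0 : C.1 0 = 0) (h1 : mC hm hab ρ C = Fintype.card F ^ 2) :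
    ∃ e : ℕ, ∑ d, LinearMap.trace ℂ (Fin k → ℂ) (ρ (xM hm d) * PC hm hab ρ C) =
      ((Fintype.card F ^ (m + 2) * (Fintype.card F ^ 2 * e) : ℕ) : ℂ) := by
  classical
  obtain ⟨i, j, hij⟩ : ∃ i j, C.1 i j ≠ 0 := by
    by_contra hcon
    push Not at hcon
    exact hC (Subtype.ext (Matrix.ext hcon))
  set v : Fin (m + 3) → F := Pi.single i 1
  set p : Fin (m + 3) → F := Pi.single j 1
  have hvp : bf C v p ≠ 0 := by rwa [bf_single]
  have he : ∀ u, bf C (Pi.single 0 1) u = 0 := fun u => by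
    simp [bf, mulVec, h0]
  have hw : ∀ d, wedge (Fin.cons 0 d) (C.1 0) = 0 := fun d =>
    Subtype.ext (Matrix.ext fun x y => by simp [wedge_apply, h0])
  let X : (Fin (m + 2) → F) → Nrm hm hab ρ C := fun d => ⟨xM hm d, xM_nrm hm hab ρ (hw d)⟩
  have hX : ∀ d u w, rp hm hab ρ C (X d) * Ev hm hab ρ C u w = Ev hm hab ρ C u w * rp hm hab ρ C (X d) := by
    intro d u w
    have e : Ev hm hab ρ C ((xg d).1 *ᵥ u) w = Ev hm hab ρ C u w := by
      rw [xg_mulVec, Ev_left, Ev_smul, Ev_rad hm hab ρ hvp he h1, mul_one,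
        show bf C ((((Fin.cons (0 : F) d : Fin (m + 3) → F) ⬝ᵥ u)) • Pi.single 0 1) u = 0 by
          rw [bf, smul_dotProduct, show (Pi.single 0 1 : Fin (m + 3) → F) ⬝ᵥ (C.1 *ᵥ u) = 0 from he u, smul_zero],
        mul_zero, AddChar.map_zero_eq_one, one_smul]
    conv_rhs => rw [← e]
    rw [Ev, Ev, ← map_mul, ← map_mul]
    congr 1
    exact Subtype.ext (xM_uM hm hab d u w)
  choose s hs using fun d => Ev_scalar hm hab ρ C hvp h1 (hX d v) (hX d p)
  have htr : ∀ d, LinearMap.trace ℂ (Fin k → ℂ) (ρ (xM hm d) * PC hm hab ρ C) =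
      s d * ((Fintype.card F ^ 2 : ℕ) : ℂ) := fun d => by
    rw [trace_rp hm hab ρ C (X d), hs, map_smul, LinearMap.trace_one, ← mC_eq, h1, smul_eq_mul]
  haveI : Nontrivial (LinearMap.range (PC hm hab ρ C)) := Module.finrank_pos_iff.1 (by
    rw [← mC_eq, h1]; exact pow_pos Fintype.card_pos 2)
  let χ : AddChar (Fin (m + 2) → F) ℂ := ⟨s, by
      refine smul_one_inj (W := LinearMap.range (PC hm hab ρ C)) ?_
      show s 0 • (1 : Module.End ℂ _) = (1 : ℂ) • 1
      rw [← hs, one_smul, show X 0 = 1 from Subtype.ext ?_, map_one]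
      have := xM_add (a := a) (b := b) hm 0 0
      rwa [add_zero, left_eq_mul] at this,
    fun x y => by
      refine smul_one_inj (W := LinearMap.range (PC hm hab ρ C)) ?_
      show s (x + y) • (1 : Module.End ℂ _) = (s x * s y) • 1
      rw [← hs, show X (x + y) = X x * X y from Subtype.ext (xM_add hm x y), map_mul, hs, hs, smul_mul_assoc,
        one_mul, smul_smul]⟩
  by_cases hχ : χ = 1
  · refine ⟨1, ?_⟩
    rw [Finset.sum_congr rfl fun d _ => htr d, ← Finset.sum_mul,
      Finset.sum_congr rfl fun d _ => (show s d = 1 from DFunLike.congr_fun hχ d)]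
    simp
  · refine ⟨0, ?_⟩
    rw [Finset.sum_congr rfl fun d _ => htr d, ← Finset.sum_mul]
    have : ∑ d, s d = 0 := AddChar.sum_eq_zero_of_ne_one hχ
    rw [this]; simp

/-- The characters of the field. -/
theorem exists_psi (χ : AddChar F ℂ) : ∃ c : F, ∀ t, χ t = (ψ : AddChar F ℂ) (c * t) := by
  classical
  let Φ : F → AddChar F ℂ := fun c => ⟨fun t => (ψ : AddChar F ℂ) (c * t), by simp, fun x y => by
    rw [mul_add, AddChar.map_add_eq_mul]⟩
  have hb : Function.Bijective Φ := by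
    refine (Fintype.bijective_iff_injective_and_card _).2 ⟨fun c c' h => ?_, (AddChar.card_eq (α := F)).symm⟩
    rw [← sub_eq_zero]
    by_contra hne
    obtain ⟨x, hx⟩ := CfsgLib.SympWeil.ψ_ne hne
    apply hx
    have e : (ψ : AddChar F ℂ) (c * x) = (ψ : AddChar F ℂ) (c' * x) := DFunLike.congr_fun h x
    rw [sub_mul, sub_eq_add_neg, AddChar.map_add_eq_mul, e, ← AddChar.map_add_eq_mul, add_neg_cancel,
      AddChar.map_zero_eq_one]
  obtain ⟨c, hc⟩ := hb.2 χ
  exact ⟨c, fun t => (DFunLike.congr_fun hc t).symm⟩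

/-- The trace sum over the stabiliser of a moved part. -/
theorem sum_line {C : Alt F (m + 3)} {j : Fin (m + 2)} (hj : C.1 0 j.succ ≠ 0)
    (h1 : mC hm hab ρ C = Fintype.card F ^ 2) :
    ∃ N : ℕ, (N : F) = 1 ∧ ∑ t : F, LinearMap.trace ℂ (Fin k → ℂ)
      (ρ (xM hm (t • fun i => C.1 0 i.succ)) * PC hm hab ρ C) = ((Fintype.card F * N : ℕ) : ℂ) := by
  classical
  set φ : Fin (m + 3) → F := C.1 0
  have hφ : (Fin.cons 0 (fun i : Fin (m + 2) => φ i.succ) : Fin (m + 3) → F) = φ :=
    funext fun i => Fin.cases (by simp [φ, alt_diag]) (fun i' => by simp) i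
  set p : Fin (m + 3) → F := Pi.single j.succ (φ j.succ)⁻¹
  have hφp : φ ⬝ᵥ p = 1 := by simp [p, φ, hj]
  have hep : bf C (Pi.single 0 1) p = 1 := by
    rw [bf, single_dotProduct, one_mul]; exact hφp
  have hvp : bf C (Pi.single 0 1) p ≠ 0 := by rw [hep]; exact one_ne_zero
  have hw : ∀ t : F, wedge (Fin.cons 0 (t • fun i : Fin (m + 2) => φ i.succ)) (C.1 0) = 0 := fun t => by
    have e : (Fin.cons 0 (t • fun i : Fin (m + 2) => φ i.succ) : Fin (m + 3) → F) = t • φ :=
      funext fun i => Fin.cases (by simp [φ, alt_diag]) (fun i' => by simp) i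
    rw [e]; exact Subtype.ext (Matrix.ext fun x y => by simp [wedge_apply, φ]; ring)
  let X : F → Nrm hm hab ρ C := fun t => ⟨xM hm (t • fun i => φ i.succ), xM_nrm hm hab ρ (hw t)⟩
  have hgv : ∀ t u, (xg (t • fun i : Fin (m + 2) => φ i.succ)).1 *ᵥ u = u + (t * (φ ⬝ᵥ u)) • Pi.single 0 1 := by
    intro t u
    rw [xg_mulVec, show (Fin.cons 0 (t • fun i : Fin (m + 2) => φ i.succ) : Fin (m + 3) → F) = t • φ from
      funext fun i => Fin.cases (by simp [φ, alt_diag]) (fun i' => by simp) i, smul_dotProduct, smul_eq_mul]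
  have hconj : ∀ t u w, rp hm hab ρ C (X t) * Ev hm hab ρ C u w =
      Ev hm hab ρ C (u + (t * (φ ⬝ᵥ u)) • Pi.single 0 1) w * rp hm hab ρ C (X t) := by
    intro t u w
    rw [← hgv, Ev, Ev, ← map_mul, ← map_mul]
    congr 1
    exact Subtype.ext (xM_uM hm hab _ u w)
  set A := Ev hm hab ρ C (Pi.single 0 1) with hA
  have hA0 : A 0 = 1 := Ev_zero hm hab ρ C _
  have hAadd : ∀ x y, A (x + y) = A x * A y := Ev_add hm hab ρ C _
  set P0 := pA A 1 with hP0
  have hXA : ∀ t w, rp hm hab ρ C (X t) * A w = A w * rp hm hab ρ C (X t) := by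
    intro t w
    rw [hA, hconj, show φ ⬝ᵥ (Pi.single 0 1 : Fin (m + 3) → F) = 0 by simp [φ, alt_diag], mul_zero, zero_smul,
      add_zero]
  set Q2 := CfsgLib.OrthOrder.binForm a b
  have hshift : ∀ w v, A v * Ev hm hab ρ C p w = bchar (a := a) (b := b) 1 w v • (Ev hm hab ρ C p w * A v) := by
    intro w v; rw [hA, Ev_shift, hep]
  have hbij : Function.Bijective (bchar (a := a) (b := b) (1 : F)) := bchar_bijective hab one_ne_zero
  have hdim : ∀ θ, Module.finrank ℂ (LinearMap.range (pA A θ)) = 1 := fun θ => by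
    have := shift_dim A hA0 hAadd (fun w => Ev hm hab ρ C p w) (fun w => Ev hm hab ρ C p (-w))
      (bchar (a := a) (b := b) 1) (Ev_unit hm hab ρ C p) hshift hbij.2 θ
    rw [← mC_eq, h1, Fintype.card_fun, Fintype.card_fin] at this
    exact Nat.eq_of_mul_eq_mul_left (pow_pos Fintype.card_pos 2) (this.trans (mul_one _).symm)
  haveI : Nontrivial (LinearMap.range (PC hm hab ρ C)) := Module.finrank_pos_iff.1 (by
    rw [← mC_eq, h1]; exact pow_pos Fintype.card_pos 2)
  set α : F → ℂ := fun t => LinearMap.trace ℂ _ (rp hm hab ρ C (X t) * P0) with hα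
  have hXP : ∀ t, rp hm hab ρ C (X t) * P0 = α t • P0 := fun t =>
    line_scalar A hAadd (hXA t) (hdim 1)
  let χ : AddChar F ℂ := ⟨α, by
      show LinearMap.trace ℂ _ (rp hm hab ρ C (X 0) * P0) = 1
      rw [show X 0 = 1 from Subtype.ext ?_, map_one, one_mul, hP0, trace_pA A hAadd, hdim, Nat.cast_one]
      show xM hm ((0 : F) • _) = 1
      rw [zero_smul]
      have := xM_add (a := a) (b := b) hm (0 : Fin (m + 2) → F) 0
      rwa [add_zero, left_eq_mul] at this,
    fun x y => by
      have e : rp hm hab ρ C (X (x + y)) = rp hm hab ρ C (X x) * rp hm hab ρ C (X y) := by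
        rw [← map_mul]; congr 1
        exact Subtype.ext (by
          show xM hm ((x + y) • _) = xM hm (x • _) * xM hm (y • _)
          rw [add_smul, xM_add])
      show α (x + y) = α x * α y
      conv_lhs => rw [hα]; dsimp only; rw [e, mul_assoc, hXP, mul_smul_comm, hXP, smul_smul, map_smul, hP0,
        trace_pA A hAadd, hdim, Nat.cast_one, smul_eq_mul, mul_one]
      exact mul_comm _ _⟩
  obtain ⟨c, hc⟩ := exists_psi χ
  have htr : ∀ t, LinearMap.trace ℂ (Fin k → ℂ) (ρ (xM hm (t • fun i => φ i.succ)) * PC hm hab ρ C) =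
      ∑ w : Fin 2 → F, (ψ : AddChar F ℂ) ((c - Q2 w * bf C (Pi.single 0 1) p) * t) := by
    intro t
    rw [trace_rp hm hab ρ C (X t), trace_split A hA0 hAadd]
    symm
    refine Fintype.sum_bijective (bchar (a := a) (b := b) 1) hbij _ _ fun w => ?_
    set H := Ev hm hab ρ C p w with hH
    set H' := Ev hm hab ρ C p (-w)
    have e := pA_shift A (hshift w) 1
    rw [one_mul] at e
    have hX' : rp hm hab ρ C (X t) * H =
        (ψ : AddChar F ℂ) (-(Q2 w) * (t * bf C (Pi.single 0 1) p)) • (H * A (t • w) * rp hm hab ρ C (X t)) := by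
      rw [hH, hconj, hφp, mul_one, Ev_left, Ev_smul, bf, smul_dotProduct, smul_eq_mul, smul_mul_assoc]
      rfl
    have e2 : rp hm hab ρ C (X t) * pA A (bchar (a := a) (b := b) 1 w) * H =
        ((ψ : AddChar F ℂ) (-(Q2 w) * (t * bf C (Pi.single 0 1) p)) * α t) •
          (pA A (bchar (a := a) (b := b) 1 w) * H) := by
      rw [mul_assoc, e, ← mul_assoc, hX', smul_mul_assoc, mul_assoc, hXP, mul_smul_comm, smul_smul, mul_assoc H,
        hP0, A_pA A hAadd, AddChar.one_apply, one_smul]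
    have hu : H * H' = 1 := Ev_unit hm hab ρ C p w
    rw [← mul_one (rp hm hab ρ C (X t) * _), ← hu, ← mul_assoc, e2, smul_mul_assoc, mul_assoc, hu, mul_one,
      map_smul, trace_pA A hAadd, hdim, Nat.cast_one, smul_eq_mul, mul_one, show α t = _ from hc t,
      ← AddChar.map_add_eq_mul]
    congr 1
    ring
  refine ⟨(Finset.univ.filter fun w : Fin 2 → F => Q2 w = c).card, count_bin hab c, ?_⟩
  rw [Finset.sum_congr rfl fun t _ => htr t, Finset.sum_comm, Nat.cast_mul, Finset.card_filter, Nat.cast_sum,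
    Finset.mul_sum]
  refine Finset.sum_congr rfl fun w _ => ?_
  rw [hep, mul_one]
  split_ifs with h
  · simp [h]
  · let θ : AddChar F ℂ := ⟨fun t => (ψ : AddChar F ℂ) ((c - Q2 w) * t), by simp, fun x y => by
      rw [mul_add, AddChar.map_add_eq_mul]⟩
    obtain ⟨x, hx⟩ := CfsgLib.SympWeil.ψ_ne (sub_ne_zero.2 (Ne.symm h))
    have hz : ∑ t, (ψ : AddChar F ℂ) ((c - Q2 w) * t) = 0 :=
      AddChar.sum_eq_zero_of_ne_one (show θ ≠ 1 from fun e => hx (DFunLike.congr_fun e x))
    rw [hz]; simp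

include hab in
theorem xM_eq_eg (d : Fin (m + 2) → F) :
    (xM (a := a) (b := b) hm d).1 = eg (Qm (m + 3) a b) (fv (Fin.cons 0 d)) (ev (Pi.single 0 1)) :=
  LG_eq_eg a b hm hab 0 _ (Fin.cons_zero _ _) (xg d) (xg_coe d)

variable (hO : ∀ C ∈ O2 F (m + 3), mC hm hab ρ C = Fintype.card F ^ 2)
  (hN : ∀ C, ¬ Dec C → mC hm hab ρ C = 0)
include hO hN

/-- The Levi subgroup acts non-trivially on the fixed space of the radical. -/
theorem levi_nontrivial :
    ∃ d, ρ (xM hm d) * PC hm hab ρ 0 ≠ PC hm hab ρ 0 := by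
  classical
  by_contra hcon
  push Not at hcon
  set q := Fintype.card F with hq
  set tr := LinearMap.trace ℂ (Fin k → ℂ)
  let eχ : Alt F (m + 3) ≃ AddChar (Alt F (m + 3)) ℂ := Equiv.ofBijective chi chi_bijective
  have hsum : ∀ g, tr (ρ g) = ∑ C, tr (ρ g * PC hm hab ρ C) := fun g => by
    rw [← map_sum, ← Finset.mul_sum]
    have e : ∑ C, PC hm hab ρ C = 1 := by
      rw [← sum_proj (fM hm hab) ρ (fM_add hm hab), ← eχ.sum_comp fun χ => RadicalBound.proj (fM hm hab) ρ χ]
      rfl
    rw [e, mul_one]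
  have hzero : ∀ C, ¬ Dec C → PC hm hab ρ C = 0 := fun C hC =>
    LinearMap.range_eq_bot.1 (Submodule.finrank_eq_zero.1 (hN C hC))
  -- split the forms
  set S := (O2 F (m + 3)).filter fun C => C.1 0 = 0 with hS
  set M := (O2 F (m + 3)).filter fun C => C.1 0 ≠ 0 with hM
  have hsplit : ∀ g, tr (ρ g) = tr (ρ g * PC hm hab ρ 0) + ∑ C ∈ S, tr (ρ g * PC hm hab ρ C) +
      ∑ C ∈ M, tr (ρ g * PC hm hab ρ C) := fun g => by
    rw [hsum, add_assoc, hS, hM, Finset.sum_filter_add_sum_filter_not,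
      ← Finset.sum_insert (a := (0 : Alt F (m + 3))) (f := fun C => tr (ρ g * PC hm hab ρ C))
        (fun h => (mem_O2.1 h).1 rfl)]
    refine (Finset.sum_subset (Finset.subset_univ _) fun C _ hC => ?_).symm
    rw [hzero C fun hd => hC ?_, mul_zero, map_zero]
    by_cases h0 : C = 0
    · simp [h0]
    · exact Finset.mem_insert_of_mem (mem_O2.2 ⟨h0, hd⟩)
  set D := mC hm hab ρ 0 with hD
  -- the radical side
  let Bd : (Fin (m + 2) → F) → Alt F (m + 3) := fun d => wedge (Fin.cons 0 d) (Pi.single 0 1)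
  have hrowsum : ∀ C : Alt F (m + 3), ∑ d : Fin (m + 2) → F, chi C (Bd d) =
      if C.1 0 = 0 then ((q ^ (m + 2) : ℕ) : ℂ) else 0 := fun C => by
    let θ : AddChar (Fin (m + 2) → F) ℂ := ⟨fun d => chi C (Bd d), by
        rw [show Bd 0 = 0 from Subtype.ext (Matrix.ext fun i j => by
          simp [Bd, wedge_apply, show (Fin.cons 0 (0 : Fin (m + 2) → F) : Fin (m + 3) → F) = 0 from
            funext fun x => Fin.cases rfl (fun _ => rfl) x])]
        exact AddChar.map_zero_eq_one _,
      fun x y => by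
        rw [show Bd (x + y) = Bd x + Bd y from Subtype.ext (Matrix.ext fun i j => by
          simp only [Bd, Submodule.coe_add, Matrix.add_apply, wedge_apply]
          refine Fin.cases ?_ (fun i' => ?_) i <;> refine Fin.cases ?_ (fun j' => ?_) j <;> simp <;> ring)]
        exact AddChar.map_add_eq_mul _ _ _⟩
    have hθ : ∀ d, θ d = (ψ : AddChar F ℂ) (∑ i, d i * C.1 i.succ 0) := fun d => by
      show chi C (Bd d) = _
      rw [chi_apply, pair_wedge, bf]
      simp [Fin.sum_univ_succ, dotProduct, mulVec]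
    split_ifs with h
    · have : ∀ d, θ d = 1 := fun d => by
        rw [hθ]; simp [alt_skew C _ 0, h]
      rw [Finset.sum_congr rfl fun d _ => (show chi C (Bd d) = 1 from this d)]
      simp [hq]
    · obtain ⟨i, hi⟩ : ∃ i : Fin (m + 2), C.1 i.succ 0 ≠ 0 := by
        by_contra hc
        push Not at hc
        exact h (funext fun x => Fin.cases (alt_diag C 0) (fun i => by rw [alt_skew C 0, hc]; simp) x)
      obtain ⟨x, hx⟩ := CfsgLib.SympWeil.ψ_ne hi
      exact AddChar.sum_eq_zero_of_ne_one (show θ ≠ 1 from fun e => hx (by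
        have := DFunLike.congr_fun e (Pi.single i x)
        rw [hθ, AddChar.one_apply] at this
        simpa [Pi.single_apply, mul_comm] using this))
  have hL : ∑ d, tr (ρ (fM hm hab (Bd d))) = ((q ^ (m + 2) * (D + q ^ 2 * S.card) : ℕ) : ℂ) := by
    have hp : ∀ C B, tr (ρ (fM hm hab B) * PC hm hab ρ C) = chi C B * (mC hm hab ρ C : ℂ) := fun C B => by
      rw [show ρ (fM hm hab B) * PC hm hab ρ C = chi C B • PC hm hab ρ C from
        eig_proj (fM hm hab) (fM_add hm hab) ρ (chi C) B, map_smul, smul_eq_mul]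
      congr 1
      exact trace_proj (fM hm hab) ρ (fM_add hm hab) (chi C)
    rw [Finset.sum_congr rfl fun d _ => hsplit (fM hm hab (Bd d))]
    simp only [hp, Finset.sum_add_distrib]
    rw [Finset.sum_comm (s := Finset.univ) (t := S), Finset.sum_comm (s := Finset.univ) (t := M)]
    simp only [← Finset.sum_mul, hrowsum]
    rw [if_pos (show (0 : Alt F (m + 3)).1 0 = 0 from rfl), Finset.sum_congr rfl fun C hC => (by
        rw [if_pos (Finset.mem_filter.1 hC).2, hO C (Finset.mem_filter.1 hC).1] :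
          (if C.1 0 = 0 then ((q ^ (m + 2) : ℕ) : ℂ) else 0) * (mC hm hab ρ C : ℂ) = ((q ^ (m + 2) : ℕ) : ℂ) * (q ^ 2 : ℕ)),
      Finset.sum_eq_zero (s := M) fun C hC => by rw [if_neg (Finset.mem_filter.1 hC).2, zero_mul]]
    simp [← hD]; ring
  -- the transvection side
  have hconjtr : ∀ d, tr (ρ (xM hm d)) = tr (ρ (fM hm hab (Bd d))) := fun d => by
    by_cases hd : d = 0
    · subst hd
      have h1 := xM_add (a := a) (b := b) hm (0 : Fin (m + 2) → F) 0
      rw [add_zero, left_eq_mul] at h1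
      rw [h1, show Bd 0 = 0 from Subtype.ext (Matrix.ext fun i j => by
        simp [Bd, wedge_apply, show (Fin.cons 0 (0 : Fin (m + 2) → F) : Fin (m + 3) → F) = 0 from
            funext fun x => Fin.cases rfl (fun _ => rfl) x])]
      have h2 := fM_add hm hab (0 : Alt F (m + 3)) 0
      rw [add_zero, left_eq_mul] at h2
      rw [h2]
    · obtain ⟨i, hi⟩ : ∃ i, d i ≠ 0 := Function.ne_iff.1 hd
      set v : Fin (m + 3) → F := Fin.cons 0 d
      have hv : v i.succ ≠ 0 := by simp [v, hi]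
      have p1 : (fv v, ev (Pi.single 0 1)) ∈ TSPairs (Qm (m + 3) a b) := by
        refine ⟨fun h => hv (congrFun h (Sum.inl (Sum.inr i.succ))), qm_fv a b v, qm_ev a b _, ?_, fun t h => ?_⟩
        · rw [polar_fv]; simp [ev, dotProduct, Pi.single_apply, v]
        · have := congrFun h (Sum.inl (Sum.inl 0))
          simp [ev, fv] at this
      have p2 : (ev (Pi.single 0 1), ev v) ∈ TSPairs (Qm (m + 3) a b) := by
        refine ⟨fun h => ?_, qm_ev a b _, qm_ev a b v, polar_ev_ev a b _ _, fun t h => hv ?_⟩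
        · have := congrFun h (Sum.inl (Sum.inl 0))
          simp [ev] at this
        · have := congrFun h (Sum.inl (Sum.inl i.succ))
          simpa [ev, Pi.single_apply, Fin.succ_ne_zero] using this
      obtain ⟨g, hg, e⟩ := eg_isConj (CfsgLib.StdQuadForms.Qm_nondeg (m + 3) hab) (dim_ge a b hm hab) p1 p2
      have e2 : fM hm hab (Bd d) = (⟨g, hg⟩ : Om (Qm (m + 3) a b)) * xM hm d * (⟨g, hg⟩ : Om (Qm (m + 3) a b))⁻¹ := by
        refine Subtype.ext ?_
        show zB a b (Bd d) = g * (xM (a := a) (b := b) hm d).1 * g⁻¹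
        rw [xM_eq_eg hm hab, e]
        exact (eg_ev_ev a b _ _).symm
      rw [e2, map_mul, LinearMap.trace_mul_comm, ← map_mul, ← mul_assoc, inv_mul_cancel, one_mul]
  have hzS : ∀ C ∈ S, ∃ e : ℕ, ∑ d, tr (ρ (xM hm d) * PC hm hab ρ C) = ((q ^ (m + 2) * (q ^ 2 * e) : ℕ) : ℂ) :=
    fun C hC => sum_scalar hm hab ρ (mem_O2.1 (Finset.mem_filter.1 hC).1).1 (Finset.mem_filter.1 hC).2
      (hO C (Finset.mem_filter.1 hC).1)
  choose! eS heS using hzS
  -- forms with a given first row
  set row : Alt F (m + 3) → Fin (m + 2) → F := fun C i => C.1 0 i.succ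
  have hrow0 : ∀ C : Alt F (m + 3), C.1 0 = Fin.cons 0 (row C) := fun C =>
    funext fun x => Fin.cases (alt_diag C 0) (fun i => rfl) x
  have hrowne : ∀ C ∈ M, ∃ j, row C j ≠ 0 := fun C hC => by
    by_contra hc
    push Not at hc
    exact (Finset.mem_filter.1 hC).2 (funext fun x => Fin.cases (alt_diag C 0) hc x)
  have hzM : ∀ C ∈ M, ∑ d, tr (ρ (xM hm d) * PC hm hab ρ C) =
      ∑ t : F, tr (ρ (xM hm (t • row C)) * PC hm hab ρ C) := by
    intro C hC
    obtain ⟨j, hj⟩ := hrowne C hC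
    rw [← Finset.sum_image (f := fun d => tr (ρ (xM hm d) * PC hm hab ρ C)) (g := fun t : F => t • row C)
      (fun x _ y _ h => mul_right_cancel₀ hj (congrFun h j))]
    refine (Finset.sum_subset (Finset.subset_univ _) fun d _ hd => trace_moved hm hab ρ fun h => hd ?_).symm
    refine Finset.mem_image.2 ⟨d j * (row C j)⁻¹, Finset.mem_univ _, funext fun i => ?_⟩
    have e := congrArg (fun X : Alt F (m + 3) => X.1 i.succ j.succ) h
    simp only [wedge_apply, Fin.cons_succ, ZeroMemClass.coe_zero, Matrix.zero_apply] at e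
    have hj' : C.1 0 j.succ ≠ 0 := hj
    simp only [Pi.smul_apply, smul_eq_mul, row]
    field_simp
    linear_combination -e
  have hinv : ∀ C d, ∀ t : F,
      tr (ρ (xM hm (t • row C)) * PC hm hab ρ (act (xg d).1 C)) = tr (ρ (xM hm (t • row C)) * PC hm hab ρ C) := by
    intro C d t
    have e : xM (a := a) (b := b) hm d * xM hm (t • row C) = xM hm (t • row C) * xM hm d := by
      rw [← xM_add, ← xM_add]
      exact congrArg (xM (a := a) (b := b) hm) (add_comm d (t • row C))
    have h1 : PC hm hab ρ (act (xg d).1 C) = ρ (xM hm d)⁻¹ * (PC hm hab ρ C * ρ (xM hm d)) := by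
      rw [← PC_move hm hab ρ d C, ← mul_assoc, ← map_mul, inv_mul_cancel, map_one, one_mul]
    have e' : xM (a := a) (b := b) hm (t • row C) * (xM hm d)⁻¹ = (xM hm d)⁻¹ * xM hm (t • row C) :=
      (show Commute (xM (a := a) (b := b) hm (t • row C)) (xM hm d) from e.symm).inv_right.eq
    rw [h1, ← mul_assoc, ← map_mul ρ, e', map_mul ρ, mul_assoc, LinearMap.trace_mul_comm, mul_assoc, mul_assoc,
      ← map_mul ρ, mul_inv_cancel, map_one ρ, mul_one]
  set R := Finset.univ.erase (0 : Fin (m + 2) → F) with hR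
  have hfib : ∀ φ ∈ R, ∃ N : ℕ, (N : F) = 1 ∧
      ∑ C ∈ M with row C = φ, ∑ d, tr (ρ (xM hm d) * PC hm hab ρ C) = ((q ^ (m + 2) * N : ℕ) : ℂ) := by
    intro φ hφ
    set C0 := wedge (Pi.single (0 : Fin (m + 3)) 1) (Fin.cons 0 φ) with hC0
    obtain ⟨j, hj⟩ : ∃ j, φ j ≠ 0 := Function.ne_iff.1 (Finset.ne_of_mem_erase hφ)
    have hr0 : row C0 = φ := funext fun i => by simp [row, hC0, wedge_apply, Fin.succ_ne_zero]
    have hC0M : ∀ d, act (xg d).1 C0 ∈ M.filter fun C => row C = φ := fun d => by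
      have hdec : Dec C0 := ⟨Pi.single 0 1, Fin.cons 0 φ, fun x y => rfl⟩
      have hrowd : row (act (xg d).1 C0) = φ := funext fun i => by
        rw [← hr0]; simp [row, act_xg, wedge_apply, alt_diag]
      have hne : (act (xg d).1 C0).1 0 ≠ 0 := fun h => hj (by rw [← hrowd]; exact congrFun h j.succ)
      exact Finset.mem_filter.2 ⟨Finset.mem_filter.2 ⟨mem_O2.2 ⟨fun h => hne (by rw [h]; rfl), hdec.act _⟩, hne⟩, hrowd⟩
    have himg : (Finset.univ : Finset (Fin (m + 2) → F)).image (fun d => act (xg d).1 C0) =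
        M.filter fun C => row C = φ := by
      refine Finset.Subset.antisymm (Finset.image_subset_iff.2 fun d _ => hC0M d) fun C hC => ?_
      obtain ⟨hCM, hrC⟩ := Finset.mem_filter.1 hC
      obtain ⟨hC2, -⟩ := Finset.mem_filter.1 hCM
      have hd1 := (mem_O2.1 hC2).2
      have hd0 : Dec C0 := ⟨Pi.single 0 1, Fin.cons 0 φ, fun x y => rfl⟩
      let d : Fin (m + 2) → F := fun i => (φ j)⁻¹ * (C.1 i.succ j.succ - C0.1 i.succ j.succ)
      refine Finset.mem_image.2 ⟨d, Finset.mem_univ _, Subtype.ext (Matrix.ext fun x y => ?_)⟩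
      have hx : ∀ x, C.1 0 x = (Fin.cons 0 φ : Fin (m + 3) → F) x ∧ C0.1 0 x = (Fin.cons 0 φ : Fin (m + 3) → F) x :=
        fun x => ⟨by rw [hrow0 C, hrC], by rw [hrow0 C0, hr0]⟩
      have hdx : ∀ x, (Fin.cons 0 d : Fin (m + 3) → F) x * φ j = C.1 x j.succ - C0.1 x j.succ := fun x => by
        refine Fin.cases ?_ (fun i => ?_) x
        · rw [(hx _).1, (hx _).2]; simp
        · simp only [Fin.cons_succ, d]; field_simp
      rw [act_xg, hrow0 C0, hr0, Submodule.coe_add, Matrix.add_apply, wedge_apply (Fin.cons 0 d : Fin (m + 3) → F)]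
      refine mul_right_cancel₀ hj ?_
      have r1 := hd1.rows 0 j.succ x y
      have r0 := hd0.rows 0 j.succ x y
      rw [(hx _).1, (hx _).1, (hx _).1, Fin.cons_succ, alt_skew C j.succ y, alt_skew C j.succ x] at r1
      rw [(hx _).2, (hx _).2, (hx _).2, Fin.cons_succ, alt_skew C0 j.succ y, alt_skew C0 j.succ x] at r0
      linear_combination r0 - r1 + (Fin.cons 0 φ : Fin (m + 3) → F) y * hdx x -
        (Fin.cons 0 φ : Fin (m + 3) → F) x * hdx y
    have hcard : (M.filter fun C => row C = φ).card = q ^ (m + 1) := by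
      have h := Finset.card_eq_sum_card_image (fun d => act (xg d).1 C0) (Finset.univ : Finset (Fin (m + 2) → F))
      rw [himg, Finset.card_univ, Fintype.card_fun, Fintype.card_fin, ← hq,
        Finset.sum_congr rfl (g := fun _ => q) fun C hC => ?_, Finset.sum_const, smul_eq_mul, pow_succ] at h
      · exact (Nat.eq_of_mul_eq_mul_right Fintype.card_pos h).symm
      rw [← himg] at hC
      obtain ⟨d0, -, rfl⟩ := Finset.mem_image.1 hC
      rw [hq, ← Finset.card_univ (α := F)]
      refine Finset.card_nbij' (fun d => (d j - d0 j) * (φ j)⁻¹) (fun t => d0 + t • φ) (fun _ _ => Finset.mem_univ _)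
        ?_ ?_ ?_
      · intro t _
        refine Finset.mem_coe.2 (Finset.mem_filter.2 ⟨Finset.mem_univ _, ?_⟩)
        rw [act_xg, act_xg, hrow0 C0, hr0]
        congr 1
        refine Subtype.ext (Matrix.ext fun x y => ?_)
        rw [wedge_apply, wedge_apply]
        refine Fin.cases ?_ (fun x' => ?_) x <;> refine Fin.cases ?_ (fun y' => ?_) y <;> simp <;> ring
      · intro d hd
        have e := (Finset.mem_filter.1 (Finset.mem_coe.1 hd)).2
        rw [act_xg, act_xg, add_right_inj] at e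
        funext i
        have e' := congrArg (fun X : Alt F (m + 3) => X.1 i.succ j.succ) e
        simp only [wedge_apply, Fin.cons_succ, hrow0 C0, hr0] at e'
        simp only [Pi.add_apply, Pi.smul_apply, smul_eq_mul]
        field_simp
        linear_combination -e'
      · intro t _; simp [mul_assoc, hj]
    obtain ⟨N, hN1, hNs⟩ := sum_line hm hab ρ (C := C0) (j := j) (by
        show row C0 j ≠ 0; rw [hr0]; exact hj)
      (hO C0 (mem_O2.2 ⟨fun h => hj (by rw [← hr0, h]; rfl), Pi.single 0 1, Fin.cons 0 φ, fun x y => rfl⟩))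
    refine ⟨N, hN1, ?_⟩
    rw [Finset.sum_congr rfl (g := fun _ => ((q * N : ℕ) : ℂ)) fun C hC => ?_, Finset.sum_const, hcard, nsmul_eq_mul]
    · push_cast; ring
    have hC' := hC
    rw [← himg] at hC'
    obtain ⟨d, -, rfl⟩ := Finset.mem_image.1 hC'
    rw [hzM _ (Finset.mem_filter.1 hC).1, (Finset.mem_filter.1 hC).2, ← hNs, ← hr0]
    exact Finset.sum_congr rfl fun t _ => hinv C0 d t
  choose! NR hN1 hNR using hfib
  have hRt : ∑ d, tr (ρ (xM hm d)) =
      ((q ^ (m + 2) * (D + q ^ 2 * (∑ C ∈ S, eS C) + ∑ φ ∈ R, NR φ) : ℕ) : ℂ) := by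
    rw [Finset.sum_congr rfl fun d _ => hsplit (xM hm d)]
    simp only [Finset.sum_add_distrib, hcon]
    rw [Finset.sum_comm (s := Finset.univ) (t := S), Finset.sum_comm (s := Finset.univ) (t := M),
      Finset.sum_congr rfl heS, ← Finset.sum_fiberwise_of_maps_to (s := M) (g := row) (t := R) (fun C hC => by
        obtain ⟨j, hj⟩ := hrowne C hC
        exact Finset.mem_erase.2 ⟨Function.ne_iff.2 ⟨j, hj⟩, Finset.mem_univ _⟩),
      Finset.sum_congr rfl hNR, Finset.sum_const, Finset.card_univ, Fintype.card_fun, Fintype.card_fin,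
      show tr (PC hm hab ρ 0) = (D : ℂ) from trace_proj (fM hm hab) ρ (fM_add hm hab) (chi 0)]
    push_cast [nsmul_eq_mul]
    simp only [Finset.mul_sum, mul_add, ← hq]
  rw [Finset.sum_congr rfl fun d _ => hconjtr d, hL, Nat.cast_inj] at hRt
  have h := Nat.eq_of_mul_eq_mul_left (pow_pos Fintype.card_pos (m + 2)) hRt
  rw [add_assoc, Nat.add_left_cancel_iff] at h
  have hF : ((q ^ 2 * S.card : ℕ) : F) = ((q ^ 2 * (∑ C ∈ S, eS C) + ∑ φ ∈ R, NR φ : ℕ) : F) := by rw [h]
  push_cast at hF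
  rw [hq, Nat.cast_card_eq_zero, zero_pow (by norm_num), zero_mul, zero_mul, zero_add,
    Finset.sum_congr rfl hN1, Finset.sum_const, hR, Finset.card_erase_of_mem (Finset.mem_univ _), Finset.card_univ,
    Fintype.card_fun, Fintype.card_fin, nsmul_eq_mul, mul_one, Nat.cast_sub (Nat.one_le_pow _ _ Fintype.card_pos),
    Nat.cast_pow, Nat.cast_card_eq_zero, zero_pow (by omega), zero_sub, Nat.cast_one] at hF
  exact one_ne_zero (neg_eq_zero.1 hF.symm)

end CfsgLib.OrthDeg
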