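import Mathlib
import Cfsg.Agent.Lib.SLMin.Main

/-! Small modules of three-dimensional linear groups. -/

set_option autoImplicit false

namespace CfsgLib.OrthDeg

open Matrix CfsgLib.SLMin CfsgLib.RadicalBound

variable {F : Type*} [Field F] [Fintype F] [DecidableEq F]

/-- Over the field of four elements an extension by diagonal automorphisms forces degree at least eighteen. -/
theorem sl34_bound (hq : Fintype.card F = 4) {W : Type} [AddCommGroup W] [Module ℂ W] [FiniteDimensional ℂ W]
    [Nontrivial W] (τ : Representation ℂ (SpecialLinearGroup (Fin 3) F) W) (hfix : NoFix τ)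
    (hX : ∀ s : F, s ≠ 0 → ∃ X Y : Module.End ℂ W, Y * X = 1 ∧
      ∀ g g' : SpecialLinearGroup (Fin 3) F, blkM 1 0 !![1, 0; 0, s] * g.1 = g'.1 * blkM 1 0 !![1, 0; 0, s] →
        X * τ g = τ g' * X) : 18 ≤ Module.finrank ℂ W := by
  classical
  obtain ⟨e, he1, hk, he⟩ := crude τ (l := 2) (by norm_num) (trans_two le_rfl) hfix
  rw [hq] at hk
  by_contra hlt
  have he' : e = 1 := by
    by_contra hne
    have h2 : 2 * (4 ^ 2 - 1) ≤ e * (4 ^ 2 - 1) := Nat.mul_le_mul_right _ (by omega)
    norm_num at h2 hk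
    omega
  subst he'
  have hlam : ∀ a : Fin 2 → F, a ≠ 0 → a ⟨1, by omega⟩ = 0 → ∀ t,
      LinearMap.trace ℂ W (τ (emb (yT le_rfl t)) * pr τ a) = 1 := by
    intro a ha ha1 t
    obtain ⟨s, hs0, hs1⟩ : ∃ s : F, s ≠ 0 ∧ s ≠ 1 := by
      have : ((Finset.univ.erase (0 : F)).erase 1).Nonempty := by
        rw [← Finset.card_pos, Finset.card_erase_of_mem (by simp), Finset.card_erase_of_mem (Finset.mem_univ _),
          Finset.card_univ, hq]
        norm_num
      obtain ⟨s, hs⟩ := this
      simp only [Finset.mem_erase, Finset.mem_univ, and_true] at hs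
      exact ⟨s, hs.2, hs.1⟩
    obtain ⟨X, Y, hYX, hXτ⟩ := hX s hs0
    have hX' : ∀ x, X * τ (emb (yT le_rfl x)) = τ (emb (yT le_rfl (s⁻¹ * x))) * X := fun x => hXτ _ _ (by
      rw [emb_coe, emb_coe, blkM_mul, blkM_mul]
      congr 1
      · simp
      · ext i j
        fin_cases i <;> fin_cases j <;>
          simp [yT, vt_coe, Matrix.mul_apply, Fin.sum_univ_two, vecMulVec_apply]
        field_simp)
    have hXtx : ∀ b : Fin 2 → F, X * τ (tx b) = τ (tx ![b 0, s⁻¹ * b 1]) * X := fun b => hXτ _ _ (by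
      rw [tx_coe, tx_coe, blkM_mul, blkM_mul]
      congr 1
      · funext i
        fin_cases i <;> simp [vecMul, dotProduct, Fin.sum_univ_two]
        field_simp
      · simp)
    have hXP : X * pr τ a = pr τ a * X := by
      simp only [pr, mul_smul_comm, smul_mul_assoc, Finset.mul_sum, Finset.sum_mul]
      congr 1
      let ε : (Fin 2 → F) ≃ (Fin 2 → F) :=
        { toFun := fun b => ![b 0, s⁻¹ * b 1]
          invFun := fun b => ![b 0, s * b 1]
          left_inv := fun b => by funext i; fin_cases i <;> simp [hs0]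
          right_inv := fun b => by funext i; fin_cases i <;> simp [hs0] }
      refine Fintype.sum_equiv ε _ _ fun b => ?_
      show _ = chv a (-![b 0, s⁻¹ * b 1]) • (τ (tx ![b 0, s⁻¹ * b 1]) * X)
      rw [hXtx]
      congr 1
      rw [chv_apply, chv_apply]
      congr 1
      have ha1' : a 1 = 0 := ha1
      simp [dotProduct, Fin.sum_univ_two, ha1']
    have h1 : Module.finrank ℂ (LinearMap.range (pr τ a)) = 1 := he a ha
    have htrP : LinearMap.trace ℂ W (pr τ a) = 1 := by rw [trace_pr]; exact_mod_cast he a ha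
    set c : F → ℂ := fun x => LinearMap.trace ℂ W (τ (emb (yT le_rfl x)) * pr τ a) with hc
    have hy : ∀ x, τ (emb (yT le_rfl x)) * pr τ a = pr τ a * τ (emb (yT le_rfl x)) := fun x =>
      lev_pr τ 1 _ (by rw [one_mul]; exact (yT le_rfl x).2)
        (by rw [one_smul, yT_mulVec, ha1]; simp)
    have hscal : ∀ x, τ (emb (yT le_rfl x)) * pr τ a = c x • pr τ a := by
      intro x
      obtain ⟨v, -, hv⟩ := finrank_eq_one_iff'.1 h1
      obtain ⟨r, hr⟩ : ∃ r : ℂ, τ (emb (yT le_rfl x)) * pr τ a = r • pr τ a := by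
        have hmem : τ (emb (yT le_rfl x)) v.1 ∈ LinearMap.range (pr τ a) := by
          obtain ⟨y, hy'⟩ := v.2
          refine ⟨τ (emb (yT le_rfl x)) y, ?_⟩
          rw [← hy', ← Module.End.mul_apply, ← hy]; rfl
        obtain ⟨r, hr⟩ := hv ⟨_, hmem⟩
        refine ⟨r, LinearMap.ext fun y => ?_⟩
        obtain ⟨u, hu⟩ := hv ⟨pr τ a y, y, rfl⟩
        have hu' : pr τ a y = u • v.1 := (congrArg Subtype.val hu).symm
        have hr' : τ (emb (yT le_rfl x)) v.1 = r • v.1 := (congrArg Subtype.val hr).symm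
        rw [Module.End.mul_apply, LinearMap.smul_apply, hu', map_smul, hr', smul_comm]
      have : c x = r := by rw [hc]; simp only; rw [hr, map_smul, htrP, smul_eq_mul, mul_one]
      rw [this, hr]
    have hne : pr τ a ≠ 0 := fun h => by rw [h, map_zero] at htrP; exact zero_ne_one htrP
    have hinj : ∀ p r : ℂ, p • pr τ a = r • pr τ a → p = r := fun p r h => smul_left_injective ℂ hne h
    have hadd : ∀ x y, c (x + y) = c x * c y := fun x y => hinj _ _ (by
      rw [← hscal, yT_add, map_mul, map_mul, mul_assoc, hscal, mul_smul_comm, hscal, smul_smul, mul_comm])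
    have hconj : ∀ x, c (s⁻¹ * x) = c x := fun x => by
      have e : c x • (X * pr τ a) = c (s⁻¹ * x) • (X * pr τ a) := by
        calc c x • (X * pr τ a) = X * (τ (emb (yT le_rfl x)) * pr τ a) := by rw [hscal, mul_smul_comm]
          _ = τ (emb (yT le_rfl (s⁻¹ * x))) * (pr τ a * X) := by rw [← mul_assoc, hX', mul_assoc, hXP]
          _ = c (s⁻¹ * x) • (pr τ a * X) := by rw [← mul_assoc, hscal, smul_mul_assoc]
          _ = _ := by rw [hXP]
      refine (smul_left_injective ℂ (fun h => hne ?_) e).symm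
      rw [← one_mul (pr τ a), ← hYX, mul_assoc, h, mul_zero]
    have hc0 : ∀ x, c x ≠ 0 := fun x h => by
      have h0 := hadd x (-x)
      rw [h, zero_mul, add_neg_cancel] at h0
      have : τ (emb (yT (F := F) le_rfl 0)) = 1 := by
        rw [show yT (F := F) (l := 2) le_rfl 0 = 1 from Subtype.ext (by
          show 1 + vecMulVec _ _ = 1
          simp), map_one, map_one]
      rw [hc] at h0
      simp only [this, one_mul, htrP] at h0
      exact one_ne_zero h0
    set y := t / (s⁻¹ - 1)
    have hs' : s⁻¹ - 1 ≠ 0 := sub_ne_zero.2 fun h => hs1 (inv_eq_one.1 h)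
    have h := hadd t y
    rw [show t + y = s⁻¹ * y by simp only [y]; field_simp; ring, hconj] at h
    exact mul_right_cancel₀ (hc0 y) (by rw [one_mul]; exact h.symm)
  have hlow := rep0_lower τ (l := 2) le_rfl he hlam
  rw [hq] at hlow
  norm_num at hk hlow
  omega

end CfsgLib.OrthDeg
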