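import Mathlib
import Cfsg.Agent.Lib.OrthDeg.MinusLevi
import Cfsg.Agent.Lib.OrthDeg.SmallLevi
import Cfsg.Agent.Lib.OrthDeg.Tools

/-! The Levi subgroup on the fixed space of the radical. -/

set_option autoImplicit false
set_option maxHeartbeats 1000000

namespace CfsgLib.OrthDeg

open Matrix QuadraticMap CfsgLib.WittExtension CfsgLib.OmegaMin CfsgLib.RadicalBound CfsgLib.SLMin
  CfsgLib.SpinorNorm
open CfsgLib.StdQuadForms (Qm)
open CfsgLib.Lagrangian (Qp)
open CfsgLib.Eichler (conj_refl)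

section free

variable {H : Type*} [Group H] [Fintype H] {W : Type*} [AddCommGroup W] [Module ℂ W] [FiniteDimensional ℂ W]
  (τ : Representation ℂ H W)

/-- The average of the operators. -/
noncomputable def avg : Module.End ℂ W := (Fintype.card H : ℂ)⁻¹ • ∑ g, τ g

omit [FiniteDimensional ℂ W] in
theorem avg_left (h : H) : τ h * avg τ = avg τ := by
  simp only [avg, mul_smul_comm, Finset.mul_sum]
  congr 1
  exact Fintype.sum_equiv (Equiv.mulLeft h) _ _ fun g => (map_mul τ h g).symm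

omit [FiniteDimensional ℂ W] in
theorem avg_right (h : H) : avg τ * τ h = avg τ := by
  simp only [avg, smul_mul_assoc, Finset.sum_mul]
  congr 1
  exact Fintype.sum_equiv (Equiv.mulRight h) _ _ fun g => (map_mul τ g h).symm

omit [FiniteDimensional ℂ W] in
/-- An operator normalising the group commutes with the average. -/
theorem avg_comm {X : Module.End ℂ W} (σ : H ≃ H) (h : ∀ g, X * τ g = τ (σ g) * X) : X * avg τ = avg τ * X := by
  simp only [avg, mul_smul_comm, smul_mul_assoc, Finset.mul_sum, Finset.sum_mul]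
  congr 1
  exact Fintype.sum_equiv σ _ _ h

/-- The part without fixed vectors. -/
noncomputable def freeRep : Representation ℂ H (LinearMap.ker (avg τ)) where
  toFun g := (τ g).restrict (p := LinearMap.ker (avg τ)) (q := LinearMap.ker (avg τ)) fun x hx => by
    rw [LinearMap.mem_ker] at hx ⊢
    rw [← Module.End.mul_apply, avg_right, hx]
  map_one' := LinearMap.ext fun x => Subtype.ext (by
    show τ 1 x.1 = x.1
    rw [map_one]; rfl)
  map_mul' g h := LinearMap.ext fun x => Subtype.ext (by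
    show τ (g * h) x.1 = τ g (τ h x.1)
    rw [map_mul]; rfl)

omit [FiniteDimensional ℂ W] in
theorem noFix_freeRep : NoFix (freeRep τ) := fun w hw => Subtype.ext (by
  have hg : ∀ g, τ g w.1 = w.1 := fun g => congrArg Subtype.val (hw g)
  have e : avg τ w.1 = w.1 := by
    simp only [avg, LinearMap.smul_apply, LinearMap.sum_apply, hg]
    rw [Finset.sum_const, Finset.card_univ, ← Nat.cast_smul_eq_nsmul ℂ, smul_smul,
      inv_mul_cancel₀ (Nat.cast_ne_zero.2 Fintype.card_ne_zero), one_smul]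
  rw [← e]; exact w.2)

omit [FiniteDimensional ℂ W] in
theorem nontrivial_freeRep {g₀ : H} (h0 : τ g₀ ≠ 1) : Nontrivial (LinearMap.ker (avg τ)) := by
  rw [Submodule.nontrivial_iff_ne_bot]
  intro hb
  refine h0 (LinearMap.ext fun x => LinearMap.ker_eq_bot.1 hb ?_)
  rw [← Module.End.mul_apply, avg_right, Module.End.one_apply]

end free

variable {F : Type*} [Field F] [Fintype F] [DecidableEq F] {m : ℕ} {a b : F}
  (hm : 3 ≤ m + 3) (hab : ∀ z₁ z₂ : F, z₁ ^ 2 + a * z₁ * z₂ + b * z₂ ^ 2 = 0 → z₁ = 0 ∧ z₂ = 0)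
  {k : ℕ} (ρ : Representation ℂ (Om (Qm (m + 3) a b)) (Fin k → ℂ))

/-- A Levi element inside the derived group. -/
noncomputable def lM (g : GL (Fin (m + 3)) F) (hg : IsSquare g.1.det) : Om (Qm (m + 3) a b) :=
  ⟨LG a b g, LG_mem a b hm hg⟩

/-- Congruence as an additive equivalence. -/
noncomputable def cg (g : GL (Fin (m + 3)) F) : Alt F (m + 3) ≃+ Alt F (m + 3) :=
  AddEquiv.ofBijective (act g.1ᵀ).toAddMonoidHom (Finite.injective_iff_bijective.1
    (act_injective (by rw [det_transpose]; exact Matrix.GeneralLinearGroup.det_ne_zero g)))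

theorem lM_fM (g : GL (Fin (m + 3)) F) (hg : IsSquare g.1.det) (B : Alt F (m + 3)) :
    lM hm g hg * fM hm hab B = fM hm hab (cg g B) * lM hm g hg := Subtype.ext (LG_zB a b g B)

theorem lM_move (g : GL (Fin (m + 3)) F) (hg : IsSquare g.1.det) (C : Alt F (m + 3)) :
    ρ (lM hm g hg) * PC hm hab ρ (act g.1 C) = PC hm hab ρ C * ρ (lM hm g hg) :=
  proj_conj (fM hm hab) ρ (lM hm g hg) (cg g) (fun S => lM_fM hm hab g hg S) _ _ fun S => by
    show chi C (act g.1ᵀ S) = _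
    rw [chi_apply, chi_apply, pair_act]

theorem mC_act (g : GL (Fin (m + 3)) F) (hg : IsSquare g.1.det) (C : Alt F (m + 3)) :
    mC hm hab ρ (act g.1 C) = mC hm hab ρ C :=
  mult_conj (fM hm hab) ρ (fM_add hm hab) (lM hm g hg) (cg g) (fun S => lM_fM hm hab g hg S) _ _ fun S => by
    show chi C (act g.1ᵀ S) = _
    rw [chi_apply, chi_apply, pair_act]

theorem mC_sl (g : Matrix (Fin (m + 3)) (Fin (m + 3)) F) (hg : g.det = 1) (C : Alt F (m + 3)) :
    mC hm hab ρ (act g C) = mC hm hab ρ C :=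
  mC_act hm hab ρ (Matrix.GeneralLinearGroup.mkOfDetNeZero g (by rw [hg]; exact one_ne_zero))
    (by show IsSquare g.det; rw [hg]; exact IsSquare.one) C

theorem lM_trace (g : GL (Fin (m + 3)) F) (hg : IsSquare g.1.det) {C : Alt F (m + 3)} (h : act g.1 C ≠ C) :
    LinearMap.trace ℂ (Fin k → ℂ) (ρ (lM hm g hg) * PC hm hab ρ C) = 0 := by
  classical
  have hne : chi (act g.1 C) ≠ chi C := fun e => h (chi_bijective.1 e)
  rw [show PC hm hab ρ C = PC hm hab ρ C * PC hm hab ρ C from (idem (fM hm hab) ρ (fM_add hm hab) (chi C)).eq.symm,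
    ← mul_assoc, LinearMap.trace_mul_comm, ← mul_assoc, ← lM_move hm hab ρ g hg C, mul_assoc]
  unfold PC
  rw [proj_mul (fM hm hab) ρ (fM_add hm hab), if_neg hne, mul_zero, map_zero]

theorem lM_nrm (g : GL (Fin (m + 3)) F) (hg : IsSquare g.1.det) : lM hm g hg ∈ Nrm hm hab ρ 0 := by
  have := lM_move hm hab ρ g hg 0
  rwa [map_zero] at this

theorem sl_sq (g : SpecialLinearGroup (Fin (m + 3)) F) : IsSquare (SpecialLinearGroup.toGL g).1.det := by
  rw [show (SpecialLinearGroup.toGL g).1.det = 1 from g.2]; exact IsSquare.one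

/-- The special linear group inside the stabiliser of the fixed space. -/
noncomputable def slN : SpecialLinearGroup (Fin (m + 3)) F →* Nrm hm hab ρ 0 where
  toFun g := ⟨lM hm (SpecialLinearGroup.toGL g) (sl_sq g), lM_nrm hm hab ρ _ _⟩
  map_one' := Subtype.ext (Subtype.ext (by
    show LG a b (SpecialLinearGroup.toGL (1 : SpecialLinearGroup (Fin (m + 3)) F)) = 1
    rw [map_one, LG, show (lq (1 : GL (Fin (m + 3)) F)) = 1 from lqHom.map_one, map_one]))
  map_mul' g h := Subtype.ext (Subtype.ext (by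
    show LG a b (SpecialLinearGroup.toGL (g * h)) =
      LG a b (SpecialLinearGroup.toGL g) * LG a b (SpecialLinearGroup.toGL h)
    simp only [LG, map_mul, lq_mul]))

theorem slN_coe (g : SpecialLinearGroup (Fin (m + 3)) F) :
    (slN hm hab ρ g).1 = lM hm (SpecialLinearGroup.toGL g) (sl_sq g) := rfl

/-- The representation on the fixed space. -/
noncomputable def τ0 : Representation ℂ (SpecialLinearGroup (Fin (m + 3)) F) (LinearMap.range (PC hm hab ρ 0)) :=
  (rp hm hab ρ 0).comp (slN hm hab ρ)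

theorem exists_tx_ne (h : ∃ d, ρ (xM hm d) * PC hm hab ρ 0 ≠ PC hm hab ρ 0) :
    ∃ d : Fin (m + 2) → F, τ0 hm hab ρ (tx d) ≠ 1 := by
  obtain ⟨d, hd⟩ := h
  refine ⟨d, fun e => hd (LinearMap.ext fun y => ?_)⟩
  exact congrArg Subtype.val (LinearMap.congr_fun e ⟨PC hm hab ρ 0 y, LinearMap.mem_range_self _ y⟩)

theorem sum_PC : ∑ C, PC hm hab ρ C = 1 := by
  rw [← sum_proj (fM hm hab) ρ (fM_add hm hab),
    ← (Equiv.ofBijective chi chi_bijective).sum_comp fun χ => RadicalBound.proj (fM hm hab) ρ χ]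
  rfl

/-- Over the field of four elements the fixed space is large. -/
theorem small_four {a b : F} (hm : 3 ≤ 0 + 3)
    (hab : ∀ z₁ z₂ : F, z₁ ^ 2 + a * z₁ * z₂ + b * z₂ ^ 2 = 0 → z₁ = 0 ∧ z₂ = 0)
    (ρ : Representation ℂ (Om (Qm (0 + 3) a b)) (Fin k → ℂ)) (hq : Fintype.card F = 4)
    (hnt : ∃ d, τ0 hm hab ρ (tx d) ≠ 1) : 18 ≤ mC hm hab ρ 0 := by
  classical
  haveI := Fintype.ofFinite (SpecialLinearGroup (Fin (0 + 3)) F)
  obtain ⟨d, hd⟩ := hnt
  haveI := nontrivial_freeRep (τ0 hm hab ρ) hd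
  have h2 : (2 : F) = 0 := by
    have h4 : ((4 : ℕ) : F) = 0 := by rw [← hq]; exact Nat.cast_card_eq_zero F
    have : (2 : F) * 2 = 0 := by rw [← h4]; norm_num
    exact mul_self_eq_zero.1 this
  haveI : CharP F 2 := CharTwo.of_one_ne_zero_of_two_eq_zero one_ne_zero h2
  rw [mC_eq]
  suffices h : 18 ≤ Module.finrank ℂ (LinearMap.ker (avg (τ0 hm hab ρ))) from h.trans (Submodule.finrank_le _)
  refine sl34_bound (W := LinearMap.ker (avg (τ0 hm hab ρ))) hq (freeRep (τ0 hm hab ρ)) (noFix_freeRep (τ0 hm hab ρ)) ?_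
  intro s hs
  set h : Matrix (Fin (0 + 3)) (Fin (0 + 3)) F := blkM 1 0 !![1, 0; 0, s] with hh
  have hdet : h.det = s := by
    rw [hh, blkM_det, one_mul]; simp [Matrix.det_fin_two]
  have hsq : ∀ x : F, IsSquare x := fun x => FiniteField.isSquare_of_char_two (ringChar.eq F 2) x
  let u : GL (Fin (0 + 3)) F := Matrix.GeneralLinearGroup.mkOfDetNeZero h (by rw [hdet]; exact hs)
  let X := rp hm hab ρ 0 ⟨lM hm u (hsq _), lM_nrm hm hab ρ _ _⟩
  let Y := rp hm hab ρ 0 ⟨lM hm u⁻¹ (hsq _), lM_nrm hm hab ρ _ _⟩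
  have hmk : ∀ v w : GL (Fin (0 + 3)) F, rp hm hab ρ 0 ⟨lM hm v (hsq _), lM_nrm hm hab ρ _ _⟩ *
      rp hm hab ρ 0 ⟨lM hm w (hsq _), lM_nrm hm hab ρ _ _⟩ =
      rp hm hab ρ 0 ⟨lM hm (v * w) (hsq _), lM_nrm hm hab ρ _ _⟩ := fun v w => by
    rw [← map_mul]
    exact congrArg _ (Subtype.ext (Subtype.ext (by
      show LG a b v * LG a b w = LG a b (v * w)
      simp only [LG, lq_mul, map_mul])))
  have hYX : Y * X = 1 := by
    rw [hmk, ← map_one (rp hm hab ρ 0)]
    exact congrArg _ (Subtype.ext (Subtype.ext (by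
      show LG a b (u⁻¹ * u) = 1
      rw [inv_mul_cancel, LG, show (lq (1 : GL (Fin (0 + 3)) F)) = 1 from lqHom.map_one, map_one])))
  have hXτ : ∀ g g' : SpecialLinearGroup (Fin (0 + 3)) F, h * g.1 = g'.1 * h →
      X * τ0 hm hab ρ g = τ0 hm hab ρ g' * X := fun g g' e => by
    show X * rp hm hab ρ 0 (slN hm hab ρ g) = rp hm hab ρ 0 (slN hm hab ρ g') * X
    rw [← map_mul, ← map_mul]
    exact congrArg _ (Subtype.ext (Subtype.ext (by
      show LG a b u * LG a b _ = LG a b _ * LG a b u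
      simp only [LG, ← map_mul, ← lq_mul]
      congr 2
      exact Units.ext e)))
  -- conjugation permutes the group
  have hmem : ∀ g : SpecialLinearGroup (Fin (0 + 3)) F, (u.1 * g.1 * (u⁻¹).1).det = 1 := fun g => by
    rw [det_mul, det_mul, g.2, mul_one, ← det_mul, Units.mul_inv, det_one]
  let σ : SpecialLinearGroup (Fin (0 + 3)) F ≃ SpecialLinearGroup (Fin (0 + 3)) F :=
    Equiv.ofBijective (fun g => ⟨u.1 * g.1 * (u⁻¹).1, hmem g⟩) (Finite.injective_iff_bijective.1 fun g g' e =>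
      Subtype.ext (by
        have e' : u.1 * g.1 * (u⁻¹).1 = u.1 * g'.1 * (u⁻¹).1 := congrArg Subtype.val e
        exact u.isUnit.mul_left_cancel ((u⁻¹).isUnit.mul_right_cancel e')))
  have hXavg : X * avg (τ0 hm hab ρ) = avg (τ0 hm hab ρ) * X := avg_comm _ σ fun g => hXτ g _ (by
    show u.1 * g.1 = u.1 * g.1 * (u⁻¹).1 * u.1
    rw [mul_assoc _ (u⁻¹).1, Units.inv_mul, mul_one])
  have hYavg : Y * avg (τ0 hm hab ρ) = avg (τ0 hm hab ρ) * Y := by
    have hXY : X * Y = 1 := mul_eq_one_comm.1 hYX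
    calc Y * avg (τ0 hm hab ρ) = Y * (avg (τ0 hm hab ρ) * X) * Y := by rw [mul_assoc, mul_assoc, hXY, mul_one]
      _ = avg (τ0 hm hab ρ) * Y := by rw [← hXavg, ← mul_assoc, hYX, one_mul]
  have hinv : ∀ Z : Module.End ℂ (LinearMap.range (PC hm hab ρ 0)), Z * avg (τ0 hm hab ρ) = avg (τ0 hm hab ρ) * Z →
      ∀ x ∈ LinearMap.ker (avg (τ0 hm hab ρ)), Z x ∈ LinearMap.ker (avg (τ0 hm hab ρ)) := fun Z hZ x hx => by
    rw [LinearMap.mem_ker] at hx ⊢
    rw [← Module.End.mul_apply, ← hZ, Module.End.mul_apply, hx, map_zero]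
  refine ⟨X.restrict (hinv X hXavg), Y.restrict (hinv Y hYavg), LinearMap.ext fun x => Subtype.ext ?_,
    fun g g' e => LinearMap.ext fun x => Subtype.ext ?_⟩
  · exact LinearMap.congr_fun hYX x.1
  · exact LinearMap.congr_fun (hXτ g g' e) x.1

include hab in
/-- The interchange of the totally singular spaces inverts and transposes the Levi subgroup. -/
theorem swap_conj (h2 : (2 : F) = 0) (hm : 3 ≤ 0 + 3) (u ut : GL (Fin (0 + 3)) F)
    (hu : (u⁻¹).1ᵀ = ut.1) (hut : (ut⁻¹).1ᵀ = u.1) :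
    ∃ n ∈ Om (Qm (0 + 3) a b), n * LG a b u = LG a b ut * n := by
  set Q2 := CfsgLib.OrthOrder.binForm a b
  let w1 : Fin 2 → F := ![1, 0]
  have hw1 : Q2 w1 = 1 := by simp [Q2, CfsgLib.OrthOrder.binForm_apply, w1]
  have hw1' : Q2 w1 ≠ 0 := by rw [hw1]; exact one_ne_zero
  set v0 : (Fin (0 + 3) ⊕ Fin (0 + 3)) ⊕ Fin 2 → F := ev (Pi.single 0 1) + fv (Pi.single 0 1)
  have hpv : ∀ x, polar (Qm (0 + 3) a b) v0 x = x (Sum.inl (Sum.inr 0)) + x (Sum.inl (Sum.inl 0)) := fun x => by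
    rw [polar_add_left, polar_ev, polar_fv]
    simp [dotProduct, Pi.single_apply]
  have hQv : Qm (0 + 3) a b v0 = 1 := by
    rw [QuadraticMap.map_add (Qm (0 + 3) a b), qm_ev, qm_fv, polar_ev]
    simp [fv, dotProduct, Pi.single_apply]
  have hQv' : Qm (0 + 3) a b v0 ≠ 0 := by rw [hQv]; exact one_ne_zero
  set z1 : (Fin (0 + 3) ⊕ Fin (0 + 3)) ⊕ Fin 2 → F := zv w1
  have hz1 : Qm (0 + 3) a b z1 ≠ 0 := by rw [qm_zv]; exact hw1'
  have hP : liftP a b (sw {0}) = refl (Qm (0 + 3) a b) hQv' := iso_ext _ fun x => by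
    rw [refl_apply, hQv, inv_one, one_mul, hpv]
    funext s
    rcases s with (i | i) | i
    · show (sw {0} : quadIso (Qp (0 + 3) F)).1 (x ∘ Sum.inl) (Sum.inl i) = _
      rw [sw_inl]
      by_cases hi : i = 0 <;> simp [hi, v0, ev, fv]
      linear_combination (x (Sum.inl (Sum.inr 0))) * h2
    · show (sw {0} : quadIso (Qp (0 + 3) F)).1 (x ∘ Sum.inl) (Sum.inr i) = _
      rw [sw_inr]
      by_cases hi : i = 0 <;> simp [hi, v0, ev, fv]
      linear_combination (x (Sum.inl (Sum.inl 0))) * h2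
    · show x (Sum.inr i) = _
      simp [v0, ev, fv]
  have hE : liftE a b (refl Q2 hw1') = refl (Qm (0 + 3) a b) hz1 := iso_ext _ fun x => by
    rw [refl_apply, qm_zv, polar_zv]
    funext s
    rcases s with i | i
    · simp [z1, zv, liftE]
    · show (refl Q2 hw1').1 (x ∘ Sum.inr) i = _
      rw [refl_apply]
      simp [z1, zv, Q2]
  have hA : liftP a b (sw ({1, 2} : Finset (Fin (0 + 3)))) ∈ Om (Qm (0 + 3) a b) := by
    have hle : (Om (Qp (0 + 3) F)).map (liftP a b) ≤ Om (Qm (0 + 3) a b) := by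
      rw [Om, Om, _root_.commutator_def, _root_.commutator_def, Subgroup.map_commutator]
      exact Subgroup.commutator_mono le_top le_top
    exact hle ⟨_, sw_pair_mem (by decide), rfl⟩
  have hB : liftP a b (sw {0}) * liftE a b (refl Q2 hw1') ∈ Om (Qm (0 + 3) a b) := by
    rw [hP, hE]
    have hd := dim_ge a b hm hab
    obtain ⟨p, w, p', w', -, -, -, -, e⟩ := level_move (CfsgLib.StdQuadForms.Qm_nondeg (0 + 3) hab)
      (by omega) (fun h => hQv' (by rw [h, QuadraticMap.map_zero])) (fun h => hz1 (by rw [h, QuadraticMap.map_zero]))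
      (show Qm (0 + 3) a b v0 = Qm (0 + 3) a b z1 by rw [hQv, qm_zv, hw1])
    set γ := eg (Qm (0 + 3) a b) p' w' * eg (Qm (0 + 3) a b) p w
    have hz1' : Qm (0 + 3) a b (γ.1 v0) ≠ 0 := by rw [γ.2]; exact hQv'
    have hc : refl (Qm (0 + 3) a b) hz1 = γ * refl (Qm (0 + 3) a b) hQv' * γ⁻¹ := by
      rw [conj_refl (Qm (0 + 3) a b) γ hQv' hz1']
      congr 1
      exact e.symm
    rw [hc, show refl (Qm (0 + 3) a b) hQv' * (γ * refl (Qm (0 + 3) a b) hQv' * γ⁻¹) =
      refl (Qm (0 + 3) a b) hQv' * γ * (refl (Qm (0 + 3) a b) hQv')⁻¹ * γ⁻¹ by rw [refl_inv]; group]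
    exact Subgroup.commutator_mem_commutator (Subgroup.mem_top _) (Subgroup.mem_top _)
  refine ⟨_, mul_mem hA hB, ?_⟩
  simp only [LG, mul_assoc, lift_comm]
  simp only [← mul_assoc, ← map_mul]
  congr 2
  refine iso_ext _ fun v => funext fun s => ?_
  simp only [mul_app]
  have hswL : ∀ (y : Fin (0 + 3) ⊕ Fin (0 + 3) → F) i,
      (sw {1, 2} : quadIso (Qp (0 + 3) F)).1 ((sw {0} : quadIso (Qp (0 + 3) F)).1 y) (Sum.inl i) = y (Sum.inr i) :=
    fun y i => by fin_cases i <;> simp [sw_inl, sw_inr]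
  have hswR : ∀ (y : Fin (0 + 3) ⊕ Fin (0 + 3) → F) i,
      (sw {1, 2} : quadIso (Qp (0 + 3) F)).1 ((sw {0} : quadIso (Qp (0 + 3) F)).1 y) (Sum.inr i) = y (Sum.inl i) :=
    fun y i => by fin_cases i <;> simp [sw_inl, sw_inr]
  rcases s with i | i
  · rw [hswL, lq_inr, lq_inl, hu,
      show ((sw {1, 2} : quadIso (Qp (0 + 3) F)).1 ((sw {0} : quadIso (Qp (0 + 3) F)).1 v)) ∘ Sum.inl =
        v ∘ Sum.inr from funext (hswL v)]
  · rw [hswR, lq_inl, lq_inr, hut,
      show ((sw {1, 2} : quadIso (Qp (0 + 3) F)).1 ((sw {0} : quadIso (Qp (0 + 3) F)).1 v)) ∘ Sum.inr =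
        v ∘ Sum.inl from funext (hswR v)]

/-- An element of order seven with equal traces of its non-trivial powers acts trivially in dimension four. -/
theorem seven_trivial {H : Type*} [Group H] [Finite H] {W : Type*} [AddCommGroup W] [Module ℂ W] [FiniteDimensional ℂ W]
    (T : Representation ℂ H W) (hW : Module.finrank ℂ W = 4) (g : H) (e7 : g ^ 7 = 1)
    (hc : ∀ j, 1 ≤ j → j ≤ 6 → LinearMap.trace ℂ W (T (g ^ j)) = LinearMap.trace ℂ W (T g)) : T g = 1 := by
  classical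
  let A : Module.End ℂ W := (7 : ℂ)⁻¹ • ∑ j ∈ Finset.range 7, T (g ^ j)
  have hTA : T g * A = A := by
    simp only [A, mul_smul_comm, Finset.mul_sum]
    congr 1
    have h := (Finset.sum_range_succ' (fun j => T (g ^ j)) 7).symm.trans (Finset.sum_range_succ (fun j => T (g ^ j)) 7)
    rw [e7, pow_zero, add_left_inj] at h
    refine Eq.trans (Finset.sum_congr rfl fun j _ => ?_) h
    rw [← map_mul T, ← pow_succ']
  have hTp : ∀ j, T (g ^ j) * A = A := fun j => by
    induction j with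
    | zero => rw [pow_zero, map_one, one_mul]
    | succ j ih => rw [pow_succ, map_mul, mul_assoc, hTA, ih]
  have hA2 : IsIdempotentElem A := by
    show A * A = A
    conv_lhs => arg 1; unfold A
    rw [smul_mul_assoc, Finset.sum_mul, Finset.sum_congr rfl fun j _ => hTp j, Finset.sum_const, Finset.card_range,
      ← Nat.cast_smul_eq_nsmul ℂ, smul_smul]
    norm_num
  have hfix : LinearMap.trace ℂ W A = (Module.finrank ℂ (LinearMap.range A) : ℂ) :=
    (LinearMap.IsIdempotentElem.isProj_range _ hA2).trace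
  set fx := Module.finrank ℂ (LinearMap.range A) with hfx
  have hle : fx ≤ 4 := hW ▸ Submodule.finrank_le _
  set c := LinearMap.trace ℂ W (T g) with hcdef
  have h1 : LinearMap.trace ℂ W (1 : Module.End ℂ W) = (4 : ℂ) := by
    rw [LinearMap.trace_one, hW]; norm_num
  have hsum : (7 : ℂ) * fx = 4 + 6 * c := by
    rw [← hfix]
    simp only [A, map_smul, map_add, Finset.sum_range_succ, Finset.sum_range_zero, zero_add, pow_zero, pow_one, map_one, h1, ← hcdef,
      hc 1 le_rfl (by norm_num), hc 2 (by norm_num) (by norm_num), hc 3 (by norm_num) (by norm_num),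
      hc 4 (by norm_num) (by norm_num), hc 5 (by norm_num) (by norm_num), hc 6 (by norm_num) le_rfl]
    rw [smul_eq_mul]
    ring
  have hint : IsIntegral ℤ c := CharTheory.isIntegral_character T g
  obtain ⟨j, hj⟩ := CharTheory.exists_int_of_isIntegral_ratCast (q := (7 * (fx : ℚ) - 4) / 6) (by
    convert hint using 1
    push_cast
    linear_combination (1 / 6 : ℂ) * hsum)
  have hj' : (7 * (fx : ℤ) - 4 : ℚ) = ((6 * j : ℤ) : ℚ) := by
    push_cast
    rw [div_eq_iff (by norm_num)] at hj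
    linarith
  have hj'' : 7 * (fx : ℤ) - 4 = 6 * j := by exact_mod_cast hj'
  have hfx4 : fx = 4 := by omega
  have htop : LinearMap.range A = ⊤ := Submodule.eq_top_of_finrank_eq (by rw [← hfx, hfx4, hW])
  refine LinearMap.ext fun x => ?_
  obtain ⟨y, rfl⟩ : x ∈ LinearMap.range A := htop ▸ Submodule.mem_top
  exact LinearMap.congr_fun hTA y

/-- An element of order seven fixing no form. -/
theorem no_fixed_g (C : Alt F (0 + 3)) (e : act !![(0 : F), 0, 1; 1, 0, 1; 0, 1, 0] C = C) : C = 0 := by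
  have e1 := congrArg (fun X : Alt F (0 + 3) => X.1 0 1) e
  have e2 := congrArg (fun X : Alt F (0 + 3) => X.1 0 2) e
  have e3 := congrArg (fun X : Alt F (0 + 3) => X.1 1 2) e
  simp [act_apply, Fin.sum_univ_three, alt_diag, alt_skew C 1 0, alt_skew C 2 0, alt_skew C 2 1] at e1 e2 e3
  have c0 : C.1 0 1 = 0 := by linear_combination -e3 + e2 - 2 * e1
  have c1 : C.1 0 2 = 0 := by linear_combination -e2 - c0
  have c2 : C.1 1 2 = 0 := by linear_combination e1 + c0
  refine Subtype.ext (Matrix.ext fun i j => ?_)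
  fin_cases i <;> fin_cases j <;>
    simp [alt_diag, alt_skew C 1 0, alt_skew C 2 0, alt_skew C 2 1, c0, c1, c2]

/-- Its inverse transpose fixing no form. -/
theorem no_fixed_gt (C : Alt F (0 + 3)) (e : act !![(1 : F), 0, 1; 1, 0, 0; 0, 1, 0] C = C) : C = 0 := by
  have e1 := congrArg (fun X : Alt F (0 + 3) => X.1 0 1) e
  have e2 := congrArg (fun X : Alt F (0 + 3) => X.1 0 2) e
  have e3 := congrArg (fun X : Alt F (0 + 3) => X.1 1 2) e
  simp [act_apply, Fin.sum_univ_three, alt_diag, alt_skew C 1 0, alt_skew C 2 0, alt_skew C 2 1] at e1 e2 e3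
  have c0 : C.1 0 1 = 0 := by linear_combination -e1 - e3
  have c1 : C.1 0 2 = 0 := by linear_combination -e2 - c0
  have c2 : C.1 1 2 = 0 := by linear_combination -e3 - c1
  refine Subtype.ext (Matrix.ext fun i j => ?_)
  fin_cases i <;> fin_cases j <;>
    simp [alt_diag, alt_skew C 1 0, alt_skew C 2 0, alt_skew C 2 1, c0, c1, c2]

/-- An element of order seven over the prime field. -/
def s7 : SpecialLinearGroup (Fin (0 + 3)) (ZMod 2) := ⟨!![0, 0, 1; 1, 0, 1; 0, 1, 0], by decide +kernel⟩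

/-- Its inverse transpose. -/
def s7t : SpecialLinearGroup (Fin (0 + 3)) (ZMod 2) := ⟨!![1, 0, 1; 1, 0, 0; 0, 1, 0], by decide +kernel⟩

/-- An element squaring it. -/
def s7s : SpecialLinearGroup (Fin (0 + 3)) (ZMod 2) := ⟨!![1, 0, 0; 0, 0, 1; 0, 1, 1], by decide +kernel⟩

/-- An element inverting it modulo transposition. -/
def s7r : SpecialLinearGroup (Fin (0 + 3)) (ZMod 2) := ⟨!![1, 0, 0; 0, 0, 1; 0, 1, 0], by decide +kernel⟩

theorem s7_facts : s7 ^ 7 = 1 ∧ s7 ^ 2 = s7s * s7 * s7s⁻¹ ∧ s7 ^ 4 = s7s * s7 ^ 2 * s7s⁻¹ ∧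
    s7 ^ 6 = s7⁻¹ ∧ s7 ^ 5 = s7s * s7 ^ 6 * s7s⁻¹ ∧ s7 ^ 3 = s7s * s7 ^ 5 * s7s⁻¹ ∧
    s7r * s7t * s7r⁻¹ = s7⁻¹ ∧ (s7⁻¹).1ᵀ = s7t.1 ∧ (s7t⁻¹).1ᵀ = s7.1 := by decide +kernel

/-- Two transvections as products of two conjugates. -/
theorem s7_gen :
    (∃ x y : SpecialLinearGroup (Fin (0 + 3)) (ZMod 2),
      (x * s7 * x⁻¹ * (y * s7 * y⁻¹)).1 = !![1, 1, 0; 0, 1, 0; 0, 0, 1]) ∧
    ∃ x y : SpecialLinearGroup (Fin (0 + 3)) (ZMod 2),
      (x * s7 * x⁻¹ * (y * s7 * y⁻¹)).1 = !![1, 0, 1; 0, 1, 0; 0, 0, 1] :=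
  ⟨⟨⟨!![0, 0, 1; 0, 1, 0; 1, 0, 0], by decide +kernel⟩, ⟨!![1, 0, 0; 0, 1, 1; 0, 0, 1], by decide +kernel⟩,
      by decide +kernel⟩,
    ⟨⟨!![0, 0, 1; 1, 0, 0; 0, 1, 0], by decide +kernel⟩, ⟨!![1, 0, 0; 0, 0, 1; 0, 1, 1], by decide +kernel⟩,
      by decide +kernel⟩⟩

/-- Over the field of two elements the fixed space does not have dimension four. -/
theorem small_two {a b : F} (hm : 3 ≤ 0 + 3)
    (hab : ∀ z₁ z₂ : F, z₁ ^ 2 + a * z₁ * z₂ + b * z₂ ^ 2 = 0 → z₁ = 0 ∧ z₂ = 0)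
    (ρ : Representation ℂ (Om (Qm (0 + 3) a b)) (Fin k → ℂ)) (hq : Fintype.card F = 2)
    (hnt : ∃ d, τ0 hm hab ρ (tx d) ≠ 1) : mC hm hab ρ 0 ≠ 4 := by
  classical
  intro h4
  have h2 : (2 : F) = 0 := by
    have : ((2 : ℕ) : F) = 0 := by rw [← hq]; exact Nat.cast_card_eq_zero F
    exact_mod_cast this
  haveI : CharP F 2 := CharTwo.of_one_ne_zero_of_two_eq_zero one_ne_zero h2
  have h01 : ∀ x : F, x = 0 ∨ x = 1 := fun x => by
    by_contra hx
    push Not at hx
    have := Finset.card_le_univ ({0, 1, x} : Finset F)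
    rw [Finset.card_insert_of_notMem (by simp [hx.1.symm]), Finset.card_insert_of_notMem (by simp [hx.2.symm]),
      Finset.card_singleton, hq] at this
    omega
  set μ := Matrix.SpecialLinearGroup.map (n := Fin (0 + 3)) (ZMod.castHom dvd_rfl F : ZMod 2 →+* F) with hμdef
  have hμ : ∀ x, (μ x).1 = x.1.map (ZMod.castHom dvd_rfl F : ZMod 2 →+* F) := fun x => rfl
  set T : SpecialLinearGroup (Fin (0 + 3)) (ZMod 2) →* Module.End ℂ (LinearMap.range (PC hm hab ρ 0)) :=
    (τ0 hm hab ρ).comp μ with hTdef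
  obtain ⟨e7, e2, e4, e6, e5, e3, er, eit, eit'⟩ := s7_facts
  set trW := LinearMap.trace ℂ (LinearMap.range (PC hm hab ρ 0)) with htrW
  have hconj : ∀ x y, trW (T (x * y * x⁻¹)) = trW (T y) := fun x y => by
    rw [map_mul T, LinearMap.trace_mul_comm, ← map_mul T, ← mul_assoc, inv_mul_cancel, one_mul]
  have hmove : ∀ x : SpecialLinearGroup (Fin (0 + 3)) F, (∀ C : Alt F (0 + 3), act x.1 C = C → C = 0) →
      LinearMap.trace ℂ (Fin k → ℂ) (ρ (lM hm (SpecialLinearGroup.toGL x) (sl_sq x))) = trW (τ0 hm hab ρ x) := by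
    intro x hx
    rw [← mul_one (ρ (lM hm (SpecialLinearGroup.toGL x) (sl_sq x))), ← sum_PC hm hab ρ, Finset.mul_sum, map_sum,
      Finset.sum_eq_single 0]
    · exact trace_rp hm hab ρ 0 (slN hm hab ρ x)
    · exact fun C _ hC => lM_trace hm hab ρ (SpecialLinearGroup.toGL x) (sl_sq x) fun e => hC (hx C e)
    · simp
  have hg0 : ∀ C : Alt F (0 + 3), act (μ s7).1 C = C → C = 0 := fun C e => no_fixed_g C (by
    rwa [show (μ s7).1 = !![(0 : F), 0, 1; 1, 0, 1; 0, 1, 0] by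
      rw [hμ]; ext i j; fin_cases i <;> fin_cases j <;> simp [s7]] at e)
  have hgt0 : ∀ C : Alt F (0 + 3), act (μ s7t).1 C = C → C = 0 := fun C e => no_fixed_gt C (by
    rwa [show (μ s7t).1 = !![(1 : F), 0, 1; 1, 0, 0; 0, 1, 0] by
      rw [hμ]; ext i j; fin_cases i <;> fin_cases j <;> simp [s7t]] at e)
  obtain ⟨n, hn, hnx⟩ := swap_conj (a := a) (b := b) hab h2 hm (SpecialLinearGroup.toGL (μ s7))
    (SpecialLinearGroup.toGL (μ s7t))
    (by
      rw [← map_inv, ← map_inv]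
      show ((μ s7⁻¹).1)ᵀ = (μ s7t).1
      rw [hμ, hμ, ← Matrix.transpose_map, eit])
    (by
      rw [← map_inv, ← map_inv]
      show ((μ s7t⁻¹).1)ᵀ = (μ s7).1
      rw [hμ, hμ, ← Matrix.transpose_map, eit'])
  have hinvtr : trW (T s7⁻¹) = trW (T s7) := by
    rw [← er, hconj]
    show trW (τ0 hm hab ρ (μ s7t)) = trW (τ0 hm hab ρ (μ s7))
    rw [← hmove _ hgt0, ← hmove _ hg0]
    have e : lM (a := a) (b := b) hm (SpecialLinearGroup.toGL (μ s7t)) (sl_sq _) = (⟨n, hn⟩ : Om (Qm (0 + 3) a b)) *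
        lM hm (SpecialLinearGroup.toGL (μ s7)) (sl_sq _) * (⟨n, hn⟩ : Om (Qm (0 + 3) a b))⁻¹ :=
      eq_mul_inv_of_mul_eq (Subtype.ext hnx.symm)
    rw [e, map_mul, LinearMap.trace_mul_comm, ← map_mul, ← mul_assoc, inv_mul_cancel, one_mul]
  have c2 : trW (T (s7 ^ 2)) = trW (T s7) := by rw [e2, hconj]
  have c6 : trW (T (s7 ^ 6)) = trW (T s7) := by rw [e6, hinvtr]
  have c5 : trW (T (s7 ^ 5)) = trW (T s7) := by rw [e5, hconj, c6]
  have hg1 : T s7 = 1 := seven_trivial T (by rw [← mC_eq, h4]) s7 e7 (by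
    intro j h1 h6
    interval_cases j
    · rw [pow_one]
    · exact c2
    · rw [e3, hconj]; exact c5
    · rw [e4, hconj]; exact c2
    · exact c5
    · exact c6)
  have hker : ∀ x y : SpecialLinearGroup (Fin (0 + 3)) (ZMod 2), T (x * s7 * x⁻¹ * (y * s7 * y⁻¹)) = 1 := fun x y => by
    simp only [map_mul T, hg1, mul_one]
    rw [← map_mul T, mul_inv_cancel, map_one, one_mul, ← map_mul T, mul_inv_cancel, map_one]
  obtain ⟨⟨x1, y1, p1⟩, x2, y2, p2⟩ := s7_gen
  have t1 : τ0 hm hab ρ (tx ![1, 0]) = 1 := by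
    rw [← hker x1 y1]
    show _ = τ0 hm hab ρ (μ _)
    congr 1
    refine Subtype.ext ?_
    rw [hμ, p1]
    ext i j
    fin_cases i <;> fin_cases j <;> simp [tx_coe, blkM] <;> rfl
  have t2 : τ0 hm hab ρ (tx ![0, 1]) = 1 := by
    rw [← hker x2 y2]
    show _ = τ0 hm hab ρ (μ _)
    congr 1
    refine Subtype.ext ?_
    rw [hμ, p2]
    ext i j
    fin_cases i <;> fin_cases j <;> simp [tx_coe, blkM] <;> rfl
  obtain ⟨d, hd⟩ := hnt
  apply hd
  have hd2 : d = ![d 0, 0] + ![0, d 1] := by funext i; fin_cases i <;> simp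
  rw [hd2, tx_add, map_mul]
  have hz : (![0, 0] : Fin 2 → F) = 0 := by funext i; fin_cases i <;> rfl
  have a1 : τ0 hm hab ρ (tx ![d 0, 0]) = 1 := by
    rcases h01 (d 0) with h | h <;> rw [h]
    · rw [hz, tx_zero, map_one]
    · exact t1
  have a2 : τ0 hm hab ρ (tx ![0, d 1]) = 1 := by
    rcases h01 (d 1) with h | h <;> rw [h]
    · rw [hz, tx_zero, map_one]
    · exact t2
  rw [a1, a2, one_mul]

end CfsgLib.OrthDeg
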