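import Mathlib
import Cfsg.Agent.Lib.OrthDeg.MinusClass
import Cfsg.Agent.Lib.OrthDeg.MinusSmall

/-! The minimal degree of the minus-type orthogonal group. -/

set_option autoImplicit false
set_option maxHeartbeats 2000000

namespace CfsgLib.OrthDeg

open Matrix QuadraticMap CfsgLib.WittExtension CfsgLib.OmegaMin CfsgLib.RadicalBound CfsgLib.SLMin
open CfsgLib.StdQuadForms (Qm)

local notation "ψ" => CfsgLib.SympWeil.ψ

variable {F : Type*} [Field F] [Fintype F] [DecidableEq F] {m : ℕ} {a b : F}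

/-- An indecomposable normal form has a non-zero entry outside the first two rows. -/
theorem normal_entry {C : Alt F (m + 3)} (hn : Normal C) (hd : ¬ Dec C) :
    ∃ p q : Fin (m + 1), C.1 p.succ.succ q.succ.succ ≠ 0 := by
  by_contra hcon
  push Not at hcon
  apply hd
  have : C = base F m := by
    refine Subtype.ext (Matrix.ext fun i j => ?_)
    have hb : ∀ p q : Fin (m + 1), (base F m).1 p.succ.succ q.succ.succ = 0 := fun p q => by
      have := dec_base.rows (F := F) 0 1 p.succ.succ q.succ.succ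
      rwa [normal_base.one, one_mul, normal_base.row0 _ (Fin.succ_ne_zero p),
        normal_base.row0 _ (Fin.succ_ne_zero q), zero_mul, zero_mul, sub_self] at this
    have h0 : ∀ j, C.1 0 j = (base F m).1 0 j := fun j => by
      refine Fin.cases (by simp [alt_diag]) (fun i => ?_) j
      refine Fin.cases (hn.one.trans normal_base.one.symm) (fun k => ?_) i
      exact (hn.row0 _ (Fin.succ_ne_zero k)).trans (normal_base.row0 _ (Fin.succ_ne_zero k)).symm
    have h1 : ∀ j, C.1 1 j = (base F m).1 1 j := fun j => by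
      refine Fin.cases ?_ (fun i => ?_) j
      · rw [alt_skew _ 1 0, alt_skew (base F m) 1 0, h0]
      refine Fin.cases (by simp [alt_diag]) (fun k => ?_) i
      exact (hn.row1 k).trans (normal_base.row1 k).symm
    refine Fin.cases (h0 j) (fun i => ?_) i
    refine Fin.cases (h1 j) (fun k => ?_) i
    refine Fin.cases ?_ (fun i => ?_) j
    · rw [alt_skew _ _ 0, alt_skew (base F m) _ 0, h0]
    refine Fin.cases ?_ (fun l => ?_) i
    · show C.1 _ 1 = (base F m).1 _ 1
      rw [alt_skew _ _ 1, alt_skew (base F m) _ 1, h1]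
    exact (hcon k l).trans (hb k l).symm
  rw [this]; exact dec_base

/-- Every non-trivial representation of the minus-type group has large degree. -/
theorem minus_bound (hab : ∀ z₁ z₂ : F, z₁ ^ 2 + a * z₁ * z₂ + b * z₂ ^ 2 = 0 → z₁ = 0 ∧ z₂ = 0)
    (k : ℕ) (ρ : Representation ℂ (Om (Qm (m + 3) a b)) (Fin k → ℂ)) (hirr : ρ.IsIrreducible) (hk : 2 ≤ k) :
    (Fintype.card F ^ (m + 4) + 1) * (Fintype.card F ^ (m + 3) - Fintype.card F) / (Fintype.card F ^ 2 - 1) ≤ k := by
  classical
  have hm : 3 ≤ m + 3 := by omega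
  set q := Fintype.card F with hqdef
  have hq1 : 2 ≤ q := Fintype.one_lt_card
  by_contra hlt
  rw [not_le] at hlt
  have hQ := CfsgLib.StdQuadForms.Qm_nondeg (m + 3) hab
  have hd7 := dim_ge a b hm hab
  have hq2 : 0 < q ^ 2 - 1 := by
    have : 2 ^ 2 ≤ q ^ 2 := Nat.pow_le_pow_left hq1 2
    omega
  have hT : ∀ c, (q ^ (m + 4) + 1) * (q ^ (m + 3) - q) ≤ c * (q ^ 2 - 1) →
      (q ^ (m + 4) + 1) * (q ^ (m + 3) - q) / (q ^ 2 - 1) ≤ c := fun c h => Nat.div_le_of_le_mul (by linarith)
  set y := q ^ (m + 1) with hy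
  have hy1 : 1 ≤ y := Nat.one_le_pow _ _ (by omega)
  have e4 : q ^ (m + 4) = q * q * (q * y) := by rw [hy]; ring
  have e3 : q ^ (m + 3) = q * (q * y) := by rw [hy]; ring
  have e2 : q ^ (m + 2) = q * y := by rw [hy]; ring
  have hqy : 1 ≤ q * y := Nat.one_le_iff_ne_zero.2 (Nat.mul_ne_zero (by omega) (by omega))
  set μC : Alt F (m + 3) → ℕ := fun C => mC hm hab ρ C with hμC
  let eχ : Alt F (m + 3) ≃ AddChar (Alt F (m + 3)) ℂ := Equiv.ofBijective chi chi_bijective
  have hsum : ∑ C, μC C = k := by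
    rw [← sum_mult (fM hm hab) ρ (fM_add hm hab)]
    exact eχ.sum_comp fun χ => mult (fM hm hab) ρ χ
  -- indecomposable forms do not occur
  have hnd : ∀ C, ¬ Dec C → μC C = 0 := by
    intro C hC
    by_contra h0
    have hC0 : C ≠ 0 := fun h => hC ⟨0, 0, fun i j => by rw [h]; simp⟩
    obtain ⟨g₀, hg₀, hn⟩ := exists_normal hC0
    set C0 := act g₀ C with hC0def
    have hC' : ¬ Dec C0 := fun h => hC ((dec_act_iff (by rw [hg₀]; exact one_ne_zero)).1 h)
    obtain ⟨p, p', hpq⟩ := normal_entry hn hC'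
    have h4 : q ^ 4 ∣ μC C0 := by
      refine mC_dvd_four hm hab ρ C0 (v := Pi.single 0 1) (p := Pi.single 1 1)
        (v' := Pi.single p.succ.succ 1) (p' := Pi.single p'.succ.succ 1) ?_ ?_ ?_ ?_ ?_
      · rw [bf_single, hn.one]; exact one_ne_zero
      · rwa [bf_single]
      · rw [bf_single]; exact hn.row0 _ (Fin.succ_ne_zero p)
      · rw [bf_single]; exact hn.row0 _ (Fin.succ_ne_zero p')
      · rw [bf_single, alt_skew, hn.row1 p, neg_zero]
    have hpos : μC C0 = μC C := mC_sl hm hab ρ g₀ hg₀ C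
    have hge : q ^ 4 ≤ μC C0 := Nat.le_of_dvd (by omega) h4
    obtain ⟨S, hS, hmem⟩ := family {C0} (fun X hX => by rw [Finset.mem_singleton.1 hX]; exact hn)
    rw [Finset.card_singleton, mul_one, ← hqdef, e2, ← hy] at hS
    have hSk : q ^ 4 * S.card ≤ k := by
      rw [← hsum, mul_comm, ← smul_eq_mul, ← Finset.sum_const]
      refine le_trans (Finset.sum_le_sum fun C' hC' => ?_) (Finset.sum_le_sum_of_subset (Finset.subset_univ S))
      obtain ⟨-, g, hg, X, hX, rfl⟩ := hmem C' hC'
      rw [Finset.mem_singleton.1 hX]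
      show q ^ 4 ≤ μC (act g C0)
      rw [show μC (act g C0) = μC C0 from mC_sl hm hab ρ g hg C0]
      exact hge
    have := hT (q ^ 4 * S.card) (by
      rw [e4, e3, hS]
      have h3 : 3 ≤ q ^ 2 - 1 := by
        have : 2 ^ 2 ≤ q ^ 2 := Nat.pow_le_pow_left hq1 2
        omega
      calc (q * q * (q * y) + 1) * (q * (q * y) - q) = q * (q * y - 1) * (q * q * (q * y) + 1) := by
            rw [show q * (q * y) - q = q * (q * y - 1) by rw [Nat.mul_sub, mul_one], mul_comm]
        _ ≤ q * (q * y - 1) * (q * q * (q * y) * (q ^ 2 - 1)) := by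
            refine Nat.mul_le_mul_left _ ?_
            have h2 := Nat.mul_le_mul_left (q * q * (q * y)) h3
            have : 1 ≤ q * q * (q * y) := Nat.one_le_iff_ne_zero.2
              (Nat.mul_ne_zero (Nat.mul_ne_zero (by omega) (by omega)) (by omega))
            omega
        _ = _ := by ring)
    omega
  -- decomposable forms occur with one multiplicity
  have hO2 : ∀ C ∈ O2 F (m + 3), μC C = μC (base F m) := fun C hC => by
    obtain ⟨h0, hd⟩ := mem_O2.1 hC
    obtain ⟨g, hg, e⟩ := exists_to_base h0 hd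
    rw [← e]; exact (mC_sl hm hab ρ g hg C).symm
  have hsplit : ∀ {R : Type} [AddCommMonoid R] (w : Alt F (m + 3) → R), (∀ C, ¬ Dec C → w C = 0) →
      ∑ C, w C = w 0 + ∑ C ∈ O2 F (m + 3), w C := by
    intro R _ w hw
    rw [← Finset.sum_insert (fun h => (mem_O2.1 h).1 rfl)]
    refine (Finset.sum_subset (Finset.subset_univ _) fun C _ hC => hw C fun hd => hC ?_).symm
    by_cases h0 : C = 0
    · simp [h0]
    · exact Finset.mem_insert_of_mem (mem_O2.2 ⟨h0, hd⟩)
  set o := (O2 F (m + 3)).card with ho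
  set D := μC 0 with hD
  have hk1 : k = D + μC (base F m) * o := by
    rw [← hsum, hsplit μC hnd, Finset.sum_congr rfl hO2, Finset.sum_const, smul_eq_mul, mul_comm]
  have hc := card_O2_ge (F := F) (m + 1)
  rw [show m + 1 + 2 = m + 3 by omega, show m + 1 + 1 = m + 2 by omega, ← hqdef, e3, e2, ← ho] at hc
  -- the radical acts non-trivially
  set z : Alt F (m + 3) := wedge (Pi.single 1 1) (Pi.single 0 1) with hz
  have hnt : ρ (fM hm hab z) ≠ 1 := by
    intro h1
    let K : Subgroup (Om (Qm (m + 3) a b)) :=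
      { carrier := {g | ρ g = 1}
        mul_mem' := fun {a b} ha hb => by
          show ρ (a * b) = 1
          rw [map_mul, show ρ a = 1 from ha, show ρ b = 1 from hb, one_mul]
        one_mem' := map_one ρ
        inv_mem' := fun {a} ha => by
          show ρ a⁻¹ = 1
          calc ρ a⁻¹ = ρ a⁻¹ * ρ a := by rw [show ρ a = 1 from ha, mul_one]
            _ = 1 := by rw [← map_mul, inv_mul_cancel, map_one] }
    have hle : Om (Qm (m + 3) a b) ≤ K.map (Om (Qm (m + 3) a b)).subtype := by
      refine om_le_of_root hQ hd7 (fun g hg x hx => ?_) (ts_pair_ev (a := a) (b := b) (m := m))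
        ⟨fM hm hab z, h1, (eg_ev_ev a b _ _).symm⟩
      obtain ⟨u, hu, rfl⟩ := hx
      refine ⟨⟨g, hg⟩ * u * ⟨g, hg⟩⁻¹, ?_, rfl⟩
      show ρ (_ * _ * _) = 1
      rw [map_mul, map_mul, show ρ u = 1 from hu, mul_one, ← map_mul, mul_inv_cancel, map_one]
    have hall : ∀ g, ρ g = 1 := fun g => by
      obtain ⟨u, hu, e⟩ := hle g.2
      rw [← Subtype.ext e]; exact hu
    haveI : IsSimpleOrder (Subrepresentation ρ) := hirr
    let w : Fin k → ℂ := Pi.single ⟨0, by omega⟩ 1
    let U : Subrepresentation ρ := ⟨ℂ ∙ w, fun g x hx => by rw [hall g]; exact hx⟩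
    have hw : w ≠ 0 := fun h => by simpa [w] using congrFun h ⟨0, by omega⟩
    rcases IsSimpleOrder.eq_bot_or_eq_top U with hU | hU
    · exact hw (Submodule.span_singleton_eq_bot.1 (congrArg Subrepresentation.toSubmodule hU))
    · have e : (ℂ ∙ w) = ⊤ := congrArg Subrepresentation.toSubmodule hU
      have := finrank_span_singleton (K := ℂ) hw
      rw [e, finrank_top, Module.finrank_fintype_fun_eq_card, Fintype.card_fin] at this
      omega
  have hb1 : μC (base F m) = q ^ 2 := by
    have hne : μC (base F m) ≠ 0 := fun h0 => by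
      apply hnt
      rw [rho_eq (fM hm hab) ρ (fM_add hm hab), ← sum_proj (fM hm hab) ρ (fM_add hm hab)]
      refine Finset.sum_congr rfl fun χ _ => ?_
      obtain ⟨C, rfl⟩ := eχ.surjective χ
      show chi C z • RadicalBound.proj (fM hm hab) ρ (chi C) = RadicalBound.proj (fM hm hab) ρ (chi C)
      by_cases hC : C = 0
      · rw [hC, chi_zero, AddChar.one_apply, one_smul]
      · have : μC C = 0 := by
          by_cases hd : Dec C
          · rw [hO2 C (mem_O2.2 ⟨hC, hd⟩), h0]
          · exact hnd C hd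
        rw [LinearMap.range_eq_bot.1 (Submodule.finrank_eq_zero.1 this), smul_zero]
    have hdv : q ^ 2 ∣ μC (base F m) := mC_dvd hm hab ρ (base F m) (v := Pi.single 0 1) (p := Pi.single 1 1) (by
      rw [bf_single, (normal_base (F := F) (m := m)).one]; exact one_ne_zero)
    obtain ⟨j, hj⟩ := hdv
    rcases Nat.lt_or_ge j 2 with hj2 | hj2
    · interval_cases j
      · omega
      · rw [hj, mul_one]
    have h2 : 2 * q ^ 2 * o ≤ k := by
      rw [hk1, hj]
      exact le_add_left (Nat.mul_le_mul_right _ (by rw [mul_comm]; exact Nat.mul_le_mul_left _ hj2))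
    have := hT (2 * q ^ 2 * o) (by
      rw [e4, e3]
      calc (q * q * (q * y) + 1) * (q * (q * y) - q) = q * (q * y - 1) * (q * q * (q * y) + 1) := by
            rw [show q * (q * y) - q = q * (q * y - 1) by rw [Nat.mul_sub, mul_one], mul_comm]
        _ ≤ q * (q * y - 1) * (2 * q * (q * (q * y) - 1)) := by
            refine Nat.mul_le_mul_left _ ?_
            have h1 : 1 ≤ q * (q * y) := Nat.one_le_iff_ne_zero.2 (Nat.mul_ne_zero (by omega) (by omega))
            zify [h1]
            have a1 : (2 : ℤ) ≤ q := by exact_mod_cast hq1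
            have a2 : (1 : ℤ) ≤ y := by exact_mod_cast hy1
            nlinarith [mul_le_mul_of_nonneg_left a2 (show (0 : ℤ) ≤ (q : ℤ) ^ 3 by positivity),
              mul_le_mul a1 a1 (by norm_num) (by linarith)]
        _ = 2 * q ^ 2 * ((q * (q * y) - 1) * (q * y - 1)) := by ring
        _ ≤ 2 * q ^ 2 * ((q ^ 2 - 1) * o) := Nat.mul_le_mul_left _ hc
        _ = _ := by ring)
    omega
  rw [hb1] at hk1
  -- the fixed space is a non-trivial module of the Levi subgroup
  have hO : ∀ C ∈ O2 F (m + 3), mC hm hab ρ C = Fintype.card F ^ 2 := fun C hC => (hO2 C hC).trans hb1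
  have htx := exists_tx_ne hm hab ρ (levi_nontrivial hm hab ρ hO hnd)
  obtain ⟨d₀, hd₀⟩ := id htx
  haveI := Fintype.ofFinite (Matrix.SpecialLinearGroup (Fin (m + 3)) F)
  have hD1 : q ^ (m + 2) - 1 ≤ D := by
    haveI := nontrivial_freeRep (τ0 hm hab ρ) hd₀
    refine le_trans ?_ (Submodule.finrank_le (LinearMap.ker (avg (τ0 hm hab ρ))))
    exact orbit_le (l := m + 2) (W := LinearMap.ker (avg (τ0 hm hab ρ))) (freeRep (τ0 hm hab ρ)) (show 1 ≤ m + 2 by omega) (trans_two (show 2 ≤ m + 2 by omega)) (noFix_freeRep (τ0 hm hab ρ))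
  -- the general case
  by_cases hok : Ok (m + 2) q
  · obtain ⟨U, _, _, _, hU, σ, hσ, hσf, hUle⟩ := exists_irr_of_nontrivial (τ0 hm hab ρ) hd₀
    have hD2 : gs q (m + 3) - 1 ≤ D := (irr_bound F (m + 2) (by omega) hok U σ hσ hσf).trans hUle
    have hgs := gs_geom (q := q) (by omega) (m + 3)
    have := hT k (by
      have h0 : q ≤ q * (q * y) := Nat.le_mul_of_pos_right _ hqy
      have h1 : 1 ≤ q * (q * y) := le_trans (by omega) h0
      have hq21 : 1 ≤ q ^ 2 := Nat.one_le_pow _ _ (by omega)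
      rw [e3] at hgs
      rw [e4, e3]
      zify [h0, hq21]
      zify [h1, hqy, hq21] at hc
      have hgs' : ((q : ℤ) - 1) * gs q (m + 3) + 1 = (q : ℤ) * ((q : ℤ) * y) := by
        have := congrArg (fun a : ℕ => (a : ℤ)) hgs
        push_cast [Nat.cast_sub (show 1 ≤ q by omega)] at this
        exact this
      have hkZ : (k : ℤ) = D + (q : ℤ) ^ 2 * o := by exact_mod_cast hk1
      have hDZ : (gs q (m + 3) : ℤ) - 1 ≤ D := by omega
      have hp : (0 : ℤ) ≤ (q : ℤ) ^ 2 - 1 := by nlinarith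
      have a1 := mul_le_mul_of_nonneg_left hDZ hp
      have a2 := mul_le_mul_of_nonneg_left hc (sq_nonneg (q : ℤ))
      have e1 : ((q : ℤ) ^ 2 - 1) * gs q (m + 3) = ((q : ℤ) + 1) * ((q : ℤ) * ((q : ℤ) * y) - 1) := by
        linear_combination ((q : ℤ) + 1) * hgs'
      rw [hkZ]
      linear_combination a1 + a2 - e1)
    omega
  -- the remaining small cases
  have hcases : (m = 0 ∧ (q = 2 ∨ q = 4)) ∨ (m = 1 ∧ (q = 2 ∨ q = 3)) := by
    simp only [Ok] at hok
    omega
  have htrz : ρ.character (fM hm hab z) = (k : ℂ) - ((q ^ 2 * q ^ (2 * m + 3) : ℕ) : ℂ) := by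
    show LinearMap.trace ℂ (Fin k → ℂ) (ρ (fM hm hab z)) = _
    rw [trace_rho (fM hm hab) ρ (fM_add hm hab), ← eχ.sum_comp fun χ => χ z * (mult (fM hm hab) ρ χ : ℂ)]
    show ∑ C, chi C z * (μC C : ℂ) = _
    rw [hsplit _ (fun C hC => by rw [hnd C hC]; simp), chi_zero, AddChar.one_apply, one_mul]
    have hzC : ∀ C : Alt F (m + 3), chi C z = (ψ : AddChar F ℂ) ((-1) * C.1 0 1) := fun C => by
      rw [chi_apply, hz, pair_wedge, bf_single, alt_skew C 1 0, neg_one_mul]
    have := sum_O2 (F := F) (m := m) (neg_ne_zero.2 (one_ne_zero (α := F)))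
    rw [Finset.sum_sub_distrib, Finset.sum_const, nsmul_eq_mul, mul_one, ← hqdef, ← ho] at this
    rw [Finset.sum_congr rfl fun C hC => (by rw [hO2 C hC, hb1, hzC] :
      chi C z * (μC C : ℂ) = (ψ : AddChar F ℂ) ((-1) * C.1 0 1) * ((q ^ 2 : ℕ) : ℂ)), ← Finset.sum_mul]
    have hkC : (k : ℂ) = D + (q : ℂ) ^ 2 * o := by exact_mod_cast hk1
    push_cast
    rw [← hD]
    linear_combination -hkC - (q : ℂ) ^ 2 * this
  have hint := CharTheory.isIntegral_centralChar ρ (fM hm hab z)
  rw [Module.finrank_fintype_fun_eq_card, Fintype.card_fin, htrz] at hint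
  have hdvd := dvd_nat_of_isIntegral (by omega) hint
  have hN := minus_class hm hab
  rw [← hqdef, ← hz] at hN
  set N := Nat.card {u : Om (Qm (m + 3) a b) // IsConj (fM hm hab z) u}
  rcases hcases with ⟨rfl, hq24 | hq24⟩ | ⟨rfl, hq23 | hq23⟩
  · have h4 := small_two hm hab ρ hq24 htx
    rw [hy, hq24] at hc
    rw [hq24] at hlt hN hdvd hk1 hD1
    norm_num at hlt hN hdvd hc hD1
    have hN' : N = 1071 := by omega
    rw [hN'] at hdvd
    change D ≠ 4 at h4
    have key : ∀ j : ℕ, 31 ≤ j → j ≤ 33 → j ∣ 34272 → j = 32 := fun j l u d => by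
      interval_cases j <;> omega
    have := key k (by omega) (by omega) hdvd
    omega
  · have h18 : 18 ≤ D := small_four hm hab ρ hq24 htx
    rw [hy, hq24] at hc
    rw [hq24] at hlt hN hdvd hk1
    norm_num at hlt hN hdvd hc
    have hN' : N = 1052415 := by omega
    rw [hN'] at hdvd
    have key : ∀ j : ℕ, 1026 ≤ j → j ≤ 1027 → ¬ j ∣ 1077672960 := fun j l u d => by
      interval_cases j <;> norm_num at d
    exact key k (by omega) (by omega) hdvd
  · rw [hy, hq23] at hc
    rw [hq23] at hlt hN hdvd hk1 hD1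
    norm_num at hlt hN hdvd hc hD1
    have hN' : N = 19635 := by omega
    rw [hN'] at hdvd
    have key : ∀ j : ℕ, 147 ≤ j → j ≤ 153 → ¬ j ∣ 2513280 := fun j l u d => by
      interval_cases j <;> norm_num at d
    exact key k (by omega) (by omega) hdvd
  · rw [hy, hq23] at hc
    rw [hq23] at hlt hN hdvd hk1 hD1
    norm_num at hlt hN hdvd hc hD1
    have hN' : N = 5202080 := by omega
    rw [hN'] at hdvd
    have key : ∀ j : ℕ, 2366 ≤ j → j ≤ 2378 → ¬ j ∣ 11376948960 := fun j l u d => by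
      interval_cases j <;> norm_num at d
    exact key k (by omega) (by omega) hdvd

end CfsgLib.OrthDeg
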