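import Mathlib
import Cfsg.Agent.Lib.StdQuadForms
import Cfsg.Agent.Lib.OrthDeg.MinusModel

/-! The Siegel parabolic of the odd-dimensional orthogonal group. -/

set_option autoImplicit false

namespace CfsgLib.OrthDeg

open Matrix QuadraticMap CfsgLib.WittExtension CfsgLib.OmegaMin CfsgLib.SpinorNorm
open CfsgLib.Lagrangian (Qp Qp_apply Qp_nondeg)
open CfsgLib.StdQuadForms (Qo)
open CfsgLib.Eichler (conj_refl)

variable {F : Type*} [Field F] {r : ℕ}

local notation "QO" => Qo (F := F) r

/-- Vectors of the standard totally singular space. -/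
def evo (v : Fin r → F) : Unit ⊕ (Fin r ⊕ Fin r) → F := Sum.elim 0 (Sum.elim v 0)

/-- Vectors of the opposite totally singular space. -/
def fvo (v : Fin r → F) : Unit ⊕ (Fin r ⊕ Fin r) → F := Sum.elim 0 (Sum.elim 0 v)

/-- Vectors of the anisotropic line. -/
def zvo (t : F) : Unit ⊕ (Fin r ⊕ Fin r) → F := Sum.elim (fun _ => t) 0

theorem qo_split (v : Unit ⊕ (Fin r ⊕ Fin r) → F) :
    QO v = v (Sum.inl ()) * v (Sum.inl ()) + Qp r F (v ∘ Sum.inr) := rfl

theorem polar_qo (u v : Unit ⊕ (Fin r ⊕ Fin r) → F) :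
    polar QO u v = 2 * (u (Sum.inl ()) * v (Sum.inl ())) + polar (Qp r F) (u ∘ Sum.inr) (v ∘ Sum.inr) := by
  simp only [polar, qo_split, Pi.add_apply]
  rw [show (u + v) ∘ Sum.inr = u ∘ Sum.inr + v ∘ Sum.inr from rfl]
  ring

theorem evo_add (u v : Fin r → F) : evo (u + v) = evo u + evo v := by
  funext s; rcases s with i | i | i <;> simp [evo]

theorem evo_smul (c : F) (v : Fin r → F) : evo (c • v) = c • evo v := by
  funext s; rcases s with i | i | i <;> simp [evo]

theorem fvo_smul (c : F) (v : Fin r → F) : fvo (c • v) = c • fvo v := by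
  funext s; rcases s with i | i | i <;> simp [fvo]

theorem zvo_add (s t : F) : (zvo (s + t) : Unit ⊕ (Fin r ⊕ Fin r) → F) = zvo s + zvo t := by
  funext x; rcases x with i | i <;> simp [zvo]

theorem zvo_smul (c t : F) : (zvo (c * t) : Unit ⊕ (Fin r ⊕ Fin r) → F) = c • zvo t := by
  funext x; rcases x with i | i <;> simp [zvo]

theorem polar_evo (v : Fin r → F) (x : Unit ⊕ (Fin r ⊕ Fin r) → F) :
    polar QO (evo v) x = v ⬝ᵥ (fun i => x (Sum.inr (Sum.inr i))) := by
  rw [polar_qo, polar_qp]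
  simp [evo, Function.comp_def]

theorem polar_fvo (v : Fin r → F) (x : Unit ⊕ (Fin r ⊕ Fin r) → F) :
    polar QO (fvo v) x = (fun i => x (Sum.inr (Sum.inl i))) ⬝ᵥ v := by
  rw [polar_qo, polar_qp]
  simp [fvo, Function.comp_def]

theorem polar_zvo (t : F) (x : Unit ⊕ (Fin r ⊕ Fin r) → F) :
    polar QO (zvo t) x = 2 * (t * x (Sum.inl ())) := by
  rw [polar_qo]
  simp [zvo, polar_zero_left]

theorem qo_evo (v : Fin r → F) : QO (evo v) = 0 := by
  rw [qo_split, qp_dot]; simp [evo, Function.comp_def]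

theorem qo_fvo (v : Fin r → F) : QO (fvo v) = 0 := by
  rw [qo_split, qp_dot]; simp [fvo, Function.comp_def]

theorem qo_zvo (t : F) : QO (zvo t) = t * t := by
  rw [qo_split]; simp [zvo]

theorem polar_evo_zvo (v : Fin r → F) (t : F) : polar QO (evo v) (zvo t) = 0 := by
  rw [polar_evo]; simp [zvo, dotProduct]

theorem polar_evo_evo (u v : Fin r → F) : polar QO (evo u) (evo v) = 0 := by
  rw [polar_evo]; simp [evo, dotProduct]

/-- An isometry of the hyperbolic part. -/
def liftQ : quadIso (Qp r F) →* quadIso QO where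
  toFun g := ⟨{ toFun := fun v => Sum.elim (v ∘ Sum.inl) (g.1 (v ∘ Sum.inr))
                map_add' := fun u v => by
                  funext s; cases s <;> simp [show (u + v) ∘ Sum.inr = u ∘ Sum.inr + v ∘ Sum.inr from rfl]
                map_smul' := fun c v => by
                  funext s; cases s <;> simp [show (c • v) ∘ Sum.inr = c • (v ∘ Sum.inr) from rfl]
                invFun := fun v => Sum.elim (v ∘ Sum.inl) (g.1.symm (v ∘ Sum.inr))
                left_inv := fun v => by funext s; cases s <;> simp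
                right_inv := fun v => by funext s; cases s <;> simp },
    fun v => by
      rw [qo_split, qo_split]
      show v (Sum.inl ()) * v (Sum.inl ()) + Qp r F (g.1 (v ∘ Sum.inr)) = _
      rw [g.2]⟩
  map_one' := iso_ext _ fun v => by funext s; cases s <;> rfl
  map_mul' g h := iso_ext _ fun v => by funext s; cases s <;> rfl

/-- The Siegel radical modulo the covering elements. -/
noncomputable def zBo (B : Alt F r) : quadIso QO := liftQ (zq B)

/-- The Levi subgroup. -/
noncomputable def LGo (g : GL (Fin r) F) : quadIso QO := liftQ (lq g)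

/-- The elements covering the radical modulo its derived subgroup. -/
noncomputable def EUo (v : Fin r → F) (t : F) : quadIso QO := eg QO (evo v) (zvo t)

theorem zBo_add (A B : Alt F r) : zBo (A + B) = zBo A * zBo B := by
  rw [zBo, zq_add, map_mul]; rfl

theorem zBo_evo (B : Alt F r) (v : Fin r → F) : (zBo B).1 (evo v) = evo v := by
  funext s; rcases s with i | i | i
  · rfl
  · show (zq B).1 ((evo v) ∘ Sum.inr) (Sum.inl i) = _
    rw [zq_inl]; simp [evo, Function.comp_def, mulVec, dotProduct]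
  · rfl

theorem zBo_zvo (B : Alt F r) (t : F) : (zBo B).1 (zvo t) = zvo t := by
  funext s; rcases s with i | i | i
  · rfl
  · show (zq B).1 ((zvo t) ∘ Sum.inr) (Sum.inl i) = _
    rw [zq_inl]; simp [zvo, Function.comp_def, mulVec, dotProduct]
  · rfl

theorem EUo_add (v : Fin r → F) (s t : F) : EUo v (s + t) = EUo v s * EUo v t := by
  rw [EUo, zvo_add, eg_add (qo_evo v) (polar_evo_zvo v s) (polar_evo_zvo v t)]; rfl

theorem EUo_zero (v : Fin r → F) : EUo v 0 = 1 := by
  rw [EUo, show (zvo (0 : F) : Unit ⊕ (Fin r ⊕ Fin r) → F) = 0 from by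
    funext s; rcases s with i | i <;> simp [zvo]]
  exact eg_zero (qo_evo v)

theorem EUo_smul (c : F) (v : Fin r → F) (t : F) : EUo (c • v) t = EUo v (c * t) := by
  rw [EUo, EUo, evo_smul, zvo_smul, eg_smul_left (qo_evo v) (polar_evo_zvo v t)]

theorem zBo_EUo (B : Alt F r) (v : Fin r → F) (t : F) : zBo B * EUo v t = EUo v t * zBo B := by
  have h := eg_conj (qo_evo v) (polar_evo_zvo v t) (zBo B)
  rw [zBo_evo, zBo_zvo] at h
  exact mul_inv_eq_iff_eq_mul.1 h

theorem LGo_evo (g : GL (Fin r) F) (v : Fin r → F) : (LGo g).1 (evo v) = evo (g.1 *ᵥ v) := by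
  funext s; rcases s with i | i | i
  · rfl
  · show (lq g).1 ((evo v) ∘ Sum.inr) (Sum.inl i) = _
    rw [lq_inl]; simp [evo, Function.comp_def]
  · show (lq g).1 ((evo v) ∘ Sum.inr) (Sum.inr i) = _
    rw [lq_inr]; simp [evo, Function.comp_def, mulVec, dotProduct]

theorem LGo_zvo (g : GL (Fin r) F) (t : F) : (LGo g).1 (zvo t) = zvo t := by
  funext s; rcases s with i | i | i
  · rfl
  · show (lq g).1 ((zvo t) ∘ Sum.inr) (Sum.inl i) = _
    rw [lq_inl]; simp [zvo, Function.comp_def, mulVec, dotProduct]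
  · show (lq g).1 ((zvo t) ∘ Sum.inr) (Sum.inr i) = _
    rw [lq_inr]; simp [zvo, Function.comp_def, mulVec, dotProduct]

theorem LGo_EUo (g : GL (Fin r) F) (v : Fin r → F) (t : F) :
    LGo g * EUo v t = EUo (g.1 *ᵥ v) t * LGo g := by
  have h := eg_conj (qo_evo v) (polar_evo_zvo v t) (LGo g)
  rw [LGo_evo, LGo_zvo] at h
  exact mul_inv_eq_iff_eq_mul.1 h

theorem LGo_zBo (g : GL (Fin r) F) (B : Alt F r) : LGo g * zBo B = zBo (act g.1ᵀ B) * LGo g := by
  rw [LGo, zBo, zBo, ← map_mul, ← map_mul, lq_zq]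

theorem LGo_mul (g h : GL (Fin r) F) : LGo (g * h) = LGo g * LGo h := by
  rw [LGo, lq_mul, map_mul]; rfl

theorem LGo_one : LGo (1 : GL (Fin r) F) = 1 := by
  rw [LGo, show (lq (1 : GL (Fin r) F)) = 1 from lqHom.map_one, map_one]

/-- A root element of the radical. -/
theorem eg_evo_evo (u v : Fin r → F) : eg QO (evo u) (evo v) = zBo (wedge v u) := iso_ext _ fun x => by
  rw [eg_app (qo_evo u) (polar_evo_evo u v), qo_evo, polar_evo, polar_evo]
  funext s
  rcases s with i | i | i
  · simp [evo, zBo, liftQ]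
  · show _ = (zq (wedge v u)).1 (x ∘ Sum.inr) (Sum.inl i)
    rw [zq_inl]
    simp [evo, wedge_apply, mulVec, dotProduct, sub_mul, Finset.sum_sub_distrib, Finset.mul_sum, Finset.sum_mul]
    rw [sub_eq_add_neg]
    congr 1
    · exact Finset.sum_congr rfl fun j _ => by ring
    · rw [neg_inj]; exact Finset.sum_congr rfl fun j _ => by ring
  · simp [evo, zBo, liftQ, zq]

/-- Commutators of the covering elements. -/
theorem EUo_comm (v v' : Fin r → F) (t t' : F) :
    EUo v t * EUo v' t' = zBo ((-(2 * (t * t'))) • wedge v v') * EUo v' t' * EUo v t := by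
  have h := eg_conj (qo_evo v') (polar_evo_zvo v' t') (EUo v t)
  have e1 : (EUo v t).1 (evo v') = evo v' :=
    eg_fix (qo_evo v) (polar_evo_zvo v t) (polar_evo_evo v v') (by rw [polar_comm, polar_evo_zvo])
  have e2 : (EUo v t).1 (zvo t') = zvo t' + (-(2 * (t * t'))) • evo v := by
    rw [EUo, eg_app (qo_evo v) (polar_evo_zvo v t), polar_evo_zvo, polar_zvo,
      show (zvo t' : Unit ⊕ (Fin r ⊕ Fin r) → F) (Sum.inl ()) = t' from rfl, zero_smul, mul_zero, sub_zero, zero_add]
  rw [e1, e2, add_comm, eg_add (qo_evo v') (by rw [polar_smul_right, polar_evo_evo, smul_zero])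
    (polar_evo_zvo v' t'), ← evo_smul, eg_evo_evo, wedge_smul] at h
  exact mul_inv_eq_iff_eq_mul.1 h

theorem EUo_add_left (v v' : Fin r → F) (t : F) :
    EUo (v + v') t = zBo ((-(t * t)) • wedge v' v) * (EUo v t * EUo v' t) := by
  rw [EUo, evo_add, eg_add_left (qo_evo v) (qo_evo v') (polar_evo_evo v v') (polar_evo_zvo v t)
    (polar_evo_zvo v' t), qo_zvo, ← evo_smul, eg_evo_evo, wedge_smul]; rfl

/-- Transvections of the Levi subgroup are long root elements. -/
theorem LGo_eq_eg (i0 : Fin r) (δ : Fin r → F) (hδ : δ i0 = 0) (g : GL (Fin r) F)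
    (hg : g.1 = 1 + Matrix.vecMulVec (Pi.single i0 1) δ) :
    LGo g = eg QO (fvo δ) (evo (Pi.single i0 1)) := iso_ext _ fun x => by
  have hp : polar QO (fvo δ) (evo (Pi.single i0 1)) = 0 := by
    rw [polar_fvo]; simp [evo, dotProduct, Pi.single_apply, hδ]
  have hgi : (g⁻¹).1 = 1 - Matrix.vecMulVec (Pi.single i0 1) δ := by
    rw [Matrix.coe_units_inv, hg]
    refine Matrix.inv_eq_right_inv ?_
    rw [mul_sub, mul_one, add_mul, one_mul, Matrix.vecMulVec_mul_vecMulVec]
    simp [hδ]
  rw [eg_app (qo_fvo δ) hp, qo_evo, polar_fvo, polar_evo]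
  funext s
  rcases s with i | i | i
  · simp [evo, fvo, LGo, liftQ]
  · show (lq g).1 (x ∘ Sum.inr) (Sum.inl i) = _
    rw [lq_inl, hg, add_mulVec, one_mulVec, vecMulVec_mulVec]
    simp [evo, fvo, Function.comp_def, dotProduct_comm δ, mul_comm, Pi.single_apply]
  · show (lq g).1 (x ∘ Sum.inr) (Sum.inr i) = _
    rw [lq_inr, hgi, transpose_sub, transpose_one, transpose_vecMulVec, sub_mulVec, one_mulVec, vecMulVec_mulVec]
    simp [evo, fvo, Function.comp_def]
    ring

section omega

variable [Fintype F] (h2 : (2 : F) ≠ 0) (hr : 3 ≤ r)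
include h2 hr

omit h2 in
theorem dim_ge_odd : 7 ≤ Module.finrank F (Unit ⊕ (Fin r ⊕ Fin r) → F) := by
  rw [Module.finrank_fintype_fun_eq_card]; simp; omega

theorem EUo_mem (v : Fin r → F) (t : F) : EUo v t ∈ Om QO :=
  eg_mem QO (CfsgLib.StdQuadForms.Qo_nondeg h2 r) (by have := dim_ge_odd (F := F) hr; omega) (qo_evo v)
    (polar_evo_zvo v t)

theorem zBo_mem (B : Alt F r) : zBo B ∈ Om QO := by
  classical
  let φ : Alt F r →+ Additive (quadIso QO) := AddMonoidHom.mk' (fun B => Additive.ofMul (zBo B))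
    fun A B => congrArg Additive.ofMul (zBo_add A B)
  have e : B = ∑ i, wedge (Pi.single i 1) (fun j => if i < j then B.1 i j else 0) := by
    refine Subtype.ext (Matrix.ext fun i j => ?_)
    rw [AddSubmonoidClass.coe_finset_sum, Matrix.sum_apply]
    simp only [wedge_apply, Pi.single_apply, ite_mul, one_mul, zero_mul, Finset.sum_sub_distrib]
    rw [Finset.sum_ite_eq, Finset.sum_ite_eq, if_pos (Finset.mem_univ _), if_pos (Finset.mem_univ _)]
    rcases lt_trichotomy i j with h | h | h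
    · rw [if_pos h, if_neg (lt_asymm h), sub_zero]
    · subst h; simp [alt_diag]
    · rw [if_neg (lt_asymm h), if_pos h, zero_sub, alt_skew B i j]
  have hmem : ∀ C, C ∈ ((Om QO).toAddSubgroup.comap φ) ↔ zBo C ∈ Om QO := fun C => Iff.rfl
  rw [← hmem, e]
  refine AddSubgroup.sum_mem _ fun i _ => (hmem _).2 ?_
  rw [← eg_evo_evo]
  exact eg_mem QO (CfsgLib.StdQuadForms.Qo_nondeg h2 r) (by have := dim_ge_odd (F := F) hr; omega) (qo_evo _)
    (polar_evo_evo _ _)

omit h2 in
theorem LGo_mem {g : GL (Fin r) F} (hg : IsSquare g.1.det) : LGo g ∈ Om QO := by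
  have hle : (Om (Qp r F)).map liftQ ≤ Om QO := by
    rw [Om, Om, _root_.commutator_def, _root_.commutator_def, Subgroup.map_commutator]
    exact Subgroup.commutator_mono le_top le_top
  exact hle ⟨_, lq_mem hr hg, rfl⟩

/-- The element interchanging one pair and negating the anisotropic line. -/
theorem exists_flip (i : Fin r) : ∃ n ∈ Om QO, n * n = 1 ∧
    (∀ v : Fin r → F, v i = 0 → n.1 (evo v) = evo v ∧ n.1 (fvo v) = fvo v) ∧
    n.1 (evo (Pi.single i 1)) = -fvo (Pi.single i 1) ∧ n.1 (fvo (Pi.single i 1)) = -evo (Pi.single i 1) ∧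
    ∀ t, n.1 (zvo t) = zvo (-t) := by
  classical
  set v0 : Unit ⊕ (Fin r ⊕ Fin r) → F := evo (Pi.single i 1) + fvo (Pi.single i 1) with hv0
  have hpv : ∀ x, polar QO v0 x = x (Sum.inr (Sum.inr i)) + x (Sum.inr (Sum.inl i)) := fun x => by
    rw [hv0, polar_add_left, polar_evo, polar_fvo]
    simp [dotProduct, Pi.single_apply]
  have hQv : QO v0 = 1 := by
    rw [hv0, QuadraticMap.map_add QO, qo_evo, qo_fvo, polar_evo]
    simp [fvo, dotProduct, Pi.single_apply]
  have hQv' : QO v0 ≠ 0 := by rw [hQv]; exact one_ne_zero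
  set z1 : Unit ⊕ (Fin r ⊕ Fin r) → F := zvo 1 with hz1def
  have hQz : QO z1 = 1 := by rw [hz1def, qo_zvo, one_mul]
  have hz1 : QO z1 ≠ 0 := by rw [hQz]; exact one_ne_zero
  have hperp : polar QO v0 z1 = 0 := by rw [hpv]; simp [hz1def, zvo]
  have happ : ∀ x, (refl QO hQv' * refl QO hz1).1 x = x + (-polar QO v0 x) • v0 + (-polar QO z1 x) • z1 := fun x => by
    rw [mul_app, refl_apply, refl_apply, hQv, hQz, inv_one, one_mul, one_mul, polar_add_right,
      polar_smul_right, hperp, smul_zero, add_zero]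
    abel
  refine ⟨refl QO hQv' * refl QO hz1, ?_, ?_, fun v hv => ⟨?_, ?_⟩, ?_, ?_, fun t => ?_⟩
  · obtain ⟨p, w, p', w', -, -, -, -, e⟩ := level_move (CfsgLib.StdQuadForms.Qo_nondeg h2 r)
      (by have := dim_ge_odd (F := F) hr; omega) (fun h => hQv' (by rw [h, QuadraticMap.map_zero]))
      (fun h => hz1 (by rw [h, QuadraticMap.map_zero])) (show QO v0 = QO z1 by rw [hQv, hQz])
    set γ := eg QO p' w' * eg QO p w
    have hz1' : QO (γ.1 v0) ≠ 0 := by rw [γ.2]; exact hQv'
    have hc : refl QO hz1 = γ * refl QO hQv' * γ⁻¹ := by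
      rw [conj_refl QO γ hQv' hz1']
      congr 1
      exact e.symm
    rw [hc, show refl QO hQv' * (γ * refl QO hQv' * γ⁻¹) =
      refl QO hQv' * γ * (refl QO hQv')⁻¹ * γ⁻¹ by rw [refl_inv]; group]
    exact Subgroup.commutator_mem_commutator (Subgroup.mem_top _) (Subgroup.mem_top _)
  · refine iso_ext _ fun x => ?_
    rw [mul_app, one_app, happ, happ]
    simp only [polar_add_right, polar_smul_right, CfsgLib.ReflectionGen.pol_self, hQv, hQz, hperp,
      polar_comm QO z1 v0, smul_eq_mul]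
    match_scalars <;> ring
  · rw [happ, hpv, hz1def, polar_zvo]; simp [evo, hv]
  · rw [happ, hpv, hz1def, polar_zvo]; simp [fvo, hv]
  · rw [happ, hpv, hz1def, polar_zvo]
    simp [evo, hv0]
  · rw [happ, hpv, hz1def, polar_zvo]
    simp [fvo, hv0]
  · rw [happ, hpv, hz1def, polar_zvo]
    funext s
    rcases s with u | u <;> simp [zvo]
    ring

end omega

end CfsgLib.OrthDeg
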