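import Mathlib
import Cfsg.Agent.Lib.OrthDeg.OddModel
import Cfsg.Agent.Lib.OrthDeg.Engine
import Cfsg.Agent.Lib.OrthDeg.AltCount
import Cfsg.Agent.Lib.OrthDeg.Shift

/-! The covering elements of the odd-dimensional group acting on one isotypic part of the radical. -/

set_option autoImplicit false
set_option maxHeartbeats 800000

namespace CfsgLib.OrthDeg

open Matrix QuadraticMap CfsgLib.WittExtension CfsgLib.OmegaMin CfsgLib.RadicalBound
open CfsgLib.StdQuadForms (Qo)

local notation "ψ" => CfsgLib.SympWeil.ψ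

variable {F : Type*} [Field F] [Fintype F] [DecidableEq F] {r : ℕ} (h2 : (2 : F) ≠ 0) (hr : 3 ≤ r)

/-- The radical inside the derived group. -/
noncomputable def fO (B : Alt F r) : Om (Qo (F := F) r) := ⟨zBo B, zBo_mem h2 hr B⟩

/-- The covering elements inside the derived group. -/
noncomputable def uO (v : Fin r → F) (t : F) : Om (Qo (F := F) r) := ⟨EUo v t, EUo_mem h2 hr v t⟩

theorem fO_add (A B : Alt F r) : fO h2 hr (A + B) = fO h2 hr A * fO h2 hr B :=
  Subtype.ext (zBo_add A B)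

variable {k : ℕ} (ρ : Representation ℂ (Om (Qo (F := F) r)) (Fin k → ℂ))

/-- The projection to a character of the radical. -/
noncomputable def PO (C : Alt F r) : Module.End ℂ (Fin k → ℂ) :=
  RadicalBound.proj (fO h2 hr) ρ (chi C)

/-- The multiplicity of a character of the radical. -/
noncomputable def mO (C : Alt F r) : ℕ := mult (fO h2 hr) ρ (chi C)

theorem mO_eq (C : Alt F r) : mO h2 hr ρ C = Module.finrank ℂ (LinearMap.range (PO h2 hr ρ C)) := rfl

theorem PO_mul [DecidableEq (Alt F r)] (C C' : Alt F r) :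
    PO h2 hr ρ C * PO h2 hr ρ C' = if C = C' then PO h2 hr ρ C' else 0 := by
  classical
  rw [PO, PO, proj_mul (fO h2 hr) ρ (fO_add h2 hr)]
  by_cases h : C = C'
  · rw [if_pos h, if_pos (congrArg chi h)]
  · rw [if_neg h, if_neg fun e => h (chi_bijective.1 e)]

theorem sum_PO : ∑ C, PO h2 hr ρ C = 1 := by
  rw [← sum_proj (fO h2 hr) ρ (fO_add h2 hr),
    ← (Equiv.ofBijective chi chi_bijective).sum_comp fun χ => RadicalBound.proj (fO h2 hr) ρ χ]
  rfl

theorem rho_PO (C B : Alt F r) : ρ (fO h2 hr B) * PO h2 hr ρ C = chi C B • PO h2 hr ρ C :=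
  eig_proj (fO h2 hr) (fO_add h2 hr) ρ (chi C) B

theorem PO_rho (C B : Alt F r) : PO h2 hr ρ C * ρ (fO h2 hr B) = chi C B • PO h2 hr ρ C := by
  rw [← rho_PO]
  exact (proj_comm (fO h2 hr) ρ (fO_add h2 hr) _ (AddEquiv.refl _)
    (fun S => by rw [AddEquiv.refl_apply, ← fO_add, ← fO_add, add_comm]) _ fun S => rfl).symm

/-- A vector fixed by the radical lies in the fixed space. -/
theorem mem_PO_zero {x : Fin k → ℂ} (h : ∀ B, ρ (fO h2 hr B) x = x) : PO h2 hr ρ 0 x = x := by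
  have e : PO h2 hr ρ 0 = (Fintype.card (Alt F r) : ℂ)⁻¹ • ∑ B, ρ (fO h2 hr B) := by
    rw [PO, RadicalBound.proj, chi_zero]
    simp [AddChar.one_apply]
  rw [e, LinearMap.smul_apply, LinearMap.sum_apply, Finset.sum_congr rfl fun B _ => h B, Finset.sum_const,
    Finset.card_univ, ← Nat.cast_smul_eq_nsmul ℂ, smul_smul,
    inv_mul_cancel₀ (Nat.cast_ne_zero.2 Fintype.card_ne_zero), one_smul]

/-- The stabiliser of an isotypic part. -/
noncomputable def NrO (C : Alt F r) : Submonoid (Om (Qo (F := F) r)) where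
  carrier := {g | ρ g * PO h2 hr ρ C = PO h2 hr ρ C * ρ g}
  one_mem' := by simp
  mul_mem' {g h} hg hh := by
    show ρ (g * h) * _ = _ * ρ (g * h)
    rw [map_mul, mul_assoc, show ρ h * PO h2 hr ρ C = PO h2 hr ρ C * ρ h from hh, ← mul_assoc,
      show ρ g * PO h2 hr ρ C = PO h2 hr ρ C * ρ g from hg, mul_assoc]

/-- The operators of the stabiliser on the isotypic part. -/
noncomputable def rpo (C : Alt F r) : NrO h2 hr ρ C →* Module.End ℂ (LinearMap.range (PO h2 hr ρ C)) where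
  toFun g := (ρ g.1).restrict (p := LinearMap.range (PO h2 hr ρ C)) (q := LinearMap.range (PO h2 hr ρ C)) (by
    rintro _ ⟨x, rfl⟩
    exact ⟨ρ g.1 x, (LinearMap.congr_fun g.2 x).symm⟩)
  map_one' := LinearMap.ext fun x => Subtype.ext (by
    show ρ (1 : Om (Qo (F := F) r)) x.1 = x.1
    rw [map_one]; rfl)
  map_mul' g h := LinearMap.ext fun x => Subtype.ext (by
    show ρ (g.1 * h.1) x.1 = ρ g.1 (ρ h.1 x.1)
    rw [map_mul]; rfl)

theorem rpo_coe (C : Alt F r) (g : NrO h2 hr ρ C) (x : LinearMap.range (PO h2 hr ρ C)) :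
    (rpo h2 hr ρ C g x).1 = ρ g.1 x.1 := rfl

theorem fO_nrm (C B : Alt F r) : fO h2 hr B ∈ NrO h2 hr ρ C :=
  proj_comm (fO h2 hr) ρ (fO_add h2 hr) _ (AddEquiv.refl _)
    (fun S => by rw [AddEquiv.refl_apply, ← fO_add, ← fO_add, add_comm]) _ fun S => rfl

theorem uO_nrm (C : Alt F r) (v : Fin r → F) (t : F) : uO h2 hr v t ∈ NrO h2 hr ρ C :=
  proj_comm (fO h2 hr) ρ (fO_add h2 hr) _ (AddEquiv.refl _)
    (fun S => Subtype.ext (zBo_EUo S v t).symm) _ fun S => rfl

/-- The radical on an isotypic part. -/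
noncomputable def zzo (C B : Alt F r) : NrO h2 hr ρ C := ⟨fO h2 hr B, fO_nrm h2 hr ρ C B⟩

/-- The covering elements on an isotypic part. -/
noncomputable def uuo (C : Alt F r) (v : Fin r → F) (t : F) : NrO h2 hr ρ C :=
  ⟨uO h2 hr v t, uO_nrm h2 hr ρ C v t⟩

/-- The operators of the covering elements. -/
noncomputable def Eo (C : Alt F r) (v : Fin r → F) (t : F) :
    Module.End ℂ (LinearMap.range (PO h2 hr ρ C)) := rpo h2 hr ρ C (uuo h2 hr ρ C v t)

theorem rpo_zzo (C B : Alt F r) : rpo h2 hr ρ C (zzo h2 hr ρ C B) = (chi C B : ℂ) • 1 := by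
  refine LinearMap.ext fun x => Subtype.ext ?_
  obtain ⟨y, hy⟩ := x.2
  show ρ (fO h2 hr B) x.1 = chi C B • x.1
  rw [← hy, ← Module.End.mul_apply]
  exact LinearMap.congr_fun (rho_PO h2 hr ρ C B) y

theorem Eo_add (C : Alt F r) (v : Fin r → F) (s t : F) :
    Eo h2 hr ρ C v (s + t) = Eo h2 hr ρ C v s * Eo h2 hr ρ C v t := by
  rw [Eo, Eo, Eo, ← map_mul]
  congr 1
  exact Subtype.ext (Subtype.ext (EUo_add v s t))

theorem Eo_zero (C : Alt F r) (v : Fin r → F) : Eo h2 hr ρ C v 0 = 1 := by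
  rw [Eo, show uuo h2 hr ρ C v 0 = 1 from Subtype.ext (Subtype.ext (EUo_zero v)), map_one]

theorem Eo_smul (C : Alt F r) (c : F) (v : Fin r → F) (t : F) :
    Eo h2 hr ρ C (c • v) t = Eo h2 hr ρ C v (c * t) := by
  rw [Eo, Eo, show uuo h2 hr ρ C (c • v) t = uuo h2 hr ρ C v (c * t) from
    Subtype.ext (Subtype.ext (EUo_smul c v t))]

theorem Eo_comm (C : Alt F r) (v v' : Fin r → F) (t t' : F) :
    Eo h2 hr ρ C v t * Eo h2 hr ρ C v' t' =
      (ψ : AddChar F ℂ) (-(2 * (t * t')) * bf C v v') • (Eo h2 hr ρ C v' t' * Eo h2 hr ρ C v t) := by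
  rw [← show chi C ((-(2 * (t * t'))) • wedge v v') = (ψ : AddChar F ℂ) (-(2 * (t * t')) * bf C v v') by
      rw [chi_apply, pair_smul, pair_wedge], Eo, Eo, ← map_mul, ← map_mul,
    ← mul_one (rpo h2 hr ρ C (uuo h2 hr ρ C v' t' * _)),
    ← mul_smul_comm, show uuo h2 hr ρ C v t * uuo h2 hr ρ C v' t' =
      zzo h2 hr ρ C ((-(2 * (t * t'))) • wedge v v') * (uuo h2 hr ρ C v' t' * uuo h2 hr ρ C v t)
      from Subtype.ext (Subtype.ext ((EUo_comm v v' t t').trans (mul_assoc _ _ _))), map_mul, rpo_zzo,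
    smul_mul_assoc, one_mul, mul_smul_comm, mul_one]

theorem Eo_unit (C : Alt F r) (v : Fin r → F) (t : F) :
    Eo h2 hr ρ C v t * Eo h2 hr ρ C v (-t) = 1 := by
  rw [← Eo_add, add_neg_cancel, Eo_zero]

/-- A character of the line. -/
noncomputable def lchar (d u : F) : AddChar F ℂ :=
  ⟨fun t => (ψ : AddChar F ℂ) (-(2 * (t * u)) * d), by simp,
    fun s t => by rw [← AddChar.map_add_eq_mul]; congr 1; ring⟩

theorem lchar_apply (d u t : F) : lchar d u t = (ψ : AddChar F ℂ) (-(2 * (t * u)) * d) := rfl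

include h2 in
theorem lchar_bijective {d : F} (hd : d ≠ 0) : Function.Bijective (lchar d) := by
  classical
  refine (Fintype.bijective_iff_injective_and_card _).2 ⟨fun u u' h => ?_, (AddChar.card_eq (α := F)).symm⟩
  by_contra hne
  obtain ⟨x, hx⟩ := CfsgLib.SympWeil.ψ_ne (show 2 * d * (u' - u) ≠ 0 from
    mul_ne_zero (mul_ne_zero h2 hd) (sub_ne_zero.2 (Ne.symm hne)))
  apply hx
  have e := DFunLike.congr_fun h x
  rw [lchar_apply, lchar_apply] at e
  rw [show 2 * d * (u' - u) * x = -(2 * (x * u)) * d + -(-(2 * (x * u')) * d) by ring, AddChar.map_add_eq_mul, e,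
    ← AddChar.map_add_eq_mul, add_neg_cancel, AddChar.map_zero_eq_one]

theorem Eo_shift (C : Alt F r) {v p : Fin r → F} (u t : F) :
    Eo h2 hr ρ C v t * Eo h2 hr ρ C p u =
      lchar (bf C v p) u t • (Eo h2 hr ρ C p u * Eo h2 hr ρ C v t) := by
  rw [Eo_comm, lchar_apply]

/-- An occurring non-trivial character has multiplicity divisible by the field order. -/
theorem mO_dvd (C : Alt F r) {v p : Fin r → F} (hvp : bf C v p ≠ 0) : Fintype.card F ∣ mO h2 hr ρ C := by
  have h := shift_dim (Eo h2 hr ρ C v) (Eo_zero h2 hr ρ C v) (Eo_add h2 hr ρ C v)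
    (fun u => Eo h2 hr ρ C p u) (fun u => Eo h2 hr ρ C p (-u)) (fun u => lchar (bf C v p) u)
    (Eo_unit h2 hr ρ C p) (fun u t => Eo_shift h2 hr ρ C u t) (lchar_bijective h2 hvp).2 1
  exact ⟨_, h.symm⟩

/-- Two orthogonal regular systems give the square. -/
theorem mO_dvd_two (C : Alt F r) {v p v' p' : Fin r → F} (hvp : bf C v p ≠ 0) (hvp' : bf C v' p' ≠ 0)
    (h00 : bf C v v' = 0) (h01 : bf C v p' = 0) (h10 : bf C v' p = 0) :
    Fintype.card F ^ 2 ∣ mO h2 hr ρ C := by
  have hcomm : ∀ s t, Eo h2 hr ρ C v s * Eo h2 hr ρ C v' t = Eo h2 hr ρ C v' t * Eo h2 hr ρ C v s := by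
    intro s t; rw [Eo_comm, h00, mul_zero, AddChar.map_zero_eq_one, one_smul]
  let A : F × F → Module.End ℂ (LinearMap.range (PO h2 hr ρ C)) :=
    fun x => Eo h2 hr ρ C v x.1 * Eo h2 hr ρ C v' x.2
  let H : F × F → Module.End ℂ (LinearMap.range (PO h2 hr ρ C)) :=
    fun x => Eo h2 hr ρ C p x.1 * Eo h2 hr ρ C p' x.2
  let c : F × F → AddChar (F × F) ℂ := fun x =>
    (lchar (bf C v p) x.1).compAddMonoidHom (AddMonoidHom.fst _ _) *
      (lchar (bf C v' p') x.2).compAddMonoidHom (AddMonoidHom.snd _ _)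
  have hca : ∀ x y, c x y = lchar (bf C v p) x.1 y.1 * lchar (bf C v' p') x.2 y.2 := fun x y => rfl
  have hc : Function.Surjective c := by
    refine (((Fintype.bijective_iff_injective_and_card _).2 ⟨fun x y h => ?_, ?_⟩).2)
    · refine Prod.ext ((lchar_bijective h2 hvp).1 (DFunLike.ext _ _ fun w => ?_))
        ((lchar_bijective h2 hvp').1 (DFunLike.ext _ _ fun w => ?_))
      · simpa [hca] using DFunLike.congr_fun h (w, 0)
      · simpa [hca] using DFunLike.congr_fun h (0, w)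
    · exact (AddChar.card_eq (α := F × F)).symm
  have h := shift_dim A (by simp [A, Eo_zero]) (fun x y => by
      simp only [A, Prod.fst_add, Prod.snd_add, Eo_add]
      rw [mul_assoc, ← mul_assoc (Eo h2 hr ρ C v y.1), hcomm, mul_assoc, ← mul_assoc])
    H (fun x => Eo h2 hr ρ C p' (-x.2) * Eo h2 hr ρ C p (-x.1)) c (fun x => by
      show _ * _ * (_ * _) = 1
      rw [mul_assoc, ← mul_assoc (Eo h2 hr ρ C p' x.2), Eo_unit, one_mul, Eo_unit]) (fun x y => by
      show Eo h2 hr ρ C v y.1 * Eo h2 hr ρ C v' y.2 * (Eo h2 hr ρ C p x.1 * Eo h2 hr ρ C p' x.2) = _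
      rw [mul_assoc, ← mul_assoc (Eo h2 hr ρ C v' y.2), Eo_comm h2 hr ρ C v' p, h10, mul_zero,
        AddChar.map_zero_eq_one, one_smul, mul_assoc, Eo_shift, mul_smul_comm, mul_smul_comm,
        ← mul_assoc, Eo_shift, smul_mul_assoc, smul_smul, mul_assoc (Eo h2 hr ρ C p x.1),
        ← mul_assoc (Eo h2 hr ρ C v y.1), Eo_comm h2 hr ρ C v p', h01, mul_zero, AddChar.map_zero_eq_one,
        one_smul, hca, mul_comm (lchar (bf C v p) x.1 y.1)]
      simp only [A, H, mul_assoc]) hc 1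
  rw [Fintype.card_prod, ← _root_.sq] at h
  exact ⟨_, h.symm⟩

/-- A Levi element inside the derived group. -/
noncomputable def lO (g : GL (Fin r) F) (hg : IsSquare g.1.det) : Om (Qo (F := F) r) :=
  ⟨LGo g, LGo_mem hr hg⟩

theorem lO_mul (g h : GL (Fin r) F) (hg : IsSquare g.1.det) (hh : IsSquare h.1.det) (hgh : IsSquare (g * h).1.det) :
    lO hr (g * h) hgh = lO hr g hg * lO hr h hh := Subtype.ext (LGo_mul g h)

/-- Congruence as an additive equivalence. -/
noncomputable def cgo (g : GL (Fin r) F) : Alt F r ≃+ Alt F r :=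
  AddEquiv.ofBijective (act g.1ᵀ).toAddMonoidHom (Finite.injective_iff_bijective.1
    (act_injective (by rw [det_transpose]; exact Matrix.GeneralLinearGroup.det_ne_zero g)))

theorem lO_move (g : GL (Fin r) F) (hg : IsSquare g.1.det) (C : Alt F r) :
    ρ (lO hr g hg) * PO h2 hr ρ (act g.1 C) = PO h2 hr ρ C * ρ (lO hr g hg) :=
  proj_conj (fO h2 hr) ρ (lO hr g hg) (cgo g) (fun S => Subtype.ext (LGo_zBo g S)) _ _ fun S => by
    show chi C (act g.1ᵀ S) = _
    rw [chi_apply, chi_apply, pair_act]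

theorem mO_act (g : GL (Fin r) F) (hg : IsSquare g.1.det) (C : Alt F r) :
    mO h2 hr ρ (act g.1 C) = mO h2 hr ρ C :=
  mult_conj (fO h2 hr) ρ (fO_add h2 hr) (lO hr g hg) (cgo g) (fun S => Subtype.ext (LGo_zBo g S)) _ _ fun S => by
    show chi C (act g.1ᵀ S) = _
    rw [chi_apply, chi_apply, pair_act]

theorem mO_sl (g : Matrix (Fin r) (Fin r) F) (hg : g.det = 1) (C : Alt F r) :
    mO h2 hr ρ (act g C) = mO h2 hr ρ C :=
  mO_act h2 hr ρ (Matrix.GeneralLinearGroup.mkOfDetNeZero g (by rw [hg]; exact one_ne_zero))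
    (by show IsSquare g.det; rw [hg]; exact IsSquare.one) C

theorem lO_nrm (g : GL (Fin r) F) (hg : IsSquare g.1.det) {C : Alt F r} (h : act g.1 C = C) :
    lO hr g hg ∈ NrO h2 hr ρ C := by
  have := lO_move h2 hr ρ g hg C
  rwa [h] at this

theorem sl_sq_det (g : SpecialLinearGroup (Fin r) F) : IsSquare (SpecialLinearGroup.toGL g).1.det := by
  rw [show (SpecialLinearGroup.toGL g).1.det = 1 from g.2]; exact IsSquare.one

/-- The special linear group inside the derived group. -/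
noncomputable def slO : SpecialLinearGroup (Fin r) F →* Om (Qo (F := F) r) where
  toFun g := lO hr (SpecialLinearGroup.toGL g) (sl_sq_det g)
  map_one' := Subtype.ext (by
    show LGo (SpecialLinearGroup.toGL (1 : SpecialLinearGroup (Fin r) F)) = 1
    rw [map_one, LGo_one])
  map_mul' g h := Subtype.ext (by
    show LGo (SpecialLinearGroup.toGL (g * h)) =
      LGo (SpecialLinearGroup.toGL g) * LGo (SpecialLinearGroup.toGL h)
    rw [map_mul, LGo_mul])

theorem slO_coe (g : SpecialLinearGroup (Fin r) F) :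
    slO hr g = lO hr (SpecialLinearGroup.toGL g) (sl_sq_det g) := rfl

theorem slO_nrm (g : SpecialLinearGroup (Fin r) F) {C : Alt F r} (h : act g.1 C = C) :
    slO hr g ∈ NrO h2 hr ρ C := lO_nrm h2 hr ρ (SpecialLinearGroup.toGL g) (sl_sq_det g) h

/-- The representation on the fixed space. -/
noncomputable def τO : Representation ℂ (SpecialLinearGroup (Fin r) F) (LinearMap.range (PO h2 hr ρ 0)) :=
  (rpo h2 hr ρ 0).comp ((slO hr).codRestrict (NrO h2 hr ρ 0) fun g => slO_nrm h2 hr ρ g (map_zero _))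

theorem τO_coe (g : SpecialLinearGroup (Fin r) F) (x : LinearMap.range (PO h2 hr ρ 0)) :
    (τO h2 hr ρ g x).1 = ρ (slO hr g) x.1 := rfl

end CfsgLib.OrthDeg
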