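import Mathlib
import Cfsg.Agent.Lib.SLMin.Main
import Cfsg.Agent.Lib.OrthDeg.Shift

/-! The fixed space of the upper unitriangular group in small modules of special linear groups. -/

set_option autoImplicit false
set_option maxHeartbeats 800000

namespace CfsgLib.OrthDeg

open Matrix CfsgLib.SLMin CfsgLib.RadicalBound

variable {F : Type*} [Field F] [Fintype F] [DecidableEq F]

/-- Upper unitriangular matrices. -/
def IsUni {n : ℕ} (M : Matrix (Fin n) (Fin n) F) : Prop :=
  (∀ i, M i i = 1) ∧ ∀ i j, j < i → M i j = 0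

/-- The vectors fixed by the upper unitriangular group. -/
noncomputable def ufix {n : ℕ} {W : Type*} [AddCommGroup W] [Module ℂ W]
    (ρ : Representation ℂ (SpecialLinearGroup (Fin n) F) W) : Submodule ℂ W where
  carrier := {x | ∀ g, IsUni g.1 → ρ g x = x}
  add_mem' {x y} hx hy g hg := by rw [map_add, hx g hg, hy g hg]
  zero_mem' g _ := map_zero _
  smul_mem' c x hx g hg := by rw [map_smul, hx g hg]

variable {l : ℕ}

omit [Fintype F] [DecidableEq F] in
theorem isUni_tx (b : Fin l → F) : IsUni (tx b).1 := by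
  rw [tx_coe]
  refine ⟨fun i => ?_, fun i j h => ?_⟩
  · induction i using Fin.cases <;> simp [blkM_00, blkM_ss]
  · induction i using Fin.cases with
    | zero => exact absurd h (Fin.not_lt_zero j)
    | succ i' =>
      induction j using Fin.cases with
      | zero => simp [blkM_s0]
      | succ j' => rw [blkM_ss, Matrix.one_apply_ne (fun e => by simp [e] at h)]

omit [Fintype F] [DecidableEq F] in
theorem isUni_emb {A : SpecialLinearGroup (Fin l) F} (hA : IsUni A.1) : IsUni (emb A).1 := by
  rw [emb_coe]
  refine ⟨fun i => ?_, fun i j h => ?_⟩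
  · induction i using Fin.cases <;> simp [blkM_00, blkM_ss, hA.1]
  · induction i using Fin.cases with
    | zero => exact absurd h (Fin.not_lt_zero j)
    | succ i' =>
      induction j using Fin.cases with
      | zero => simp [blkM_s0]
      | succ j' => rw [blkM_ss, hA.2 i' j' (Fin.succ_lt_succ_iff.1 h)]

omit [Fintype F] [DecidableEq F] in
/-- An upper unitriangular matrix is a product of the first row and the smaller matrix. -/
theorem uni_split {g : SpecialLinearGroup (Fin (l + 1)) F} (hg : IsUni g.1) :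
    ∃ (b : Fin l → F) (A : SpecialLinearGroup (Fin l) F), IsUni A.1 ∧ g = emb A * tx b := by
  have e : g.1 = blkM 1 (fun j => g.1 0 j.succ) (g.1.submatrix Fin.succ Fin.succ) := by
    ext i j
    induction i using Fin.cases with
    | zero =>
      induction j using Fin.cases with
      | zero => rw [blkM_00, hg.1]
      | succ j' => rw [blkM_0s]
    | succ i' =>
      induction j using Fin.cases with
      | zero => rw [blkM_s0, hg.2 _ _ (Fin.succ_pos i')]
      | succ j' => rw [blkM_ss]; rfl
  have hdet : (g.1.submatrix Fin.succ Fin.succ).det = 1 := by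
    have := g.2
    rw [e, blkM_det, one_mul] at this
    exact this
  refine ⟨fun j => g.1 0 j.succ, ⟨g.1.submatrix Fin.succ Fin.succ, hdet⟩,
    ⟨fun i => hg.1 _, fun i j h => hg.2 _ _ (Fin.succ_lt_succ_iff.2 h)⟩, Subtype.ext ?_⟩
  show g.1 = blkM 1 0 (g.1.submatrix Fin.succ Fin.succ) * blkM 1 (fun j => g.1 0 j.succ) 1
  rw [blkM_mul]
  conv_lhs => rw [e]
  simp

variable {W : Type} [AddCommGroup W] [Module ℂ W] [FiniteDimensional ℂ W]
  (ρ : Representation ℂ (SpecialLinearGroup (Fin (l + 1)) F) W)

omit [FiniteDimensional ℂ W] in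
theorem pr_zero_fix {x : W} (h : ∀ b, ρ (tx b) x = x) : pr ρ 0 x = x := by
  simp only [pr, LinearMap.smul_apply, LinearMap.sum_apply, h]
  rw [Finset.sum_congr rfl fun b _ => (by rw [chv_apply, dotProduct_zero, AddChar.map_zero_eq_one, one_smul] :
      chv (0 : Fin l → F) (-b) • x = x), Finset.sum_const, Finset.card_univ, ← Nat.cast_smul_eq_nsmul ℂ, smul_smul,
    inv_mul_cancel₀ (Nat.cast_ne_zero.2 Fintype.card_ne_zero), one_smul]

omit [FiniteDimensional ℂ W] in
theorem tx_fix_range {x : W} (h : x ∈ LinearMap.range (pr ρ 0)) (b : Fin l → F) : ρ (tx b) x = x := by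
  obtain ⟨y, rfl⟩ := h
  rw [← Module.End.mul_apply, rho_pr, dotProduct_zero, AddChar.map_zero_eq_one, one_smul]

omit [FiniteDimensional ℂ W] in
/-- The fixed space comes from the fixed space of the smaller group. -/
theorem ufix_eq : ufix ρ = (ufix (rep0 ρ)).map (LinearMap.range (pr ρ 0)).subtype := by
  refine le_antisymm (fun x hx => ?_) ?_
  · have hmem : x ∈ LinearMap.range (pr ρ 0) := ⟨x, pr_zero_fix ρ fun b => hx _ (isUni_tx b)⟩
    exact ⟨⟨x, hmem⟩, fun A hA => Subtype.ext (hx _ (isUni_emb hA)), rfl⟩
  · rintro _ ⟨y, hy, rfl⟩ g hg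
    obtain ⟨b, A, hA, rfl⟩ := uni_split hg
    show ρ (emb A * tx b) y.1 = y.1
    rw [map_mul, Module.End.mul_apply, tx_fix_range ρ y.2 b]
    exact congrArg Subtype.val (hy A hA)

omit [FiniteDimensional ℂ W] in
theorem finrank_ufix : Module.finrank ℂ (ufix ρ) = Module.finrank ℂ (ufix (rep0 ρ)) := by
  rw [ufix_eq, Submodule.finrank_map_subtype_eq]

theorem trace_rep0_eq (A : SpecialLinearGroup (Fin l) F) :
    LinearMap.trace ℂ _ (rep0 ρ A) = LinearMap.trace ℂ W (ρ (emb A) * pr ρ 0) := by
  have e : ρ (emb A) * pr ρ 0 = pr ρ 0 * ρ (emb A) := lev_pr ρ 1 A.1 (by rw [one_mul]; exact A.2) (by simp)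
  have hmem : ∀ x, (ρ (emb A) * pr ρ 0) x ∈ LinearMap.range (pr ρ 0) := fun x => by
    rw [e]; exact LinearMap.mem_range_self _ _
  rw [← LinearMap.trace_restrict_eq_of_forall_mem _ _ hmem]
  congr 1
  refine LinearMap.ext fun x => Subtype.ext ?_
  obtain ⟨y, hy⟩ := x.2
  show ρ (emb A) x.1 = ρ (emb A) ((pr ρ 0) x.1)
  rw [← hy]
  congr 1
  have h := LinearMap.congr_fun (pr_mul ρ 0 0) y
  rw [if_pos rfl, Module.End.mul_apply] at h
  exact h.symm

/-- The fixed space of the upper unitriangular group of a module with smallest transvection defect. -/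
theorem ufix_bound (hq : 4 < Fintype.card F) : ∀ (l : ℕ), 2 ≤ l → ∀ (W : Type) [AddCommGroup W] [Module ℂ W]
    [FiniteDimensional ℂ W] (ρ : Representation ℂ (SpecialLinearGroup (Fin (l + 1)) F) W) (s : ℕ),
    Module.finrank ℂ W + 1 = gs (Fintype.card F) (l + 1) + s →
    (∀ b : Fin l → F, b ≠ 0 →
      LinearMap.trace ℂ W (ρ (tx b)) = (Module.finrank ℂ W : ℂ) - (Fintype.card F : ℂ) ^ l) →
    1 ≤ Module.finrank ℂ (ufix ρ) ∧ Module.finrank ℂ (ufix ρ) ≤ l + s := by
  intro l
  induction l with
  | zero => omega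
  | succ l' IH =>
    intro hl W _ _ _ ρ s hdim htr
    classical
    set q := Fintype.card F with hqdef
    -- all non-trivial characters occur once
    set a1 : Fin (l' + 1) → F := Pi.single 0 1
    have ha1 : a1 ≠ 0 := by simp [a1]
    have he' : ∀ a : Fin (l' + 1) → F, a ≠ 0 → dm ρ a = dm ρ a1 := fun a ha =>
      dm_const ρ (trans_two hl) ha ha1
    have hk := finrank_eq ρ _ he'
    have he1 : dm ρ a1 = 1 := by
      have h := trace_tx ρ _ he' ha1
      rw [htr a1 ha1, hk, ← hqdef] at h
      have hq1 : 1 ≤ q ^ (l' + 1) := Nat.one_le_pow _ _ (by omega)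
      push_cast [Nat.cast_sub hq1] at h
      have h' : ((dm ρ a1 : ℂ) - 1) * (q : ℂ) ^ (l' + 1) = 0 := by linear_combination h
      rcases mul_eq_zero.1 h' with h | h
      · exact_mod_cast sub_eq_zero.1 h
      · exact absurd h (pow_ne_zero _ (Nat.cast_ne_zero.2 (by omega)))
    have he : ∀ a : Fin (l' + 1) → F, a ≠ 0 → dm ρ a = 1 := fun a ha => (he' a ha).trans he1
    rw [he1, one_mul, ← hqdef] at hk
    have hgs := gs_geom (q := q) (by omega) (l' + 1)
    have hgs' := gs_succ q (l' + 1)
    have hq1 : 1 ≤ q ^ (l' + 1) := Nat.one_le_pow _ _ (by omega)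
    have hdm : dm ρ 0 + 1 = gs q (l' + 1) + (s + 1) := by
      obtain ⟨p, hp⟩ : ∃ p, q = p + 1 := ⟨q - 1, by omega⟩
      rw [hp, Nat.add_sub_cancel] at hgs
      rw [hp] at hk hdim hgs' hq1 ⊢
      rw [hgs'] at hdim
      rw [add_mul, one_mul] at hdim
      omega
    -- the root elements of the Levi factor act trivially on the fixed characters
    have hlam : ∀ a : Fin (l' + 1) → F, a ≠ 0 → a ⟨1, by omega⟩ = 0 → ∀ t,
        LinearMap.trace ℂ W (ρ (emb (yT hl t)) * pr ρ a) = 1 := fun a ha h1 t => by
      refine lam_trivial ρ hl ?_ he ha h1 t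
      rcases (show l' + 1 = 2 ∨ l' + 1 = 3 ∨ 4 ≤ l' + 1 by omega) with h | h | h
      · refine Or.inl ⟨h, ?_⟩
        by_contra hcon
        push Not at hcon
        have hsub : (Finset.univ.erase (0 : F)) ⊆ (Polynomial.nthRoots 3 (1 : F)).toFinset := fun d hd => by
          rw [Multiset.mem_toFinset, Polynomial.mem_nthRoots (by norm_num)]
          exact hcon d (Finset.ne_of_mem_erase hd)
        have h3 := (Finset.card_le_card hsub).trans ((Multiset.toFinset_card_le _).trans
          (Polynomial.card_nthRoots 3 1))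
        rw [Finset.card_erase_of_mem (Finset.mem_univ _), Finset.card_univ, ← hqdef] at h3
        omega
      · refine Or.inr (Or.inl ⟨h, ?_⟩)
        by_contra hcon
        push Not at hcon
        have hsub : (Finset.univ.erase (0 : F)) ⊆ (Polynomial.nthRoots 2 (1 : F)).toFinset := fun d hd => by
          rw [Multiset.mem_toFinset, Polynomial.mem_nthRoots (by norm_num), sq]
          exact hcon d (Finset.ne_of_mem_erase hd)
        have h3 := (Finset.card_le_card hsub).trans ((Multiset.toFinset_card_le _).trans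
          (Polynomial.card_nthRoots 2 1))
        rw [Finset.card_erase_of_mem (Finset.mem_univ _), Finset.card_univ, ← hqdef] at h3
        omega
      · exact Or.inr (Or.inr h)
    rw [finrank_ufix]
    rcases (show l' = 1 ∨ 2 ≤ l' by omega) with rfl | hl'
    · -- the case of SL2
      let A : F → Module.End ℂ (LinearMap.range (pr ρ 0)) := fun t => rep0 ρ (yT hl t)
      have hA : ∀ u v, A (u + v) = A u * A v := fun u v => by simp only [A, yT_add, map_mul]
      have hA0 : A 0 = 1 := by
        simp only [A]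
        rw [show yT (F := F) hl 0 = 1 from Subtype.ext (by
          show 1 + vecMulVec _ _ = 1
          simp), map_one]
      have hfix : ufix (rep0 ρ) = LinearMap.range (pA A 1) := by
        refine le_antisymm (fun x hx => ?_) ?_
        · refine ⟨x, ?_⟩
          have hAx : ∀ t, A t x = x := fun t => hx _ (by
            refine ⟨fun i => ?_, fun i j h => ?_⟩
            · fin_cases i <;> simp [yT, vt_coe, vecMulVec_apply]
            · fin_cases i <;> fin_cases j <;> simp [yT, vt_coe, vecMulVec_apply] at h ⊢)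
          simp only [pA, LinearMap.smul_apply, LinearMap.sum_apply, AddChar.one_apply, one_smul, hAx]
          rw [Finset.sum_const, Finset.card_univ, ← Nat.cast_smul_eq_nsmul ℂ, smul_smul,
            inv_mul_cancel₀ (Nat.cast_ne_zero.2 Fintype.card_ne_zero), one_smul]
        · rintro _ ⟨y, rfl⟩ g hg
          have e : g = yT hl (g.1 0 1) := Subtype.ext (by
            ext i j
            fin_cases i <;> fin_cases j <;> simp [yT, vt_coe, vecMulVec_apply, hg.1, hg.2 1 0 (by decide)])
          rw [e]
          show (A _ * pA A 1) y = pA A 1 y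
          rw [A_pA A hA, AddChar.one_apply, one_smul]
      rw [hfix]
      set N := Module.finrank ℂ (LinearMap.range (pA A 1)) with hN
      have h1 : (N : ℂ) = LinearMap.trace ℂ _ (pA A 1) := (trace_pA A hA 1).symm
      have htrA : ∀ t ∈ Finset.univ.erase (0 : F),
          LinearMap.trace ℂ _ (A t) = (dm ρ 0 : ℂ) - (q : ℂ) := fun t ht => by
        simp only [A]
        rw [trace_rep0_eq, trace_rep0 ρ hl he hlam (Finset.ne_of_mem_erase ht), hqdef]
        simp
      simp only [pA, map_smul, map_sum, AddChar.one_apply, one_smul, smul_eq_mul] at h1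
      rw [← Finset.add_sum_erase _ _ (Finset.mem_univ (0 : F)), Finset.sum_congr rfl htrA, hA0,
        LinearMap.trace_one, finrank_rep0, Finset.sum_const, Finset.card_erase_of_mem (Finset.mem_univ _),
        Finset.card_univ, nsmul_eq_mul, ← hqdef, eq_inv_mul_iff_mul_eq₀ (Nat.cast_ne_zero.2 (by omega))] at h1
      push_cast [Nat.cast_sub (show 1 ≤ q by omega)] at h1
      have h2 : q * (N + q) = q * (dm ρ 0 + 1) := by
        apply Nat.cast_injective (R := ℂ)
        push_cast
        linear_combination h1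
      have h3 := Nat.eq_of_mul_eq_mul_left (by omega : 0 < q) h2
      have hg2 : gs q (1 + 1) = q + 1 := by simp [gs, Finset.sum_range_succ]; ring
      rw [hg2] at hdm
      omega
    · obtain ⟨l'', rfl⟩ : ∃ l'', l' = l'' + 1 := ⟨l' - 1, by omega⟩
      have := IH hl' (LinearMap.range (pr ρ 0)) (rep0 ρ) (s + 1) (by rw [finrank_rep0]; exact hdm) fun b hb => by
        have hconj : IsConj (tx b) (yT (F := F) hl 1) := by
          rw [tx_eq_vt, yT]
          refine isConj_vt (by simp; omega) _ _ (by simp) (fun h => hb (funext fun i => ?_)) (by simp) (by simp)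
          simpa using congrFun h i.succ
        obtain ⟨g, hg⟩ := isConj_iff.1 hconj
        have hc : LinearMap.trace ℂ _ (rep0 ρ (tx b)) = LinearMap.trace ℂ _ (rep0 ρ (yT hl 1)) := by
          show (rep0 ρ).character (tx b) = (rep0 ρ).character (yT hl 1)
          rw [← hg, (rep0 ρ).char_conj]
        rw [hc, trace_rep0_eq, trace_rep0 ρ hl he hlam one_ne_zero, finrank_rep0]
        simp [hqdef]
      omega

end CfsgLib.OrthDeg
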