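import Mathlib
import Cfsg.Agent.Lib.OrthDeg.SLUni
import Cfsg.Agent.Lib.SLPerfect

/-! The diagonal torus and the simple reflections of special linear groups acting on the fixed space of the
upper unitriangular group. -/

set_option autoImplicit false
set_option maxHeartbeats 800000

namespace CfsgLib.OrthDeg

open Matrix CfsgLib.SLMin
open CfsgLib.SLPerfect (mul_tr_apply tr_coe diag2n_eq comm_transvection)

variable {F : Type*} [Field F] {n : ℕ}

local notation "SLn" => Matrix.SpecialLinearGroup (Fin n) F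
local notation "TV" => Matrix.SpecialLinearGroup.transvection

theorem IsUni.mul {M N : Matrix (Fin n) (Fin n) F} (hM : IsUni M) (hN : IsUni N) : IsUni (M * N) := by
  refine ⟨fun i => ?_, fun i j h => ?_⟩
  · rw [Matrix.mul_apply, Finset.sum_eq_single i (fun k _ hk => ?_) (by simp), hM.1, hN.1, one_mul]
    rcases lt_or_gt_of_ne hk with h | h
    · rw [hM.2 i k h, zero_mul]
    · rw [hN.2 k i h, mul_zero]
  · rw [Matrix.mul_apply]
    refine Finset.sum_eq_zero fun k _ => ?_
    rcases lt_or_ge k i with hk | hk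
    · rw [hM.2 i k hk, zero_mul]
    · rw [hN.2 k j (lt_of_lt_of_le h hk), mul_zero]

theorem IsUni.mul_super {M N : Matrix (Fin n) (Fin n) F} (hM : IsUni M) (hN : IsUni N) {i j : Fin n}
    (h : j.val = i.val + 1) : (M * N) i j = M i j + N i j := by
  have hij : i ≠ j := fun e => by rw [e] at h; omega
  rw [Matrix.mul_apply, ← Finset.sum_subset (Finset.subset_univ {i, j}) (fun k _ hk => ?_), Finset.sum_pair hij,
    hM.1, hN.1, one_mul, mul_one, add_comm]
  simp only [Finset.mem_insert, Finset.mem_singleton, not_or] at hk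
  rcases lt_or_gt_of_ne hk.1 with h' | h'
  · rw [hM.2 i k h', zero_mul]
  · have : j < k := by
      rcases lt_or_gt_of_ne hk.2 with h'' | h''
      · have a1 : i.val < k.val := h'
        have a2 : k.val < j.val := h''
        omega
      · exact h''
    rw [hN.2 k j this, mul_zero]

theorem isUni_tv {i j : Fin n} (h : i < j) (t : F) : IsUni (TV h.ne t : SLn).1 := by
  rw [tr_coe]
  refine ⟨fun p => ?_, fun p q hqp => ?_⟩
  · rw [Matrix.add_apply, Matrix.one_apply_eq, Matrix.single_apply, if_neg, add_zero]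
    rintro ⟨rfl, e⟩
    exact h.ne e.symm
  · rw [Matrix.add_apply, Matrix.one_apply_ne hqp.ne', Matrix.single_apply, if_neg, add_zero]
    rintro ⟨rfl, rfl⟩
    exact absurd hqp h.not_gt

theorem tv_apply_super {i j : Fin n} (h : i ≠ j) (t : F) : (TV h t : SLn).1 i j = t := by
  rw [tr_coe]; simp [Matrix.one_apply_ne h]

/-- The weights of a torus element. -/
def wK (p q : Fin n) (t : Fˣ) : Fin n → F :=
  fun k => (if k = p then (t : F) else 1) * (if k = q then ((t⁻¹ : Fˣ) : F) else 1)

theorem wK_ne (p q : Fin n) (t : Fˣ) (k : Fin n) : wK p q t k ≠ 0 := by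
  unfold wK; split_ifs <;> simp

/-- Torus elements. -/
def tK (p q : Fin n) (t : Fˣ) : SLn :=
  ⟨diagonal (wK p q t), by rw [det_diagonal]; simp only [wK]; rw [Finset.prod_mul_distrib]; simp⟩

theorem tK_coe (p q : Fin n) (t : Fˣ) : (tK p q t : SLn).1 = diagonal (wK p q t) := rfl

theorem tK_mul (p q : Fin n) (s t : Fˣ) : tK p q (s * t) = (tK p q s * tK p q t : SLn) := by
  refine Subtype.ext ?_
  show diagonal _ = diagonal (wK p q s) * diagonal (wK p q t)
  rw [diagonal_mul_diagonal]
  congr 1
  funext k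
  simp only [wK]
  split_ifs <;> simp [mul_assoc, mul_left_comm, mul_comm] <;> field_simp

theorem tK_one (p q : Fin n) : (tK p q 1 : SLn) = 1 := by
  refine Subtype.ext ?_
  show diagonal _ = 1
  rw [← diagonal_one]
  congr 1
  funext k
  simp [wK]

theorem tK_trans (p q r : Fin n) (t : Fˣ) : (tK p q t * tK q r t : SLn) = tK p r t := by
  refine Subtype.ext ?_
  show diagonal (wK p q t) * diagonal (wK q r t) = diagonal (wK p r t)
  rw [diagonal_mul_diagonal]
  congr 1
  funext k
  simp only [wK]
  rw [show ∀ a b c d : F, a * b * (c * d) = a * (b * c) * d from fun a b c d => by ring]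
  rcases eq_or_ne k q with h | h
  · rw [if_pos h, if_pos h]; simp
  · rw [if_neg h, if_neg h]; simp

theorem tK_self (p : Fin n) (t : Fˣ) : (tK p p t : SLn) = 1 := by
  refine Subtype.ext ?_
  show diagonal _ = 1
  rw [← diagonal_one]
  congr 1
  funext k
  simp only [wK]
  split_ifs <;> simp

theorem tK_symm_inv (p q : Fin n) (t : Fˣ) : (tK q p t⁻¹ : SLn) = tK p q t := by
  refine Subtype.ext ?_
  show diagonal _ = diagonal _
  congr 1
  funext k
  simp only [wK, inv_inv]
  rw [mul_comm]

theorem tK_eq_diag2n {p q : Fin n} (h : p ≠ q) (t : Fˣ) :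
    (tK p q t : SLn) = SpecialLinearGroup.diag2n h (t : F) t.ne_zero := by
  refine Subtype.ext ?_
  rw [SpecialLinearGroup.diag2n_coe]
  show diagonal _ = diagonal _
  congr 1
  funext k
  simp only [wK]
  split_ifs with h1 h2 <;> simp_all

theorem tK_tv (p q : Fin n) (t : Fˣ) {i j : Fin n} (hij : i ≠ j) (x : F) :
    (tK p q t * TV hij x : SLn) = TV hij (wK p q t i / wK p q t j * x) * tK p q t := by
  refine Subtype.ext ?_
  show diagonal (wK p q t) * (1 + single i j x) = (1 + single i j _) * diagonal (wK p q t)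
  ext k l
  rw [diagonal_mul, mul_diagonal, Matrix.add_apply, Matrix.add_apply, Matrix.single_apply, Matrix.single_apply]
  by_cases h : i = k ∧ j = l
  · obtain ⟨rfl, rfl⟩ := h
    rw [if_pos ⟨rfl, rfl⟩, if_pos ⟨rfl, rfl⟩, Matrix.one_apply_ne hij, zero_add, zero_add]
    field_simp [wK_ne]
  · simp only [if_neg h, add_zero]
    rcases eq_or_ne k l with rfl | hkl
    · rw [Matrix.one_apply_eq]; ring
    · rw [Matrix.one_apply_ne hkl]; ring

theorem isUni_tK_conj (p q : Fin n) (t : Fˣ) {g : SLn} (hg : IsUni g.1) :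
    IsUni (tK p q t⁻¹ * g * tK p q t : SLn).1 := by
  have key : ∀ k l, (tK p q t⁻¹ * g * tK p q t : SLn).1 k l = wK p q t⁻¹ k * g.1 k l * wK p q t l := fun k l => by
    show (diagonal (wK p q t⁻¹) * g.1 * diagonal (wK p q t) : Matrix (Fin n) (Fin n) F) k l = _
    rw [mul_diagonal, diagonal_mul]
  refine ⟨fun k => ?_, fun k l h => ?_⟩
  · rw [key, hg.1]
    simp only [wK, inv_inv]
    split_ifs <;> simp
  · rw [key, hg.2 k l h, mul_zero, zero_mul]

theorem tv_mul_apply {i j : Fin n} (hij : i ≠ j) (c : F) (A : SLn) (k l : Fin n) :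
    (TV hij c * A : SLn).1 k l = A.1 k l + (if k = i then c * A.1 j l else 0) := by
  show ((1 + single i j c) * A.1) k l = _
  rw [Matrix.add_mul, Matrix.one_mul, Matrix.add_apply]
  congr 1
  split_ifs with h
  · subst h; rw [Matrix.single_mul_apply_same]
  · rw [Matrix.single_mul_apply_of_ne]; exact h

/-- Representatives of reflections. -/
def nW {i j : Fin n} (h : i ≠ j) : SLn := TV h 1 * TV h.symm (-1) * TV h 1

/-- The sign of a reflection representative. -/
def sgn' (i q : Fin n) : F := if q = i then -1 else 1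

theorem sgn'_sq (i q : Fin n) : sgn' i q * sgn' i q = (1 : F) := by
  unfold sgn'; split_ifs <;> simp

theorem nW_apply {i j : Fin n} (h : i ≠ j) (k l : Fin n) :
    (nW h : SLn).1 k l = if k = Equiv.swap i j l then sgn' i l else 0 := by
  simp only [nW, mul_tr_apply, tr_coe, Matrix.add_apply, Matrix.single_apply, Matrix.one_apply, sgn',
    Equiv.swap_apply_def]
  rcases eq_or_ne l i with rfl | hli
  · rcases eq_or_ne k l with rfl | hkl
    · simp [h, h.symm]
    · rcases eq_or_ne k j with rfl | hkj <;> simp [*, Ne.symm]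
  · rcases eq_or_ne l j with rfl | hlj
    · rcases eq_or_ne k i with rfl | hki
      · simp [*, Ne.symm]
      · rcases eq_or_ne k l with rfl | hkl <;> simp [*, Ne.symm]
    · simp [*, Ne.symm]

/-- Conjugation by a reflection representative. -/
theorem nW_conj {i j : Fin n} (h : i ≠ j) (g : SLn) (k l : Fin n) :
    (nW h.symm * g * nW h : SLn).1 k l =
      sgn' i k * sgn' i l * g.1 (Equiv.swap i j k) (Equiv.swap i j l) := by
  show ((nW h.symm : SLn).1 * g.1 * (nW h : SLn).1) k l = _
  rw [Matrix.mul_apply, Finset.sum_eq_single (Equiv.swap i j l) (fun x _ hx => by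
    rw [nW_apply, if_neg hx, mul_zero]) (by simp), nW_apply, if_pos rfl, Matrix.mul_apply,
    Finset.sum_eq_single (Equiv.swap i j k) (fun x _ hx => by
      rw [nW_apply, if_neg, zero_mul]
      intro e
      apply hx
      rw [e, Equiv.swap_comm j i, Equiv.swap_apply_self]) (by simp), nW_apply, Equiv.swap_comm j i,
    Equiv.swap_apply_self, if_pos rfl]
  have : sgn' j (Equiv.swap i j k) = (sgn' i k : F) := by
    simp only [sgn']
    exact if_congr ⟨fun e => by
      rw [← Equiv.swap_apply_self i j k, e, Equiv.swap_apply_right], fun e => by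
      rw [e, Equiv.swap_apply_left]⟩ rfl rfl
  rw [this]; ring

theorem nW_inv {i j : Fin n} (h : i ≠ j) : (nW h.symm * nW h : SLn) = 1 := by
  refine Subtype.ext (Matrix.ext fun k l => ?_)
  have := nW_conj h (1 : SLn) k l
  rw [mul_one] at this
  rw [this]
  show _ * (1 : Matrix (Fin n) (Fin n) F) _ _ = (1 : Matrix (Fin n) (Fin n) F) k l
  rcases eq_or_ne k l with rfl | hkl
  · rw [Matrix.one_apply_eq, Matrix.one_apply_eq, mul_one, sgn'_sq]
  · rw [Matrix.one_apply_ne hkl, Matrix.one_apply_ne (fun e => hkl ((Equiv.swap i j).injective e)), mul_zero]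

theorem nW_inv' {i j : Fin n} (h : i ≠ j) : (nW h * nW h.symm : SLn) = 1 := nW_inv h.symm

/-- A matrix with trivial entry at a simple root stays unitriangular. -/
theorem isUni_nW_conj {i j : Fin n} (h : i ≠ j) (hadj : j.val = i.val + 1) {g : SLn} (hg : IsUni g.1)
    (h0 : g.1 i j = 0) : IsUni (nW h.symm * g * nW h : SLn).1 := by
  refine ⟨fun k => ?_, fun k l hlk => ?_⟩
  · rw [nW_conj, sgn'_sq, one_mul, hg.1]
  · rw [nW_conj]
    by_cases hsw : Equiv.swap i j l < Equiv.swap i j k
    · rw [hg.2 _ _ hsw, mul_zero]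
    · have a1 : l.val < k.val := hlk
      have : k = j ∧ l = i := by
        have a2 : ¬ ((Equiv.swap i j l).val < (Equiv.swap i j k).val) := hsw
        simp only [Equiv.swap_apply_def] at a2
        split_ifs at a2 with b1 b2 b3 b4 b5 b6 b7 b8 <;> simp only [Fin.ext_iff] at * <;> omega
      rw [this.1, this.2, Equiv.swap_apply_left, Equiv.swap_apply_right, h0, mul_zero]

theorem tK_nW (p q : Fin n) (t : Fˣ) {i j : Fin n} (h : i ≠ j) :
    (tK p q t * nW h : SLn) = nW h * tK (Equiv.swap i j p) (Equiv.swap i j q) t := by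
  have e : (nW h.symm * tK p q t * nW h : SLn) = tK (Equiv.swap i j p) (Equiv.swap i j q) t := by
    refine Subtype.ext (Matrix.ext fun k l => ?_)
    rw [nW_conj, tK_coe, tK_coe]
    rcases eq_or_ne k l with rfl | hkl
    · rw [diagonal_apply_eq, diagonal_apply_eq, sgn'_sq, one_mul]
      simp only [wK]
      have e : ∀ a, (Equiv.swap i j k = a) ↔ (k = Equiv.swap i j a) := fun a =>
        ⟨fun e => by rw [← e, Equiv.swap_apply_self], fun e => by rw [e, Equiv.swap_apply_self]⟩
      simp only [e]
    · rw [diagonal_apply_ne _ hkl, diagonal_apply_ne _ (fun e => hkl ((Equiv.swap i j).injective e)), mul_zero]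
  rw [← e, ← mul_assoc, ← mul_assoc, nW_inv', one_mul]

theorem nW_tv {i j : Fin n} (h : i ≠ j) (t : F) : (nW h * TV h.symm t : SLn) = TV h (-t) * nW h := by
  have e : (nW h.symm * TV h (-t) * nW h : SLn) = TV h.symm t := by
    refine Subtype.ext (Matrix.ext fun k l => ?_)
    rw [nW_conj, tr_coe, tr_coe, Matrix.add_apply, Matrix.add_apply, mul_add]
    congr 1
    · rcases eq_or_ne k l with rfl | hkl
      · rw [Matrix.one_apply_eq, Matrix.one_apply_eq, mul_one, sgn'_sq]
      · rw [Matrix.one_apply_ne hkl, Matrix.one_apply_ne (fun e => hkl ((Equiv.swap i j).injective e)), mul_zero]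
    · rw [Matrix.single_apply, Matrix.single_apply]
      by_cases hc : j = k ∧ i = l
      · obtain ⟨rfl, rfl⟩ := hc
        rw [Equiv.swap_apply_left, Equiv.swap_apply_right]
        simp [sgn', h.symm]
      · rw [if_neg hc, if_neg, mul_zero]
        rintro ⟨e1, e2⟩
        exact hc ⟨(Equiv.swap i j).injective (by rw [Equiv.swap_apply_right, ← e1]),
          (Equiv.swap i j).injective (by rw [Equiv.swap_apply_left, ← e2])⟩
  rw [← e, ← mul_assoc, ← mul_assoc, nW_inv', one_mul]

theorem nW_tv' {i j : Fin n} (h : i ≠ j) (t : F) : (nW h * TV h t : SLn) = TV h.symm (-t) * nW h := by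
  have e : (nW h.symm * TV h.symm (-t) * nW h : SLn) = TV h t := by
    refine Subtype.ext (Matrix.ext fun k l => ?_)
    rw [nW_conj, tr_coe, tr_coe, Matrix.add_apply, Matrix.add_apply, mul_add]
    congr 1
    · rcases eq_or_ne k l with rfl | hkl
      · rw [Matrix.one_apply_eq, Matrix.one_apply_eq, mul_one, sgn'_sq]
      · rw [Matrix.one_apply_ne hkl, Matrix.one_apply_ne (fun e => hkl ((Equiv.swap i j).injective e)), mul_zero]
    · rw [Matrix.single_apply, Matrix.single_apply]
      by_cases hc : i = k ∧ j = l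
      · obtain ⟨rfl, rfl⟩ := hc
        rw [Equiv.swap_apply_left, Equiv.swap_apply_right]
        simp [sgn', h.symm]
      · rw [if_neg hc, if_neg, mul_zero]
        rintro ⟨e1, e2⟩
        exact hc ⟨(Equiv.swap i j).injective (by rw [Equiv.swap_apply_left, ← e1]),
          (Equiv.swap i j).injective (by rw [Equiv.swap_apply_right, ← e2])⟩
  rw [← e, ← mul_assoc, ← mul_assoc, nW_inv', one_mul]

theorem nW_sq {i j : Fin n} (h : i ≠ j) : (nW h * nW h : SLn) = tK i j (-1) := by
  refine Subtype.ext (Matrix.ext fun k l => ?_)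
  show ((nW h : SLn).1 * (nW h : SLn).1) k l = _
  rw [Matrix.mul_apply, Finset.sum_eq_single (Equiv.swap i j l) (fun x _ hx => by
    rw [nW_apply h x l, if_neg hx, mul_zero]) (by simp), nW_apply, nW_apply, if_pos rfl, tK_coe,
    Equiv.swap_apply_self]
  rcases eq_or_ne k l with rfl | hkl
  · rw [if_pos rfl, diagonal_apply_eq]
    simp only [sgn', wK, Equiv.swap_apply_def]
    split_ifs <;> simp_all
  · rw [if_neg hkl, zero_mul, diagonal_apply_ne _ hkl]

/-- The lower root element through the reflection. -/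
theorem lower_eq {i j : Fin n} (h : i ≠ j) (u : Fˣ) :
    (TV h.symm (-((u⁻¹ : Fˣ) : F)) : SLn) = TV h (-(u : F)) * (tK i j u * nW h) * TV h (-(u : F)) := by
  have hu := u.ne_zero
  refine Subtype.ext (Matrix.ext fun k l => ?_)
  have hK : ∀ p q, (tK i j u * nW h : SLn).1 p q = wK i j u p * (nW h : SLn).1 p q := fun p q => by
    show (diagonal (wK i j u) * (nW h : SLn).1) p q = _
    rw [diagonal_mul]
  simp only [mul_tr_apply, tv_mul_apply, hK, tr_coe, Matrix.add_apply, Matrix.single_apply, Matrix.one_apply,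
    nW_apply, Equiv.swap_apply_def, sgn', wK]
  rcases eq_or_ne k i with rfl | hki
  · rcases eq_or_ne l k with rfl | hlk
    · simp [*, Ne.symm]
    · rcases eq_or_ne l j with rfl | hlj <;> simp [*, Ne.symm]
  · rcases eq_or_ne k j with rfl | hkj
    · rcases eq_or_ne l i with rfl | hli
      · simp [*, Ne.symm]
      · rcases eq_or_ne l k with rfl | hlk <;> simp [*, Ne.symm]
    · rcases eq_or_ne l i with rfl | hli
      · simp [*, Ne.symm]
      · rcases eq_or_ne l j with rfl | hlj
        · simp [*, Ne.symm]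
        · rcases eq_or_ne k l with rfl | hkl <;> simp [*, Ne.symm]

end CfsgLib.OrthDeg
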