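import Mathlib
import Cfsg.Agent.Lib.OrthDeg.OddOps
import Cfsg.Agent.Lib.OrthDeg.SLTorus

/-! Torus elements of the Levi subgroup and their conjugates under a flip of one pair. -/

set_option autoImplicit false
set_option maxHeartbeats 800000
set_option maxRecDepth 4000

namespace CfsgLib.OrthDeg

open Matrix QuadraticMap CfsgLib.WittExtension CfsgLib.OmegaMin
open CfsgLib.StdQuadForms (Qo)

variable {F : Type*} [Field F] {r : ℕ}

local notation "QO" => Qo (F := F) r
local notation "TV" => Matrix.SpecialLinearGroup.transvection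

/-- Isometries agree when they agree on the three parts. -/
theorem iso_ext3 {g h : quadIso QO} (he : ∀ v, g.1 (evo v) = h.1 (evo v)) (hf : ∀ v, g.1 (fvo v) = h.1 (fvo v))
    (hz : ∀ t, g.1 (zvo t) = h.1 (zvo t)) : g = h := iso_ext _ fun x => by
  have e : x = zvo (x (Sum.inl ())) + evo (fun i => x (Sum.inr (Sum.inl i))) +
      fvo (fun i => x (Sum.inr (Sum.inr i))) := by
    funext s; rcases s with i | i | i <;> simp [zvo, evo, fvo]
  rw [e, map_add, map_add, map_add, map_add, he, hf, hz]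

theorem evo_z (v : Fin r → F) (u : Unit) : (evo v : Unit ⊕ (Fin r ⊕ Fin r) → F) (Sum.inl u) = 0 := rfl
theorem evo_l (v : Fin r → F) (k : Fin r) : evo v (Sum.inr (Sum.inl k)) = v k := rfl
theorem evo_r (v : Fin r → F) (k : Fin r) : evo v (Sum.inr (Sum.inr k)) = 0 := rfl
theorem fvo_z (v : Fin r → F) (u : Unit) : (fvo v : Unit ⊕ (Fin r ⊕ Fin r) → F) (Sum.inl u) = 0 := rfl
theorem fvo_l (v : Fin r → F) (k : Fin r) : fvo v (Sum.inr (Sum.inl k)) = 0 := rfl
theorem fvo_r (v : Fin r → F) (k : Fin r) : fvo v (Sum.inr (Sum.inr k)) = v k := rfl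
theorem zvo_z (t : F) (u : Unit) : (zvo t : Unit ⊕ (Fin r ⊕ Fin r) → F) (Sum.inl u) = t := rfl
theorem zvo_n (t : F) (k : Fin r ⊕ Fin r) : (zvo t : Unit ⊕ (Fin r ⊕ Fin r) → F) (Sum.inr k) = 0 := rfl

/-- Diagonal elements of the general linear group. -/
noncomputable def dG (d : Fin r → Fˣ) : GL (Fin r) F :=
  Matrix.GeneralLinearGroup.mkOfDetNeZero (diagonal fun k => (d k : F))
    (by rw [det_diagonal]; exact Finset.prod_ne_zero_iff.2 fun k _ => (d k).ne_zero)

theorem dG_coe (d : Fin r → Fˣ) : (dG d).1 = diagonal fun k => (d k : F) := rfl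

theorem dG_mul (d d' : Fin r → Fˣ) : dG (d * d') = dG d * dG d' := by
  refine Units.ext ?_
  rw [Units.val_mul, dG_coe, dG_coe, dG_coe, diagonal_mul_diagonal]
  rfl

theorem dG_inv_coe (d : Fin r → Fˣ) : ((dG d)⁻¹).1 = diagonal fun k => ((d k)⁻¹ : Fˣ).1 := by
  have : (dG d)⁻¹ = dG d⁻¹ := inv_eq_of_mul_eq_one_right (by
    rw [← dG_mul, mul_inv_cancel]
    exact Units.ext (by rw [dG_coe, Units.val_one]; exact diagonal_one))
  rw [this]; rfl

theorem LGo_dG_evo (d : Fin r → Fˣ) (v : Fin r → F) :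
    (LGo (dG d)).1 (evo v) = evo fun k => (d k : F) * v k := by
  rw [LGo_evo, dG_coe]
  congr 1
  funext k
  rw [mulVec_diagonal]

theorem LGo_dG_fvo (d : Fin r → Fˣ) (v : Fin r → F) :
    (LGo (dG d)).1 (fvo v) = fvo fun k => ((d k)⁻¹ : Fˣ).1 * v k := by
  funext s; rcases s with i | i | i
  · rfl
  · show (lq (dG d)).1 ((fvo v) ∘ Sum.inr) (Sum.inl i) = _
    rw [lq_inl]; simp [fvo, Function.comp_def, mulVec, dotProduct]
  · show (lq (dG d)).1 ((fvo v) ∘ Sum.inr) (Sum.inr i) = _
    rw [lq_inr, dG_inv_coe, diagonal_transpose]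
    simp [fvo, Function.comp_def, mulVec_diagonal]

/-- The weights of a root torus element as units. -/
def wU (p q : Fin r) (t : Fˣ) : Fin r → Fˣ :=
  fun k => (if k = p then t else 1) * (if k = q then t⁻¹ else 1)

theorem dG_wU (p q : Fin r) (t : Fˣ) : dG (wU p q t) = SpecialLinearGroup.toGL (tK p q t) := by
  refine Units.ext ?_
  rw [dG_coe]
  show diagonal _ = diagonal (wK p q t)
  congr 1
  funext k
  simp only [wU, wK]
  split_ifs <;> simp

theorem prod_wU (p q : Fin r) (t : Fˣ) : ∏ k, wU p q t k = 1 := by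
  simp only [wU]
  rw [Finset.prod_mul_distrib]; simp

/-- The properties of a flip of one pair. -/
structure IsFlip (i : Fin r) (n : quadIso (Qo (F := F) r)) : Prop where
  sq_one : n * n = 1
  fix : ∀ v : Fin r → F, v i = 0 → n.1 (evo v) = evo v ∧ n.1 (fvo v) = fvo v
  ev : n.1 (evo (Pi.single i 1)) = -fvo (Pi.single i 1)
  fv : n.1 (fvo (Pi.single i 1)) = -evo (Pi.single i 1)
  zv : ∀ t, n.1 (zvo t) = zvo (-t)

variable {i : Fin r} {n : quadIso (Qo (F := F) r)} (hn : IsFlip i n)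
include hn

theorem IsFlip.inv : n⁻¹ = n := inv_eq_of_mul_eq_one_right hn.sq_one

theorem IsFlip.evo_eq (v : Fin r → F) :
    n.1 (evo v) = evo (Function.update v i 0) + (-v i) • fvo (Pi.single i 1) := by
  have e : v = Function.update v i 0 + v i • Pi.single i 1 := by
    funext k
    rcases eq_or_ne k i with rfl | h <;> simp [*]
  conv_lhs => rw [e, evo_add, evo_smul, map_add, map_smul, (hn.fix _ (by simp)).1, hn.ev, smul_neg, ← neg_smul]

theorem IsFlip.fvo_eq (v : Fin r → F) :
    n.1 (fvo v) = fvo (Function.update v i 0) + (-v i) • evo (Pi.single i 1) := by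
  have e : fvo v = fvo (Function.update v i 0) + v i • fvo (Pi.single i 1) := by
    funext s
    rcases s with u | k | k
    · simp [fvo_z, fvo_l]
    · simp [fvo_z, fvo_l]
    · rcases eq_or_ne k i with rfl | h
      · simp [fvo_r] <;> field_simp <;> ring
      · simp [fvo_r, h] <;> field_simp <;> ring
  conv_lhs => rw [e, map_add, map_smul, (hn.fix _ (by simp)).2, hn.fv, smul_neg, ← neg_smul]

/-- A flip inverts one coordinate of the torus. -/
theorem IsFlip.conj_dG (d : Fin r → Fˣ) :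
    n * LGo (dG d) = LGo (dG (Function.update d i (d i)⁻¹)) * n := by
  refine iso_ext3 (fun v => ?_) (fun v => ?_) (fun t => ?_)
  · rw [mul_app, mul_app, LGo_dG_evo, hn.evo_eq, hn.evo_eq, map_add, map_smul, LGo_dG_evo, LGo_dG_fvo]
    funext s
    rcases s with u | k | k
    · simp [evo_z, evo_l, evo_r, fvo_z, fvo_l, fvo_r]
    · rcases eq_or_ne k i with rfl | h
      · simp [evo_z, evo_l, evo_r, fvo_z, fvo_l, fvo_r] <;> field_simp <;> ring
      · simp [evo_z, evo_l, evo_r, fvo_z, fvo_l, fvo_r, h] <;> field_simp <;> ring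
    · rcases eq_or_ne k i with rfl | h
      · simp [evo_z, evo_l, evo_r, fvo_z, fvo_l, fvo_r] <;> field_simp <;> ring
      · simp [evo_z, evo_l, evo_r, fvo_z, fvo_l, fvo_r, h] <;> field_simp <;> ring
  · rw [mul_app, mul_app, LGo_dG_fvo, hn.fvo_eq, hn.fvo_eq, map_add, map_smul, LGo_dG_evo, LGo_dG_fvo]
    funext s
    rcases s with u | k | k
    · simp [evo_z, evo_l, evo_r, fvo_z, fvo_l, fvo_r]
    · rcases eq_or_ne k i with rfl | h
      · simp [evo_z, evo_l, evo_r, fvo_z, fvo_l, fvo_r] <;> field_simp <;> ring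
      · simp [evo_z, evo_l, evo_r, fvo_z, fvo_l, fvo_r, h] <;> field_simp <;> ring
    · rcases eq_or_ne k i with rfl | h
      · simp [evo_z, evo_l, evo_r, fvo_z, fvo_l, fvo_r] <;> field_simp <;> ring
      · simp [evo_z, evo_l, evo_r, fvo_z, fvo_l, fvo_r, h] <;> field_simp <;> ring
  · rw [mul_app, mul_app, LGo_zvo, hn.zv, LGo_zvo]

/-- A flip fixes the Siegel radical away from its index. -/
theorem IsFlip.conj_zBo (u v : Fin r → F) (hu : u i = 0) (hv : v i = 0) :
    n * zBo (wedge v u) = zBo (wedge v u) * n := by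
  have h := eg_conj (qo_evo u) (polar_evo_evo u v) n
  rw [(hn.fix u hu).1, (hn.fix v hv).1, eg_evo_evo] at h
  exact mul_inv_eq_iff_eq_mul.1 h

/-- A flip turns radical elements at its index into Levi root elements. -/
theorem IsFlip.conj_zBo_tv {p : Fin r} (hp : p ≠ i) (x : F) :
    n * zBo (x • wedge (Pi.single i 1) (Pi.single p 1)) =
      LGo (SpecialLinearGroup.toGL (TV hp x)) * n := by
  have e : x • wedge (Pi.single i (1 : F)) (Pi.single p 1) = wedge (Pi.single p 1) ((-x) • Pi.single i 1) := by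
    refine Subtype.ext (Matrix.ext fun a b => ?_)
    simp [wedge_apply, Pi.single_apply]
    split_ifs <;> ring
  have h := eg_conj (qo_evo ((-x) • Pi.single i (1 : F))) (polar_evo_evo _ (Pi.single p 1)) n
  rw [(hn.fix (Pi.single p 1) (by simp [hp.symm])).1, evo_smul, map_smul, hn.ev, smul_neg, ← neg_smul, neg_neg,
    ← fvo_smul, ← evo_smul, eg_evo_evo, ← e] at h
  rw [LGo_eq_eg p (x • Pi.single i 1) (by simp [hp]) (SpecialLinearGroup.toGL (TV hp x)) ?_]
  · exact mul_inv_eq_iff_eq_mul.1 h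
  · show 1 + Matrix.single p i x = 1 + vecMulVec (Pi.single p 1) (x • Pi.single i 1)
    congr 1
    ext a b
    simp [vecMulVec_apply, Matrix.single_apply, Pi.single_apply]
    aesop

/-- A flip fixes Levi root elements away from its index. -/
theorem IsFlip.conj_tv {p : Fin r} (δ : Fin r → F) (hp : p ≠ i) (hδp : δ p = 0) (hδ : δ i = 0)
    (g : GL (Fin r) F) (hg : g.1 = 1 + vecMulVec (Pi.single p 1) δ) : n * LGo g = LGo g * n := by
  have h := eg_conj (qo_fvo δ) (e := fvo δ) (w := evo (Pi.single p 1)) (by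
    rw [polar_fvo]; simp [evo, dotProduct, Pi.single_apply, hδp]) n
  rw [(hn.fix δ hδ).2, (hn.fix (Pi.single p 1) (by simp [hp.symm])).1, ← LGo_eq_eg p δ hδp g hg] at h
  exact mul_inv_eq_iff_eq_mul.1 h

/-- A flip changes the sign of the covering parameter away from its index. -/
theorem IsFlip.conj_EUo (v : Fin r → F) (hv : v i = 0) (t : F) : n * EUo v t = EUo v (-t) * n := by
  have h := eg_conj (qo_evo v) (polar_evo_zvo v t) n
  rw [(hn.fix v hv).1, hn.zv] at h
  exact mul_inv_eq_iff_eq_mul.1 h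

/-- A square torus element at the index of a flip. -/
theorem IsFlip.square_eq (a : Fˣ) :
    LGo (dG (Function.update 1 i (a * a))) =
      EUo (Pi.single i 1) (a : F) * (n * EUo (Pi.single i 1) ((a : F)⁻¹) * n) * EUo (Pi.single i 1) ((a : F) - 1) *
        (n * EUo (Pi.single i 1) (-1) * n) * EUo (Pi.single i 1) (-1) := by
  have ha := a.ne_zero
  have happ : ∀ t x, (EUo (Pi.single i (1 : F)) t).1 x = x + (x (Sum.inr (Sum.inr i)) • zvo t +
      (-(2 * (t * x (Sum.inl ()))) - t * t * x (Sum.inr (Sum.inr i))) • evo (Pi.single i 1)) := fun t x => by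
    rw [EUo, eg_app (qo_evo _) (polar_evo_zvo _ t), polar_evo, polar_zvo, qo_zvo, single_dotProduct, one_mul]
  refine iso_ext3 (fun v => ?_) (fun v => ?_) (fun t => ?_)
  · rw [LGo_dG_evo]
    simp only [mul_app, happ, hn.evo_eq, map_add, map_smul, map_neg, hn.fvo_eq, hn.zv, hn.ev, hn.fv]
    funext s
    rcases s with u | k | k
    · simp [evo_z, evo_l, evo_r, fvo_z, fvo_l, fvo_r, zvo_z, zvo_n]
      field_simp
      ring
    · rcases eq_or_ne k i with rfl | h
      · simp [evo_z, evo_l, evo_r, fvo_z, fvo_l, fvo_r, zvo_z, zvo_n] <;> field_simp <;> ring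
      · simp [evo_z, evo_l, evo_r, fvo_z, fvo_l, fvo_r, zvo_z, zvo_n, h] <;> field_simp <;> ring
    · rcases eq_or_ne k i with rfl | h
      · simp [evo_z, evo_l, evo_r, fvo_z, fvo_l, fvo_r, zvo_z, zvo_n] <;> field_simp <;> ring
      · simp [evo_z, evo_l, evo_r, fvo_z, fvo_l, fvo_r, zvo_z, zvo_n, h] <;> field_simp <;> ring
  · rw [LGo_dG_fvo]
    simp only [mul_app, happ, hn.evo_eq, map_add, map_smul, map_neg, hn.fvo_eq, hn.zv, hn.ev, hn.fv]
    funext s
    rcases s with u | k | k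
    · simp [evo_z, evo_l, evo_r, fvo_z, fvo_l, fvo_r, zvo_z, zvo_n]
      field_simp
      ring
    · rcases eq_or_ne k i with rfl | h
      · simp [evo_z, evo_l, evo_r, fvo_z, fvo_l, fvo_r, zvo_z, zvo_n] <;> field_simp <;> ring
      · simp [evo_z, evo_l, evo_r, fvo_z, fvo_l, fvo_r, zvo_z, zvo_n, h] <;> field_simp <;> ring
    · rcases eq_or_ne k i with rfl | h
      · simp [evo_z, evo_l, evo_r, fvo_z, fvo_l, fvo_r, zvo_z, zvo_n] <;> field_simp <;> ring
      · simp [evo_z, evo_l, evo_r, fvo_z, fvo_l, fvo_r, zvo_z, zvo_n, h] <;> field_simp <;> ring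
  · rw [LGo_zvo]
    simp only [mul_app, happ, hn.evo_eq, map_add, map_smul, map_neg, hn.fvo_eq, hn.zv, hn.ev, hn.fv]
    funext s
    rcases s with u | k | k
    · simp [evo_z, evo_l, evo_r, fvo_z, fvo_l, fvo_r, zvo_z, zvo_n] <;> field_simp <;> ring
    · rcases eq_or_ne k i with rfl | h
      · simp [evo_z, evo_l, evo_r, fvo_z, fvo_l, fvo_r, zvo_z, zvo_n] <;> field_simp <;> ring
      · simp [evo_z, evo_l, evo_r, fvo_z, fvo_l, fvo_r, zvo_z, zvo_n, h] <;> field_simp <;> ring
    · rcases eq_or_ne k i with rfl | h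
      · simp [evo_z, evo_l, evo_r, fvo_z, fvo_l, fvo_r, zvo_z, zvo_n] <;> field_simp <;> ring
      · simp [evo_z, evo_l, evo_r, fvo_z, fvo_l, fvo_r, zvo_z, zvo_n, h] <;> field_simp <;> ring

end CfsgLib.OrthDeg
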