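import Mathlib
import Cfsg.Agent.Lib.OrthDeg.OddTorus

/-! The line of an isotypic part of multiplicity `q` fixed by one family of covering elements. -/

set_option autoImplicit false
set_option maxHeartbeats 1600000

namespace CfsgLib.OrthDeg

open Matrix QuadraticMap CfsgLib.WittExtension CfsgLib.OmegaMin CfsgLib.RadicalBound
open CfsgLib.StdQuadForms (Qo)

local notation "ψ" => CfsgLib.SympWeil.ψ
local notation "TV" => Matrix.SpecialLinearGroup.transvection

/-- A one-dimensional space of fixed vectors. -/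
theorem pA_line {W : Type*} [AddCommGroup W] [Module ℂ W] [FiniteDimensional ℂ W] {E : Type*} [AddCommGroup E]
    [Fintype E] (A : E → Module.End ℂ W) (hA : ∀ v w, A (v + w) = A v * A w)
    (h1 : Module.finrank ℂ (LinearMap.range (pA A 1)) = 1) :
    ∃ e0 : W, e0 ≠ 0 ∧ (∀ t, A t e0 = e0) ∧ ∀ x, (∀ t, A t x = x) → ∃ s : ℂ, x = s • e0 := by
  obtain ⟨w, hw0, hw⟩ := finrank_eq_one_iff'.1 h1
  refine ⟨w.1, fun h => hw0 (Subtype.ext h), fun t => ?_, fun x hx => ?_⟩
  · obtain ⟨y, hy⟩ := w.2
    rw [← hy, ← Module.End.mul_apply, A_pA A hA, AddChar.one_apply, one_smul]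
  · have hfix : pA A 1 x = x := by
      simp only [pA, LinearMap.smul_apply, LinearMap.sum_apply, AddChar.one_apply, one_smul]
      rw [Finset.sum_congr rfl fun t _ => hx t, Finset.sum_const, Finset.card_univ, ← Nat.cast_smul_eq_nsmul ℂ,
        smul_smul, inv_mul_cancel₀ (Nat.cast_ne_zero.2 Fintype.card_ne_zero), one_smul]
    obtain ⟨s, hs⟩ := hw ⟨x, x, hfix⟩
    exact ⟨s, (congrArg Subtype.val hs).symm⟩

variable {F : Type*} [Field F] [Fintype F] [DecidableEq F] {r : ℕ} (h2 : (2 : F) ≠ 0) (hr : 3 ≤ r)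
variable {k : ℕ} (ρ : Representation ℂ (Om (Qo (F := F) r)) (Fin k → ℂ))

omit [Fintype F] [DecidableEq F] in
/-- Root elements of the plane of a form fix it. -/
theorem act_tv_fix {i j : Fin r} (C : Alt F r) (hC : ∀ p q, p ≠ i → p ≠ j → C.1 p q = 0) {p q : Fin r}
    (hpq : p ≠ q) (hp : q = i ∧ p ≠ i ∨ q = j ∧ p ≠ j) (x : F) :
    act (TV hpq x : SpecialLinearGroup (Fin r) F).1 C = C := by
  refine Subtype.ext ?_
  show (1 + Matrix.single p q x)ᵀ * C.1 * (1 + Matrix.single p q x) = C.1
  ext a b
  simp only [transpose_add, transpose_one, transpose_single, Matrix.add_mul, Matrix.mul_add, Matrix.one_mul,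
    Matrix.mul_one, Matrix.add_apply]
  have e1 : (Matrix.single q p x * C.1) a b = if a = q then x * C.1 p b else 0 := by
    split_ifs with h
    · subst h; rw [Matrix.single_mul_apply_same]
    · rw [Matrix.single_mul_apply_of_ne]; exact h
  have e2 : (C.1 * Matrix.single p q x) a b = if b = q then C.1 a p * x else 0 := by
    split_ifs with h
    · subst h; rw [Matrix.mul_single_apply_same]
    · rw [Matrix.mul_single_apply_of_ne (hbj := h)]
  have e3 : (Matrix.single q p x * C.1 * Matrix.single p q x) a b = 0 := by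
    rw [Matrix.mul_assoc]
    by_cases h : a = q
    · subst h
      rw [Matrix.single_mul_apply_same]
      by_cases h' : b = a
      · subst h'; rw [Matrix.mul_single_apply_same, alt_diag]; simp
      · rw [Matrix.mul_single_apply_of_ne (hbj := h')]; simp
    · rw [Matrix.single_mul_apply_of_ne]; exact h
  rw [e1, e2, e3, add_zero]
  by_cases ha : a = q <;> by_cases hb : b = q
  · subst ha hb
    rw [if_pos rfl, if_pos rfl, alt_skew C b p]; ring
  · subst ha
    rw [if_pos rfl, if_neg hb, add_zero, add_eq_left]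
    rcases hp with ⟨rfl, hpi⟩ | ⟨rfl, hpj⟩
    · by_cases hpj : p = j
      · subst hpj
        by_cases hbp : b = p
        · subst hbp; rw [alt_diag, mul_zero]
        · rw [alt_skew C p b, hC b p hb hbp, neg_zero, mul_zero]
      · rw [hC p b hpi hpj, mul_zero]
    · by_cases hpi : p = i
      · subst hpi
        by_cases hbp : b = p
        · subst hbp; rw [alt_diag, mul_zero]
        · rw [alt_skew C p b, hC b p hbp hb, neg_zero, mul_zero]
      · rw [hC p b hpi hpj, mul_zero]
  · subst hb
    rw [if_neg ha, if_pos rfl, add_zero, add_eq_left]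
    rcases hp with ⟨rfl, hpi⟩ | ⟨rfl, hpj⟩
    · by_cases hpj : p = j
      · subst hpj
        by_cases hap : a = p
        · subst hap; rw [alt_diag, zero_mul]
        · rw [hC a p ha hap, zero_mul]
      · rw [alt_skew C a p, hC p a hpi hpj, neg_zero, zero_mul]
    · by_cases hpi : p = i
      · subst hpi
        by_cases hap : a = p
        · subst hap; rw [alt_diag, zero_mul]
        · rw [hC a p hap ha, zero_mul]
      · rw [alt_skew C a p, hC p a hpi hpj, neg_zero, zero_mul]
  · rw [if_neg ha, if_neg hb, add_zero, add_zero]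

omit [Fintype F] [DecidableEq F] in
/-- Torus elements of the plane of a form fix it. -/
theorem act_tK_fix {i j : Fin r} (hij : i ≠ j) (C : Alt F r) (hC : ∀ p q, p ≠ i → p ≠ j → C.1 p q = 0) (t : Fˣ) :
    act (tK i j t : SpecialLinearGroup (Fin r) F).1 C = C := by
  refine Subtype.ext ?_
  show (diagonal (wK i j t))ᵀ * C.1 * diagonal (wK i j t) = C.1
  ext a b
  rw [diagonal_transpose, mul_diagonal, diagonal_mul]
  by_cases hz : C.1 a b = 0
  · rw [hz, mul_zero, zero_mul]
  have ha : a = i ∨ a = j := by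
    by_contra h; push Not at h; exact hz (hC a b h.1 h.2)
  have hb : b = i ∨ b = j := by
    by_contra h; push Not at h; exact hz (by rw [alt_skew, hC b a h.1 h.2, neg_zero])
  have hab : a ≠ b := fun h => hz (by rw [h, alt_diag])
  rcases ha with rfl | rfl <;> rcases hb with rfl | rfl
  · exact absurd rfl hab
  · simp [wK, hij, hij.symm]; field_simp
  · simp [wK, hij, hij.symm]; field_simp
  · exact absurd rfl hab

/-- A Levi element moves covering elements. -/
theorem slO_uO (g : SpecialLinearGroup (Fin r) F) (v : Fin r → F) (t : F) :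
    slO hr g * uO h2 hr v t = uO h2 hr (g.1 *ᵥ v) t * slO hr g :=
  Subtype.ext (LGo_EUo (SpecialLinearGroup.toGL g) v t)

/-- The elements fixing a form. -/
def stC (C : Alt F r) : Submonoid (SpecialLinearGroup (Fin r) F) where
  carrier := {g | act g.1 C = C}
  one_mem' := by
    show act 1 C = C
    exact Subtype.ext (by show (1 : Matrix (Fin r) (Fin r) F)ᵀ * C.1 * 1 = C.1; simp)
  mul_mem' {g h} hg hh := by
    show act (g.1 * h.1) C = C
    refine Eq.trans (Subtype.ext ?_) (show act h.1 (act g.1 C) = C by rw [show act g.1 C = C from hg]; exact hh)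
    show (g.1 * h.1)ᵀ * C.1 * (g.1 * h.1) = h.1ᵀ * (g.1ᵀ * C.1 * g.1) * h.1
    rw [transpose_mul]; simp only [Matrix.mul_assoc]

/-- Their operators on the isotypic part. -/
noncomputable def stOp (C : Alt F r) : stC (F := F) C →* Module.End ℂ (LinearMap.range (PO h2 hr ρ C)) where
  toFun g := rpo h2 hr ρ C ⟨slO hr g.1, slO_nrm h2 hr ρ g.1 g.2⟩
  map_one' := by
    rw [show (⟨slO hr (1 : stC (F := F) C).1, _⟩ : NrO h2 hr ρ C) = 1 from Subtype.ext (map_one (slO hr)), map_one]
  map_mul' g h := by
    rw [← map_mul]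
    congr 1
    exact Subtype.ext (map_mul (slO hr) g.1 h.1)

theorem stOp_coe (C : Alt F r) (g : stC (F := F) C) (x : LinearMap.range (PO h2 hr ρ C)) :
    (stOp h2 hr ρ C g x).1 = ρ (slO hr g.1) x.1 := rfl

theorem stOp_Eo (C : Alt F r) (g : stC (F := F) C) (v : Fin r → F) (t : F) :
    stOp h2 hr ρ C g * Eo h2 hr ρ C v t = Eo h2 hr ρ C (g.1.1 *ᵥ v) t * stOp h2 hr ρ C g := by
  refine LinearMap.ext fun x => Subtype.ext ?_
  show ρ (slO hr g.1) (ρ (uO h2 hr v t) x.1) = ρ (uO h2 hr _ t) (ρ (slO hr g.1) x.1)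
  rw [← Module.End.mul_apply, ← map_mul, slO_uO h2 hr, map_mul, Module.End.mul_apply]

variable {i j : Fin r} (hij : i ≠ j) (C : Alt F r) (hC : ∀ p q, p ≠ i → p ≠ j → C.1 p q = 0)
  (hcij : C.1 i j ≠ 0) (hm : mO h2 hr ρ C = Fintype.card F)
include hij hC hcij hm

omit hij hC in
/-- The fixed line. -/
theorem line_exists : ∃ e0 : LinearMap.range (PO h2 hr ρ C), e0 ≠ 0 ∧
    (∀ t, Eo h2 hr ρ C (Pi.single i 1) t e0 = e0) ∧
    ∀ x : LinearMap.range (PO h2 hr ρ C), (∀ t, Eo h2 hr ρ C (Pi.single i 1) t x = x) → ∃ s : ℂ, x = s • e0 := by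
  classical
  set A := Eo h2 hr ρ C (Pi.single i 1)
  have hb : bf C (Pi.single i 1) (Pi.single j 1) ≠ 0 := by rwa [bf_single]
  have hd := shift_dim A (Eo_zero h2 hr ρ C _) (Eo_add h2 hr ρ C _)
    (fun u => Eo h2 hr ρ C (Pi.single j 1) u) (fun u => Eo h2 hr ρ C (Pi.single j 1) (-u))
    (fun u => lchar (bf C (Pi.single i 1) (Pi.single j 1)) u) (Eo_unit h2 hr ρ C _)
    (fun u t => Eo_shift h2 hr ρ C u t) (lchar_bijective h2 hb).2 1
  rw [← mO_eq, hm] at hd
  have h1 : Module.finrank ℂ (LinearMap.range (pA A 1)) = 1 :=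
    Nat.eq_of_mul_eq_mul_left Fintype.card_pos (hd.trans (mul_one _).symm)
  exact pA_line A (Eo_add h2 hr ρ C _) h1

/-- Stabilising elements scaling the index act as scalars on the line. -/
theorem line_scal {e0 : LinearMap.range (PO h2 hr ρ C)}
    (hE : ∀ t, Eo h2 hr ρ C (Pi.single i 1) t e0 = e0)
    (hu : ∀ x : LinearMap.range (PO h2 hr ρ C), (∀ t, Eo h2 hr ρ C (Pi.single i 1) t x = x) → ∃ s : ℂ, x = s • e0)
    (g : stC (F := F) C) {c : F} (hc : c ≠ 0) (hg : g.1.1 *ᵥ Pi.single i 1 = c • Pi.single i 1) :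
    ∃ s : ℂ, stOp h2 hr ρ C g e0 = s • e0 := by
  refine hu _ fun t => ?_
  have h := LinearMap.congr_fun (stOp_Eo h2 hr ρ C g (Pi.single i 1) (c⁻¹ * t)) e0
  rw [hg, Eo_smul, Module.End.mul_apply, Module.End.mul_apply, hE, mul_inv_cancel_left₀ hc] at h
  exact h.symm

variable (a : Fˣ) (hgen : ∀ x : Fˣ, ∃ m : ℕ, a ^ m = x) (ha2 : (a : F) * a ≠ 1) (hodd : Odd (Fintype.card F))
include hgen ha2 hodd

/-- The torus element of the plane is minus one on the fixed line. -/
theorem line_neg (x : LinearMap.range (PO h2 hr ρ C)) (hx : ∀ t, Eo h2 hr ρ C (Pi.single i 1) t x = x) :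
    ρ (slO hr (tK i j a)) x.1 = -x.1 := by
  classical
  obtain ⟨e0, he0, hE, hu⟩ := line_exists h2 hr ρ C hcij hm
  let T : Fˣ → stC (F := F) C := fun t => ⟨tK i j t, act_tK_fix hij C hC t⟩
  let X : F → stC (F := F) C := fun u => ⟨TV hij u, act_tv_fix C hC hij (Or.inr ⟨rfl, hij⟩) u⟩
  let Y : F → stC (F := F) C := fun u => ⟨TV hij.symm u, act_tv_fix C hC hij.symm (Or.inl ⟨rfl, hij.symm⟩) u⟩
  set op := stOp h2 hr ρ C
  let dt : stC (F := F) C →* ℂ := LinearMap.det.comp op
  have hT1 : ∀ t, T t * T t⁻¹ = 1 := fun t => Subtype.ext (by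
    show tK i j t * tK i j t⁻¹ = 1
    rw [← tK_mul, mul_inv_cancel, tK_one])
  have hTne : ∀ t, dt (T t) ≠ 0 := fun t h => by
    have := congrArg dt (hT1 t)
    rw [map_mul, map_one, h, zero_mul] at this
    exact zero_ne_one this
  have hwi : wK i j a i = (a : F) := by simp [wK, hij]
  have hwj : wK i j a j = ((a⁻¹ : Fˣ) : F) := by simp [wK, hij.symm]
  have hane : (a : F) * a - 1 ≠ 0 := sub_ne_zero.2 ha2
  have hXd : ∀ u, dt (X u) = 1 := by
    have hshift : ∀ u, dt (X ((a : F) * a * u)) = dt (X u) := fun u => by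
      have e : T a * X u = X ((a : F) * a * u) * T a := Subtype.ext (by
        show tK i j a * TV hij u = TV hij _ * tK i j a
        rw [tK_tv, hwi, hwj]
        congr 2
        rw [Units.val_inv_eq_inv_val, div_inv_eq_mul])
      have h := congrArg dt e
      rw [map_mul, map_mul, mul_comm] at h
      exact mul_right_cancel₀ (hTne a) h.symm
    have hne : ∀ u, dt (X u) ≠ 0 := fun u h => by
      have e : X u * X (-u) = 1 := Subtype.ext (Matrix.SpecialLinearGroup.transvection_mul_neg hij u)
      have := congrArg dt e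
      rw [map_mul, map_one, h, zero_mul] at this
      exact zero_ne_one this
    intro u
    have h := hshift (u / ((a : F) * a - 1))
    have e : X ((a : F) * a * (u / ((a : F) * a - 1))) = X u * X (u / ((a : F) * a - 1)) := Subtype.ext (by
      show TV hij _ = TV hij u * TV hij _
      rw [← Matrix.SpecialLinearGroup.transvection_add, div_eq_mul_inv]
      congr 1
      linear_combination u * mul_inv_cancel₀ hane)
    rw [e, map_mul] at h
    exact mul_right_cancel₀ (hne _) (h.trans (one_mul _).symm)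
  have hYd : ∀ u, dt (Y u) = 1 := by
    have hshift : ∀ u, dt (Y ((a : F) * a * u)) = dt (Y u) := fun u => by
      have e : Y ((a : F) * a * u) * T a⁻¹ = T a⁻¹ * Y u := Subtype.ext (by
        show TV hij.symm _ * tK i j a⁻¹ = tK i j a⁻¹ * TV hij.symm u
        rw [tK_tv]
        congr 2
        simp [wK, hij, hij.symm])
      have h := congrArg dt e
      rw [map_mul, map_mul, mul_comm] at h
      exact mul_left_cancel₀ (hTne _) h
    have hne : ∀ u, dt (Y u) ≠ 0 := fun u h => by
      have e : Y u * Y (-u) = 1 := Subtype.ext (Matrix.SpecialLinearGroup.transvection_mul_neg hij.symm u)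
      have := congrArg dt e
      rw [map_mul, map_one, h, zero_mul] at this
      exact zero_ne_one this
    intro u
    have h := hshift (u / ((a : F) * a - 1))
    have e : Y ((a : F) * a * (u / ((a : F) * a - 1))) = Y u * Y (u / ((a : F) * a - 1)) := Subtype.ext (by
      show TV hij.symm _ = TV hij.symm u * TV hij.symm _
      rw [← Matrix.SpecialLinearGroup.transvection_add, div_eq_mul_inv]
      congr 1
      linear_combination u * mul_inv_cancel₀ hane)
    rw [e, map_mul] at h
    exact mul_right_cancel₀ (hne _) (h.trans (one_mul _).symm)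
  have hTd : dt (T a) = 1 := by
    have e : T a = X (a : F) * Y (-(a : F)⁻¹) * X ((a : F) - 1) * Y 1 * X (-1) := Subtype.ext (by
      show tK i j a = TV hij (a : F) * TV hij.symm _ * TV hij _ * TV hij.symm 1 * TV hij (-1)
      rw [tK_eq_diag2n hij, CfsgLib.SLPerfect.diag2n_eq])
    rw [e, map_mul, map_mul, map_mul, map_mul, hXd, hYd, hXd, hYd, hXd]
    norm_num
  -- the eigenbasis
  have hg1 : (T a).1.1 *ᵥ (Pi.single i 1 : Fin r → F) = (a : F) • Pi.single i 1 := by
    show diagonal (wK i j a) *ᵥ _ = _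
    rw [diagonal_mulVec_single, hwi, mul_one, ← Pi.single_smul, smul_eq_mul, mul_one]
  have hg2 : (T a).1.1 *ᵥ (Pi.single j 1 : Fin r → F) = ((a⁻¹ : Fˣ) : F) • Pi.single j 1 := by
    show diagonal (wK i j a) *ᵥ _ = _
    rw [diagonal_mulVec_single, hwj, mul_one, ← Pi.single_smul, smul_eq_mul, mul_one]
  obtain ⟨s, hs⟩ := line_scal h2 hr ρ hij C hC hcij hm hE hu (T a) a.ne_zero hg1
  set A := Eo h2 hr ρ C (Pi.single i 1)
  set H := Eo h2 hr ρ C (Pi.single j 1)
  have hb : bf C (Pi.single i 1) (Pi.single j 1) ≠ 0 := by rwa [bf_single]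
  set d := bf C (Pi.single i 1) (Pi.single j 1)
  let b0 : F → LinearMap.range (PO h2 hr ρ C) := fun u => H u e0
  have hb0 : ∀ u t, A t (b0 u) = lchar d u t • b0 u := fun u t => by
    show A t (H u e0) = _
    rw [← Module.End.mul_apply, Eo_shift, LinearMap.smul_apply, Module.End.mul_apply, hE]
  have hb0ne : ∀ u, b0 u ≠ 0 := fun u h => he0 (by
    have := congrArg (H (-u)) h
    rw [map_zero, ← Module.End.mul_apply, ← Eo_add, neg_add_cancel, Eo_zero] at this
    exact this)
  have hpA : ∀ u u', pA A (lchar d u) (b0 u') = if u = u' then b0 u' else 0 := fun u u' => by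
    simp only [pA, LinearMap.smul_apply, LinearMap.sum_apply, hb0, smul_smul, ← Finset.sum_smul]
    split_ifs with h
    · subst h
      simp only [← AddChar.map_add_eq_mul, neg_add_cancel, AddChar.map_zero_eq_one, Finset.sum_const,
        Finset.card_univ, nsmul_eq_mul, mul_one]
      rw [inv_mul_cancel₀ (Nat.cast_ne_zero.2 Fintype.card_ne_zero), one_smul]
    · have hz : ∑ t : F, lchar d u (-t) * lchar d u' t = 0 := by
        have hne : (lchar d u)⁻¹ * lchar d u' ≠ 1 := fun e => h ((lchar_bijective h2 hb).1 (inv_mul_eq_one.1 e))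
        rw [← AddChar.sum_eq_zero_of_ne_one hne]
        exact Finset.sum_congr rfl fun t _ => by rw [AddChar.mul_apply, AddChar.inv_apply]
      rw [hz, mul_zero, zero_smul]
  have hli : LinearIndependent ℂ b0 := by
    rw [Fintype.linearIndependent_iff]
    intro g hg u
    have := congrArg (pA A (lchar d u)) hg
    simp only [map_sum, map_smul, map_zero, hpA, smul_ite, smul_zero, Finset.sum_ite_eq, Finset.mem_univ,
      if_true] at this
    exact (smul_eq_zero.1 this).resolve_right (hb0ne u)
  haveI : Nonempty F := ⟨0⟩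
  let B := basisOfLinearIndependentOfCardEqFinrank hli (by rw [← mO_eq, hm])
  have hB : ∀ u, B u = b0 u := fun u => by simp [B]
  let π : Equiv.Perm F := Equiv.mulLeft₀ ((a⁻¹ : Fˣ) : F) (Units.ne_zero _)
  have hR : ∀ u, op (T a) (B u) = s • B (π u) := fun u => by
    rw [hB, hB]
    show op (T a) (H u e0) = s • H (π u) e0
    rw [← Module.End.mul_apply, stOp_Eo, hg2, Eo_smul, Module.End.mul_apply, hs, map_smul]
    rfl
  have hdet : dt (T a) = s ^ Fintype.card F * ((Equiv.Perm.sign π : ℤ) : ℂ) := by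
    show LinearMap.det (op (T a)) = _
    rw [← LinearMap.det_toMatrix B, show LinearMap.toMatrix B B (op (T a)) = s • (π.permMatrix ℂ)ᵀ by
      ext v u
      rw [LinearMap.toMatrix_apply, hR, map_smul, B.repr_self, Matrix.smul_apply, Matrix.transpose_apply]
      simp [Equiv.Perm.permMatrix, PEquiv.toMatrix_apply, Finsupp.single_apply], Matrix.det_smul,
      Matrix.det_transpose, Matrix.det_permutation]
  have hsign : Equiv.Perm.sign π = -1 := by
    have ha1 : ((a⁻¹ : Fˣ) : F) ≠ 1 := fun h => ha2 (by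
      rw [Units.val_inv_eq_inv_val, inv_eq_one] at h; rw [h, one_mul])
    have hcyc : π.IsCycle := by
      refine ⟨1, fun h => ha1 ((mul_one _).symm.trans h), fun y hy => ?_⟩
      have hy0 : y ≠ 0 := fun h => hy (by show _ * y = y; rw [h, mul_zero])
      obtain ⟨m, hm'⟩ := hgen (Units.mk0 y hy0)⁻¹
      refine ⟨(m : ℤ), ?_⟩
      rw [zpow_natCast]
      have hpow : ∀ n : ℕ, (π ^ n) (1 : F) = (((a⁻¹) ^ n : Fˣ) : F) := fun n => by
        induction n with
        | zero => simp
        | succ n ih =>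
          rw [pow_succ', Equiv.Perm.mul_apply, ih]
          simp only [π, Equiv.mulLeft₀_apply]
          rw [← Units.val_mul, pow_succ']
      rw [hpow, inv_pow, hm', inv_inv, Units.val_mk0]
    have hsupp : π.support = Finset.univ.erase (0 : F) := by
      ext y
      rw [Equiv.Perm.mem_support, Finset.mem_erase]
      refine ⟨fun h => ⟨fun h0 => h (by show _ * y = y; rw [h0, mul_zero]), Finset.mem_univ _⟩, fun h hy => ?_⟩
      exact ha1 (mul_right_cancel₀ h.1 (hy.trans (one_mul y).symm))
    rw [hcyc.sign, hsupp, Finset.card_erase_of_mem (Finset.mem_univ _), Finset.card_univ]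
    have he : Even (Fintype.card F - 1) := by
      obtain ⟨c, hc⟩ := hodd
      exact ⟨c, by omega⟩
    rw [he.neg_one_pow]
  rw [hTd, hsign] at hdet
  have hpowT : ∀ n : ℕ, op (T a ^ n) e0 = s ^ n • e0 := fun n => by
    induction n with
    | zero => simp
    | succ n ih => rw [pow_succ', map_mul, Module.End.mul_apply, ih, map_smul, hs, smul_smul, pow_succ]
  have hord : T a ^ (Fintype.card F - 1) = 1 := Subtype.ext (by
    have hpow : ∀ n : ℕ, (tK i j a : SpecialLinearGroup (Fin r) F) ^ n = tK i j (a ^ n) := fun n => by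
      induction n with
      | zero => rw [pow_zero, pow_zero, tK_one]
      | succ n ih => rw [pow_succ, ih, pow_succ, tK_mul]
    show tK i j a ^ (Fintype.card F - 1) = 1
    rw [hpow, show a ^ (Fintype.card F - 1) = 1 by rw [← Fintype.card_units]; exact pow_card_eq_one, tK_one])
  have hs1 : s ^ (Fintype.card F - 1) = 1 := by
    have := hpowT (Fintype.card F - 1)
    rw [hord, map_one, Module.End.one_apply] at this
    exact smul_left_injective ℂ he0 (this.symm.trans (one_smul ℂ e0).symm)
  have hsm : s = -1 := by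
    rw [show Fintype.card F = (Fintype.card F - 1) + 1 from (Nat.succ_pred_eq_of_pos Fintype.card_pos).symm,
      pow_succ, hs1, one_mul] at hdet
    push_cast at hdet
    linear_combination hdet
  obtain ⟨c, rfl⟩ := hu x hx
  show ρ (slO hr (tK i j a)) (c • e0.1) = -(c • e0.1)
  rw [map_smul, ← show (op (T a) e0).1 = ρ (slO hr (tK i j a)) e0.1 from rfl, hs, hsm]
  simp

end CfsgLib.OrthDeg
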