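import Mathlib
import Cfsg.Agent.Lib.OrthDeg.OddLine

/-! The fixed space of the centre of the Siegel radical, seen through the flips of one pair. -/

set_option autoImplicit false
set_option maxHeartbeats 1600000

namespace CfsgLib.OrthDeg

open Matrix QuadraticMap CfsgLib.WittExtension CfsgLib.OmegaMin CfsgLib.RadicalBound
open CfsgLib.StdQuadForms (Qo)
open CfsgLib.SLMin (vt vt_coe)

local notation "ψ" => CfsgLib.SympWeil.ψ
local notation "TV" => Matrix.SpecialLinearGroup.transvection

variable {F : Type*} [Field F] [Fintype F] [DecidableEq F] {r : ℕ} (h2 : (2 : F) ≠ 0) (hr : 3 ≤ r)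
variable {k : ℕ} (ρ : Representation ℂ (Om (Qo (F := F) r)) (Fin k → ℂ))

omit [Fintype F] [DecidableEq F] in
/-- A form living in a plane is decomposable. -/
theorem plane_dec {i j : Fin r} (C : Alt F r) (hC : ∀ p q, p ≠ i → p ≠ j → C.1 p q = 0) : Dec C := by
  refine ⟨C.1 i j • Pi.single i 1, Pi.single j 1, fun p q => ?_⟩
  by_cases hij : i = j
  · subst hij
    have : C.1 p q = 0 := by
      by_cases hp : p = i
      · by_cases hq : q = i
        · rw [hp, hq, alt_diag]
        · rw [alt_skew, hC q p hq hq, neg_zero]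
      · exact hC p q hp hp
    rw [this]; simp [alt_diag]
  by_cases hp : p = i ∨ p = j
  · by_cases hq : q = i ∨ q = j
    · rcases hp with rfl | rfl <;> rcases hq with rfl | rfl
      · simp [alt_diag]
      · simp [hij, Ne.symm hij]
      · simp [hij, Ne.symm hij]
        rw [alt_skew C p q]
      · simp [alt_diag]
    · push Not at hq
      rw [alt_skew, hC q p hq.1 hq.2]
      simp [hq.1, hq.2]
  · push Not at hp
    rw [hC p q hp.1 hp.2]
    simp [hp.1, hp.2]

/-- A torus element inside the derived group. -/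
noncomputable def tO (d : Fin r → Fˣ) (hd : IsSquare (∏ k, d k)) : Om (Qo (F := F) r) :=
  lO hr (dG d) (by
    rw [dG_coe, det_diagonal, ← Units.coe_prod]
    obtain ⟨c, hc⟩ := hd
    exact ⟨c, by rw [hc]; rfl⟩)

theorem tO_mul (d d' : Fin r → Fˣ) (hd : IsSquare (∏ k, d k)) (hd' : IsSquare (∏ k, d' k))
    (h : IsSquare (∏ k, (d * d') k)) : tO hr (d * d') h = tO hr d hd * tO hr d' hd' :=
  Subtype.ext (by show LGo (dG (d * d')) = LGo (dG d) * LGo (dG d'); rw [dG_mul, LGo_mul])

theorem slO_tK (p q : Fin r) (t : Fˣ) :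
    slO hr (tK p q t) = tO hr (wU p q t) (by rw [prod_wU]; exact IsSquare.one) :=
  Subtype.ext (by
    show LGo (SpecialLinearGroup.toGL (tK p q t)) = LGo (dG (wU p q t))
    rw [dG_wU])

/-- The squares at one place. -/
def sqU (i : Fin r) (a : Fˣ) : Fin r → Fˣ := Function.update 1 i (a * a)

omit [Fintype F] [DecidableEq F] in
theorem sqU_square (i : Fin r) (a : Fˣ) : IsSquare (∏ k, sqU i a k) := by
  rw [sqU, Finset.prod_update_of_mem (Finset.mem_univ i)]
  exact ⟨a, by simp⟩

/-- A vector fixed by a wedge of the radical has no component outside it. -/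
theorem comp_zero {w : Fin k → ℂ} {p q : Fin r}
    (h : ∀ c : F, ρ (fO h2 hr (c • wedge (Pi.single p 1) (Pi.single q 1))) w = w) {C : Alt F r}
    (hC : C.1 p q ≠ 0) : PO h2 hr ρ C w = 0 := by
  obtain ⟨x, hx⟩ := CfsgLib.SympWeil.ψ_ne hC
  have e := congrArg (PO h2 hr ρ C) (h x)
  rw [← Module.End.mul_apply, PO_rho, LinearMap.smul_apply, chi_apply, pair_smul, pair_wedge, bf_single,
    mul_comm x] at e
  by_contra hne
  exact hx (smul_left_injective ℂ hne (e.trans (one_smul ℂ _).symm))

/-- A vector with components only where a wedge is trivial is fixed by it. -/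
theorem fix_of_comp {w : Fin k → ℂ} {p q : Fin r} (h : ∀ C, C.1 p q ≠ 0 → PO h2 hr ρ C w = 0) (c : F) :
    ρ (fO h2 hr (c • wedge (Pi.single p 1) (Pi.single q 1))) w = w := by
  classical
  conv_rhs => rw [← Module.End.one_apply (R := ℂ) w, ← sum_PO h2 hr ρ, LinearMap.sum_apply]
  conv_lhs => rw [← Module.End.one_apply (R := ℂ) w, ← Module.End.mul_apply, ← sum_PO h2 hr ρ, Finset.mul_sum,
    LinearMap.sum_apply]
  refine Finset.sum_congr rfl fun C _ => ?_
  rw [rho_PO, LinearMap.smul_apply, chi_apply, pair_smul, pair_wedge, bf_single]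
  by_cases hC : C.1 p q = 0
  · rw [hC, mul_zero, AddChar.map_zero_eq_one, one_smul]
  · rw [h C hC, smul_zero]

/-- A vector fixed by all wedges of basis vectors lies in the fixed space. -/
theorem mem_D_of_wedge {w : Fin k → ℂ}
    (h : ∀ (p q : Fin r) (c : F), ρ (fO h2 hr (c • wedge (Pi.single p 1) (Pi.single q 1))) w = w) :
    PO h2 hr ρ 0 w = w := by
  classical
  conv_rhs => rw [← Module.End.one_apply (R := ℂ) w, ← sum_PO h2 hr ρ, LinearMap.sum_apply,
    Finset.sum_eq_single (0 : Alt F r) (fun C _ hC => by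
      obtain ⟨p, q, hpq⟩ : ∃ p q, C.1 p q ≠ 0 := by
        by_contra hcon
        push Not at hcon
        exact hC (Subtype.ext (Matrix.ext fun p q => (hcon p q).trans rfl))
      exact comp_zero h2 hr ρ (h p q) hpq) (by simp)]

theorem D_fix_fO {v : Fin k → ℂ} (hv : PO h2 hr ρ 0 v = v) (B : Alt F r) : ρ (fO h2 hr B) v = v := by
  conv_lhs => rw [← hv, ← Module.End.mul_apply, rho_PO, chi_zero]
  rw [LinearMap.smul_apply, AddChar.one_apply, one_smul, hv]

variable (hU : ∀ x : Fin k → ℂ, PO h2 hr ρ 0 x = x → ∀ (v : Fin r → F) (t : F), ρ (uO h2 hr v t) x = x)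

section flip

variable {i : Fin r} {N : Om (Qo (F := F) r)} (hN : IsFlip i N.1)
include hN

theorem N_sq (x : Fin k → ℂ) : ρ N (ρ N x) = x := by
  rw [← Module.End.mul_apply, ← map_mul, show N * N = 1 from Subtype.ext hN.sq_one, map_one]; rfl

/-- Moving a fixed vector across a flip. -/
theorem flip_move {g g' : Om (Qo (F := F) r)} (e : N.1 * g'.1 = g.1 * N.1) {v : Fin k → ℂ} (hv : ρ g' v = v) :
    ρ g (ρ N v) = ρ N v := by
  rw [← Module.End.mul_apply, ← map_mul, show g * N = N * g' from Subtype.ext e.symm, map_mul, Module.End.mul_apply,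
    hv]

theorem flip_wedge {v : Fin k → ℂ} (p q : Fin r) (hp : p ≠ i) (hq : q ≠ i) (c : F)
    (hv : ρ (fO h2 hr (c • wedge (Pi.single p 1) (Pi.single q 1))) v = v) :
    ρ (fO h2 hr (c • wedge (Pi.single p 1) (Pi.single q 1))) (ρ N v) = ρ N v := by
  refine flip_move ρ hN ?_ hv
  show N.1 * zBo (c • wedge (Pi.single p 1) (Pi.single q 1)) = zBo _ * N.1
  rw [← wedge_smul]
  exact hN.conj_zBo _ _ (by simp [hq.symm]) (by simp [hp.symm])

theorem flip_wedge_i {v : Fin k → ℂ} (p : Fin r) (hp : p ≠ i) (c : F) (hv : ρ (slO hr (TV hp c)) v = v) :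
    ρ (fO h2 hr (c • wedge (Pi.single i 1) (Pi.single p 1))) (ρ N v) = ρ N v := by
  refine flip_move ρ hN ?_ hv
  show N.1 * LGo _ = zBo (c • wedge (Pi.single i 1) (Pi.single p 1)) * N.1
  have h := congrArg (fun x => N.1 * x * N.1) (hN.conj_zBo_tv hp c)
  simp only [← mul_assoc, hN.sq_one, one_mul] at h
  simp only [mul_assoc, hN.sq_one, mul_one] at h
  exact h.symm

/-- All wedges fix the flipped vector. -/
theorem flip_mem_D {v : Fin k → ℂ}
    (hv : ∀ (p q : Fin r) (c : F), p ≠ i → q ≠ i →
      ρ (fO h2 hr (c • wedge (Pi.single p 1) (Pi.single q 1))) v = v)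
    (hfix : ∀ p, ∀ hp : p ≠ i, ∀ c : F, ρ (slO hr (TV hp c)) v = v) : PO h2 hr ρ 0 (ρ N v) = ρ N v := by
  refine mem_D_of_wedge h2 hr ρ fun p q c => ?_
  by_cases hp : p = i
  · subst hp
    by_cases hq : q = p
    · subst hq
      rw [show c • wedge (Pi.single q (1 : F)) (Pi.single q 1) = 0 from
        Subtype.ext (Matrix.ext fun a b => by simp [wedge_apply]; exact Or.inr (by ring)),
        show fO h2 hr (0 : Alt F r) = 1 from by
          have := fO_add h2 hr (0 : Alt F r) 0
          rwa [add_zero, left_eq_mul] at this, map_one]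
      rfl
    · exact flip_wedge_i h2 hr ρ hN q hq c (hfix q hq c)
  · by_cases hq : q = i
    · subst hq
      rw [show c • wedge (Pi.single p (1 : F)) (Pi.single q 1) = (-c) • wedge (Pi.single q 1) (Pi.single p 1) from
        Subtype.ext (Matrix.ext fun a b => by simp [wedge_apply]; ring)]
      exact flip_wedge_i h2 hr ρ hN p hp (-c) (hfix p hp (-c))
    · exact flip_wedge h2 hr ρ hN p q hp hq c (hv p q c hp hq)

include hU in
/-- The square torus element at a place fixes suitable fixed vectors. -/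
theorem square_fix {v : Fin k → ℂ} (hv : PO h2 hr ρ 0 v = v)
    (hfix : ∀ p, ∀ hp : p ≠ i, ∀ c : F, ρ (slO hr (TV hp c)) v = v) (a : Fˣ) :
    ρ (tO hr (sqU i a) (sqU_square i a)) v = v := by
  have hw := flip_mem_D h2 hr ρ hN (fun p q c _ _ => D_fix_fO h2 hr ρ hv _) hfix
  have hX : ∀ s, ρ (uO h2 hr (Pi.single i 1) s) v = v := fun s => hU v hv _ s
  have hY : ∀ s, ρ (N * uO h2 hr (Pi.single i 1) s * N) v = v := fun s => by
    rw [map_mul, map_mul, Module.End.mul_apply, Module.End.mul_apply, hU _ hw, N_sq ρ hN]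
  rw [show tO hr (sqU i a) (sqU_square i a) = uO h2 hr (Pi.single i 1) (a : F) *
      (N * uO h2 hr (Pi.single i 1) ((a : F)⁻¹) * N) * uO h2 hr (Pi.single i 1) ((a : F) - 1) *
      (N * uO h2 hr (Pi.single i 1) (-1) * N) * uO h2 hr (Pi.single i 1) (-1) from Subtype.ext (hN.square_eq a)]
  rw [map_mul, Module.End.mul_apply, hX, map_mul, Module.End.mul_apply, hY, map_mul, Module.End.mul_apply, hX,
    map_mul, Module.End.mul_apply, hY, hX]

end flip

variable (a : Fˣ) (hgen : ∀ x : Fˣ, ∃ m : ℕ, a ^ m = x) (ha2 : (a : F) * a ≠ 1) (hodd : Odd (Fintype.card F))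
  (hm : ∀ C : Alt F r, Dec C → C ≠ 0 → mO h2 hr ρ C = Fintype.card F)
include hU hgen ha2 hodd hm

/-- A weight other than minus one forces the opposite root group to fix. -/
theorem root_or_neg {i j : Fin r} (hadj : j.val = i.val + 1) {v : Fin k → ℂ} (hv : PO h2 hr ρ 0 v = v)
    (hfix : ∀ g, IsUni g.1 → ρ (slO hr g) v = v) {c : ℂ} (hc : ρ (slO hr (tK i j a)) v = c • v) (hc1 : c ≠ -1)
    (hsq : ρ (tO hr (sqU j a) (sqU_square j a)) v = v) (hij : i < j) (x : F) :
    ρ (slO hr (TV hij.ne' x)) v = v := by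
  obtain ⟨n, hn, h1, h2', h3, h4, h5⟩ := exists_flip h2 hr i
  set N : Om (Qo (F := F) r) := ⟨n, hn⟩
  have hN : IsFlip i N.1 := ⟨h1, h2', h3, h4, h5⟩
  set w := ρ N v with hw
  have hne : j ≠ i := hij.ne'
  have hlow : ∀ p : Fin r, p < i → ∀ c : F, ρ (fO h2 hr (c • wedge (Pi.single i 1) (Pi.single p 1))) w = w :=
    fun p hp c => flip_wedge_i h2 hr ρ hN p hp.ne c (hfix _ (isUni_tv hp c))
  have hrest : ∀ p q : Fin r, p ≠ i → q ≠ i →
      ∀ c : F, ρ (fO h2 hr (c • wedge (Pi.single p 1) (Pi.single q 1))) w = w :=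
    fun p q hp hq c => flip_wedge h2 hr ρ hN p q hp hq c (D_fix_fO h2 hr ρ hv _)
  -- components seeing the root vanish
  have hzero : ∀ C : Alt F r, C.1 i j ≠ 0 → PO h2 hr ρ C w = 0 := by
    intro C hCij
    by_contra hy
    have hsup : ∀ p q, p ≠ i → q ≠ i → C.1 p q = 0 := fun p q hp hq => by
      by_contra h; exact hy (comp_zero h2 hr ρ (hrest p q hp hq) h)
    have hsupl : ∀ p, p < i → C.1 i p = 0 := fun p hp => by
      by_contra h; exact hy (comp_zero h2 hr ρ (hlow p hp) h)
    set δ : Fin r → F := fun q => if j < q then -(C.1 i q) / C.1 i j else 0 with hδ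
    have hδj : δ j = 0 := if_neg (lt_irrefl j)
    have hδi : δ i = 0 := if_neg hij.not_gt
    set g : SpecialLinearGroup (Fin r) F := vt (Pi.single j 1) δ (by simp [hδj]) with hg
    have hgc : g.1 = 1 + vecMulVec (Pi.single j 1) δ := rfl
    have hguni : IsUni g.1 := by
      rw [hgc]
      refine ⟨fun p => ?_, fun p q hqp => ?_⟩
      · rw [Matrix.add_apply, Matrix.one_apply_eq, vecMulVec_apply]
        by_cases hp : p = j
        · rw [hp, hδj, mul_zero, add_zero]
        · simp [hp]
      · rw [Matrix.add_apply, Matrix.one_apply_ne hqp.ne', vecMulVec_apply]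
        by_cases hp : p = j
        · rw [hp] at hqp ⊢
          rw [show δ q = 0 from if_neg hqp.not_gt]; simp
        · simp [hp]
    have hgw : ρ (slO hr g) w = w := flip_move ρ hN
      (hN.conj_tv δ hne hδj hδi (SpecialLinearGroup.toGL g) hgc) (hfix g hguni)
    set C' := act g.1 C with hC'def
    have hC'w : PO h2 hr ρ C' w ≠ 0 := by
      intro h0
      apply hy
      have e := LinearMap.congr_fun (lO_move h2 hr ρ (SpecialLinearGroup.toGL g) (sl_sq_det g) C) w
      rw [Module.End.mul_apply, Module.End.mul_apply, ← slO_coe hr g, hgw] at e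
      rw [← e]
      show ρ (slO hr g) (PO h2 hr ρ C' w) = 0
      rw [h0, map_zero]
    have hentry : ∀ p q, C'.1 p q = C.1 p q + δ p * C.1 j q + δ q * C.1 p j := by
      intro p q
      show (g.1ᵀ * C.1 * g.1) p q = _
      rw [hgc, transpose_add, transpose_one, transpose_vecMulVec, Matrix.add_mul, Matrix.one_mul,
        Matrix.mul_add, Matrix.mul_one, Matrix.add_mul, Matrix.vecMulVec_mul, Matrix.mul_vecMulVec,
        Matrix.vecMulVec_mul_vecMulVec]
      simp [vecMulVec_apply, alt_diag]
      ring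
    have hplane : ∀ p q, p ≠ i → p ≠ j → C'.1 p q = 0 := by
      intro p q hpi hpj
      rw [hentry, hsup p j hpi hne, mul_zero, add_zero]
      by_cases hq : q = i
      · subst hq
        rw [alt_skew C p q, alt_skew C j q]
        by_cases hp : j < p
        · simp only [hδ, if_pos hp]
          field_simp
          ring
        · have : p < q := by
            have a1 : p.val ≠ q.val := fun e => hpi (Fin.ext e)
            have a2 : p.val ≠ j.val := fun e => hpj (Fin.ext e)
            have a3 : ¬ j.val < p.val := hp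
            show p.val < q.val
            omega
          rw [hsupl p this, show δ p = 0 from if_neg hp]
          ring
      · rw [hsup p q hpi hq, hsup j q hne hq, mul_zero, add_zero]
    have hC'ij : C'.1 i j ≠ 0 := by
      rw [hentry, hδi, hδj, zero_mul, zero_mul, add_zero, add_zero]; exact hCij
    have hC'0 : C' ≠ 0 := fun h => hC'ij (by rw [h]; rfl)
    have hm' := hm C' (plane_dec C' hplane) hC'0
    have hC'ji : C'.1 j i ≠ 0 := by rw [alt_skew]; exact neg_ne_zero.2 hC'ij
    set y : LinearMap.range (PO h2 hr ρ C') := ⟨PO h2 hr ρ C' w, w, rfl⟩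
    have hyfix : ∀ t, Eo h2 hr ρ C' (Pi.single j 1) t y = y := fun t => Subtype.ext (by
      show ρ (uO h2 hr (Pi.single j 1) t) (PO h2 hr ρ C' w) = PO h2 hr ρ C' w
      have hnrm : ρ (uO h2 hr (Pi.single j 1) t) * PO h2 hr ρ C' = PO h2 hr ρ C' * ρ (uO h2 hr (Pi.single j 1) t) :=
        uO_nrm h2 hr ρ C' _ t
      rw [← Module.End.mul_apply, hnrm, Module.End.mul_apply]
      congr 1
      refine flip_move ρ hN (g' := uO h2 hr (Pi.single j 1) (-t)) ?_ (hU v hv _ _)
      show N.1 * EUo (Pi.single j 1) (-t) = EUo (Pi.single j 1) t * N.1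
      rw [hN.conj_EUo _ (by simp [hne.symm]), neg_neg])
    have hneg := line_neg h2 hr ρ hne C' (fun p q hp hq => hplane p q hq hp) hC'ji hm' a hgen ha2 hodd y hyfix
    have hh : ρ (slO hr (tK j i a)) w = c • w := by
      have e : slO hr (tK j i a) * N = N * (slO hr (tK i j a) * tO hr (sqU j a) (sqU_square j a)) := by
        refine Subtype.ext ?_
        have hd : Function.update (wU j i a) i (wU j i a i)⁻¹ = wU i j a * sqU j a := by
          funext p
          rcases eq_or_ne p i with rfl | hpi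
          · simp [wU, sqU, hne.symm]
          · rcases eq_or_ne p j with rfl | hpj
            · simp [wU, sqU, hpi]
            · simp [wU, sqU, hpi, hpj]
        have h := congrArg (fun x => N.1 * x * N.1) (hN.conj_dG (wU j i a))
        simp only [← mul_assoc, hN.sq_one, one_mul] at h
        simp only [mul_assoc, hN.sq_one, mul_one] at h
        rw [hd, dG_mul, LGo_mul, dG_wU, dG_wU] at h
        exact h
      rw [hw, ← Module.End.mul_apply, ← map_mul, e, map_mul, map_mul, Module.End.mul_apply, Module.End.mul_apply,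
        hsq, hc, map_smul]
    have hhy : ρ (slO hr (tK j i a)) y.1 = c • y.1 := by
      show ρ _ (PO h2 hr ρ C' w) = c • PO h2 hr ρ C' w
      have hnrm : ρ (slO hr (tK j i a)) * PO h2 hr ρ C' = PO h2 hr ρ C' * ρ (slO hr (tK j i a)) :=
        slO_nrm h2 hr ρ _ (act_tK_fix hne C' (fun p q hp hq => hplane p q hq hp) a)
      rw [← Module.End.mul_apply, hnrm, Module.End.mul_apply, hh, map_smul]
    rw [hneg] at hhy
    refine hC'w ?_
    have : (c + 1) • y.1 = 0 := by rw [add_smul, one_smul, ← hhy, neg_add_cancel]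
    exact (smul_eq_zero.1 this).resolve_left fun h => hc1 (by linear_combination h)
  -- transport back
  have hwfix := fix_of_comp h2 hr ρ hzero x
  have e : slO hr (TV hij.ne' x) * N = N * fO h2 hr (x • wedge (Pi.single i 1) (Pi.single j 1)) :=
    Subtype.ext (hN.conj_zBo_tv hne x).symm
  have := congrArg (fun g => ρ g w) e
  simp only [map_mul, Module.End.mul_apply, hwfix] at this
  rwa [hw, N_sq ρ hN] at this

/-- The fixed space is not a trivial module of the special linear group. -/
theorem tau_nontrivial {k' : ℕ} (hk' : r = k' + 2) :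
    ∃ g, τO h2 hr ρ g ≠ 1 := by
  by_contra hcon
  push Not at hcon
  have hsl : ∀ v, PO h2 hr ρ 0 v = v → ∀ g, ρ (slO hr g) v = v := fun v hv g => by
    have h := congrArg Subtype.val (LinearMap.congr_fun (hcon g) ⟨v, v, hv⟩)
    exact h
  set i : Fin r := ⟨0, by omega⟩ with hi
  set j : Fin r := ⟨1, by omega⟩ with hj
  have hji : j ≠ i := fun h => absurd (congrArg Fin.val h) (by simp [hi, hj])
  obtain ⟨n, hn, h1, h2', h3, h4, h5⟩ := exists_flip h2 hr i
  set N : Om (Qo (F := F) r) := ⟨n, hn⟩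
  have hN : IsFlip i N.1 := ⟨h1, h2', h3, h4, h5⟩
  set C : Alt F r := wedge (Pi.single j 1) (Pi.single i 1) with hCdef
  have hC : ∀ p q, p ≠ j → p ≠ i → C.1 p q = 0 := fun p q hpj hpi => by simp [hCdef, wedge_apply, hpi, hpj]
  have hcji : C.1 j i ≠ 0 := by simp [hCdef, wedge_apply, hji, hji.symm]
  have hC0 : C ≠ 0 := fun h => hcji (by rw [h]; rfl)
  have hmC := hm C (plane_dec C hC) hC0
  obtain ⟨e0, he0, hE, hu⟩ := line_exists h2 hr ρ C hcji hmC
  have hneg := line_neg h2 hr ρ hji C hC hcji hmC a hgen ha2 hodd e0 hE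
  -- the line is fixed by the column of root groups
  have hcol : ∀ p, ∀ hp : p ≠ i, ∀ x : F, ρ (slO hr (TV hp x)) e0.1 = e0.1 := by
    intro p hp x
    let X : F → stC (F := F) C := fun u => ⟨TV hp u, act_tv_fix C hC hp (Or.inr ⟨rfl, hp⟩) u⟩
    let T : stC (F := F) C := ⟨tK j i a, act_tK_fix hji C hC a⟩
    have hfixj : ∀ u, (X u).1.1 *ᵥ (Pi.single j 1 : Fin r → F) = (1 : F) • Pi.single j 1 := fun u => by
      show (1 + Matrix.single p i u) *ᵥ _ = _
      rw [add_mulVec, one_mulVec, one_smul]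
      funext s
      simp [Matrix.single_apply, hji.symm]
    have hTj : T.1.1 *ᵥ (Pi.single j 1 : Fin r → F) = (a : F) • Pi.single j 1 := by
      show diagonal (wK j i a) *ᵥ _ = _
      rw [diagonal_mulVec_single, ← Pi.single_smul, smul_eq_mul]
      simp [wK, hji]
    set q := wK j i a p / wK j i a i with hq
    have hq1 : q ≠ 1 := by
      by_cases hpj : p = j
      · rw [hq, hpj]
        simp [wK, hji, hji.symm]
        exact fun h => ha2 h
      · rw [hq]
        simp [wK, hp, hpj, hji.symm]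
        intro h; apply ha2; rw [h]; simp
    obtain ⟨κ, hκ⟩ := line_scal h2 hr ρ hji C hC hcji hmC hE hu T a.ne_zero hTj
    obtain ⟨s, hs⟩ := line_scal h2 hr ρ hji C hC hcji hmC hE hu (X x) one_ne_zero (hfixj x)
    set x0 := x / (q - 1) with hx0
    obtain ⟨s0, hs0⟩ := line_scal h2 hr ρ hji C hC hcji hmC hE hu (X x0) one_ne_zero (hfixj x0)
    have e : T * X x0 = X x * X x0 * T := Subtype.ext (by
      show tK j i a * TV hp x0 = TV hp x * TV hp x0 * tK j i a
      rw [tK_tv, ← Matrix.SpecialLinearGroup.transvection_add]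
      congr 2
      rw [hx0, div_eq_mul_inv]
      linear_combination x * mul_inv_cancel₀ (sub_ne_zero.2 hq1))
    have h := congrArg (fun g => stOp h2 hr ρ C g e0) e
    simp only [map_mul, Module.End.mul_apply, hκ, hs0, hs, map_smul, smul_smul] at h
    have h' := smul_left_injective ℂ he0 h
    have hne : ∀ (g : stC (F := F) C) (z : ℂ), stOp h2 hr ρ C g e0 = z • e0 → z ≠ 0 := fun g z hg hz => by
      have h0 : ρ (slO hr g.1) e0.1 = 0 := by
        rw [← stOp_coe h2 hr ρ C g e0, hg, hz, zero_smul]; rfl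
      have := congrArg (ρ (slO hr g.1)⁻¹) h0
      rw [← Module.End.mul_apply, ← map_mul, inv_mul_cancel, map_one, map_zero] at this
      exact he0 (Subtype.ext this)
    have : s = 1 := by
      refine mul_left_cancel₀ (mul_ne_zero (hne _ _ hκ) (hne _ _ hs0)) ?_
      linear_combination -h'
    show ρ (slO hr (X x).1) e0.1 = e0.1
    rw [← stOp_coe h2 hr ρ C (X x) e0, hs, this, one_smul]
  have hwedge : ∀ (p q : Fin r) (c : F), p ≠ i → q ≠ i →
      ρ (fO h2 hr (c • wedge (Pi.single p 1) (Pi.single q 1))) e0.1 = e0.1 := by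
    intro p q c hp hq
    obtain ⟨y, hy⟩ := e0.2
    rw [← hy, ← Module.End.mul_apply, rho_PO, LinearMap.smul_apply, chi_apply, pair_smul, pair_wedge, bf_single]
    have : C.1 p q = 0 := by simp [hCdef, wedge_apply, hp, hq]
    rw [this, mul_zero, AddChar.map_zero_eq_one, one_smul]
  set v := ρ N e0.1 with hv
  have hvD : PO h2 hr ρ 0 v = v := flip_mem_D h2 hr ρ hN hwedge hcol
  have hsq := square_fix h2 hr ρ hU hN hvD (fun p hp c => hsl v hvD _) a
  have e : N * slO hr (tK j i a) = (slO hr (tK j i a) * tO hr (sqU i a) (sqU_square i a)) * N := by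
    refine Subtype.ext ?_
    have hd : Function.update (wU j i a) i (wU j i a i)⁻¹ = wU j i a * sqU i a := by
      funext p
      rcases eq_or_ne p i with rfl | hpi
      · simp [wU, sqU, hji.symm]
      · simp [wU, sqU, hpi]
    have h := hN.conj_dG (wU j i a)
    rw [hd, dG_mul, LGo_mul, dG_wU] at h
    exact h
  have hh := congrArg (fun g => ρ g e0.1) e
  simp only [map_mul, Module.End.mul_apply, hneg, map_neg, ← hv, hsq, hsl v hvD] at hh
  have h0 : (2 : ℂ) • v = 0 := by rw [two_smul]; nth_rewrite 1 [← hh]; exact neg_add_cancel v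
  refine he0 (Subtype.ext ?_)
  rw [show e0.1 = ρ N v from (N_sq ρ hN _).symm, (smul_eq_zero.1 h0).resolve_left two_ne_zero, map_zero]
  rfl

end CfsgLib.OrthDeg
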