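import Mathlib
import Cfsg.Agent.Lib.OrthDeg.SLTorus
import Cfsg.Agent.Lib.SympWeil.Basic

/-! A module of the smallest degree of a special linear group has no fixed vectors with quadratic torus
weights, provided that a trivial weight forces a fixed lower root group. -/

set_option autoImplicit false
set_option maxHeartbeats 1600000

namespace CfsgLib.OrthDeg

open Matrix CfsgLib.SLMin
open CfsgLib.SLPerfect (tr_coe comm_transvection diag2n_eq)
open scoped commutatorElement

variable {F : Type*} [Field F] {n : ℕ}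

local notation "TV" => Matrix.SpecialLinearGroup.transvection

section weights

variable {W : Type} [AddCommGroup W] [Module ℂ W] (ρ : Representation ℂ (SpecialLinearGroup (Fin n) F) W) (a : Fˣ)

/-- A fixed vector with sign weights. -/
def Pat (e : Fin n → ℂ) (v : W) : Prop :=
  v ≠ 0 ∧ v ∈ ufix ρ ∧ ∀ p q, ρ (tK p q a) v = (e p * e q) • v

theorem tv_fix {v : W} (hv : v ∈ ufix ρ) {i j : Fin n} (h : i < j) (t : F) : ρ (TV h.ne t) v = v :=
  hv _ (isUni_tv h t)

theorem ufix_tK (p q : Fin n) (t : Fˣ) {x : W} (hx : x ∈ ufix ρ) : ρ (tK p q t) x ∈ ufix ρ := by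
  intro g hg
  have hK : (tK p q t * tK p q t⁻¹ : SpecialLinearGroup (Fin n) F) = 1 := by
    rw [← tK_mul, mul_inv_cancel, tK_one]
  rw [← Module.End.mul_apply, ← map_mul,
    show g * tK p q t = tK p q t * (tK p q t⁻¹ * g * tK p q t) by rw [← mul_assoc, ← mul_assoc, hK, one_mul],
    map_mul, Module.End.mul_apply, hx _ (isUni_tK_conj p q t hg)]

theorem tK_comm (p q p' q' : Fin n) (s t : Fˣ) :
    (tK p q s * tK p' q' t : SpecialLinearGroup (Fin n) F) = tK p' q' t * tK p q s := by
  refine Subtype.ext ?_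
  show diagonal (wK p q s) * diagonal (wK p' q' t) = diagonal (wK p' q' t) * diagonal (wK p q s)
  rw [diagonal_mul_diagonal, diagonal_mul_diagonal]
  congr 1
  funext k
  ring

variable [Fintype F] [DecidableEq F] (hgen : ∀ x : Fˣ, ∃ m : ℕ, a ^ m = x) (ha1 : a ≠ 1)
include hgen ha1

/-- The simple reflection operator. -/
theorem pat_swap {i j : Fin n} (hadj : j.val = i.val + 1) {e : Fin n → ℂ} {v : W}
    (hv : Pat ρ a e v) (hs : e i * e j = -1) : ∃ u, Pat ρ a (e ∘ Equiv.swap i j) u := by
  classical
  obtain ⟨hv0, hvu, hvK⟩ := hv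
  have hlt : i < j := by show i.val < j.val; omega
  have hij : i ≠ j := hlt.ne
  have hji : j ≠ i := hij.symm
  -- the weight on all torus elements of the root
  have hf : ∀ x : Fˣ, ∃ c : ℂ, ρ (tK i j x) v = c • v ∧ ρ (tK i j (a * x)) v = (-c) • v := by
    intro x
    obtain ⟨m, rfl⟩ := hgen x
    have hpow : ∀ m : ℕ, ρ (tK i j (a ^ m)) v = ((-1 : ℂ) ^ m) • v := by
      intro m
      induction m with
      | zero => rw [pow_zero, pow_zero, tK_one, map_one, one_smul]; rfl
      | succ m ih =>
        rw [pow_succ', tK_mul, map_mul, Module.End.mul_apply, ih, map_smul, hvK, hs, smul_smul, ← pow_succ]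
    exact ⟨_, hpow m, by rw [← pow_succ', hpow, pow_succ', neg_one_mul]⟩
  choose f hf1 hf2 using hf
  have hfa : ∀ x, f (a * x) = -f x := fun x =>
    smul_left_injective ℂ hv0 ((hf1 (a * x)).symm.trans (hf2 x))
  let f' : F → ℂ := fun t => if h : t = 0 then 0 else f (Units.mk0 t h)
  have hsum : ∑ t ∈ Finset.univ.erase (0 : F), f' t = 0 := by
    have h1 : ∑ t, f' t = ∑ t ∈ Finset.univ.erase (0 : F), f' t := by
      rw [← Finset.add_sum_erase _ _ (Finset.mem_univ (0 : F))]
      simp [f']
    have h2 : ∑ t, f' t = -∑ t, f' t := by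
      rw [← Finset.sum_neg_distrib]
      refine (Fintype.sum_equiv (Equiv.mulLeft₀ (a : F) a.ne_zero) (fun t => -f' t) f' fun t => ?_).symm
      show -f' t = f' ((a : F) * t)
      by_cases ht : t = 0
      · simp [f', ht]
      · have : Units.mk0 ((a : F) * t) (mul_ne_zero a.ne_zero ht) = a * Units.mk0 t ht := Units.ext rfl
        simp only [f', dif_neg ht, dif_neg (mul_ne_zero a.ne_zero ht), this, hfa, neg_neg]
    rw [← h1]
    linear_combination h2 / 2
  obtain ⟨γ, hγ⟩ : ∃ γ, ρ (tK i j (-1)) v = γ • v := ⟨_, hf1 (-1)⟩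
  have hγ0 : γ ≠ 0 := fun h => by
    have := congrArg (ρ (tK i j (-1))) hγ
    rw [h, zero_smul, map_zero, ← Module.End.mul_apply, ← map_mul, ← tK_mul, neg_one_mul, neg_neg, tK_one,
      map_one] at this
    exact hv0 this
  set nn : SpecialLinearGroup (Fin n) F := nW hij
  set u : W := ∑ t : F, ρ (TV hij t * nn) v with hu
  have hfixed : ∀ t, ρ (TV hij t) v = v := fun t => tv_fix ρ hvu hlt t
  have hterm : ∀ x : Fˣ, ρ (nn * TV hij (x : F) * nn) v =
      (γ * f x) • ρ (TV hij (-((x⁻¹ : Fˣ) : F)) * nn) v := by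
    intro x
    have e1 : nn * TV hij (x : F) = TV hij.symm (-(x : F)) * nn := nW_tv' hij _
    have e2 := lower_eq hij x⁻¹
    rw [inv_inv] at e2
    have e3 : (tK i j x⁻¹ * nn : SpecialLinearGroup (Fin n) F) = nn * tK i j x := by
      rw [tK_nW, Equiv.swap_apply_left, Equiv.swap_apply_right, tK_symm_inv]
    rw [e1, mul_assoc, nW_sq, map_mul, Module.End.mul_apply, hγ, map_smul, e2, e3, map_mul, Module.End.mul_apply,
      hfixed, map_mul, Module.End.mul_apply, map_mul, Module.End.mul_apply, hf1, map_smul, map_smul, smul_smul,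
      map_mul, Module.End.mul_apply]
  have hu0 : u ≠ 0 := by
    intro h0
    have hzero : ∑ s : F, ρ (TV hij s * nn) u = 0 :=
      Finset.sum_eq_zero fun s _ => by rw [h0, map_zero]
    have hexp : ∑ s : F, ρ (TV hij s * nn) u = ∑ t : F, ∑ s : F, ρ (TV hij s) (ρ (nn * TV hij t * nn) v) := by
      rw [Finset.sum_comm]
      refine Finset.sum_congr rfl fun s _ => ?_
      rw [hu, map_sum]
      refine Finset.sum_congr rfl fun t _ => ?_
      simp only [map_mul, Module.End.mul_apply]
    have h00 : ∑ s : F, ρ (TV hij s) (ρ (nn * TV hij 0 * nn) v) = ((Fintype.card F : ℂ) * γ) • v := by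
      rw [Finset.sum_congr rfl fun s _ => (by
        rw [SpecialLinearGroup.transvection_coeff_zero, mul_one, nW_sq, hγ, map_smul, hfixed] :
          ρ (TV hij s) (ρ (nn * TV hij 0 * nn) v) = γ • v), Finset.sum_const, Finset.card_univ,
        ← Nat.cast_smul_eq_nsmul ℂ, smul_smul]
    have hrest : ∀ t ∈ Finset.univ.erase (0 : F),
        ∑ s : F, ρ (TV hij s) (ρ (nn * TV hij t * nn) v) = (γ * f' t) • u := by
      intro t ht
      have ht0 := Finset.ne_of_mem_erase ht
      have e := hterm (Units.mk0 t ht0)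
      rw [Units.val_mk0] at e
      simp only [f', dif_neg ht0, e, map_smul]
      rw [← Finset.smul_sum]
      congr 1
      refine Fintype.sum_equiv (Equiv.addRight (-(((Units.mk0 t ht0)⁻¹ : Fˣ) : F))) _ _ fun s => ?_
      rw [Equiv.coe_addRight, ← Module.End.mul_apply, ← map_mul, ← mul_assoc,
        ← SpecialLinearGroup.transvection_add]
    rw [hexp, ← Finset.add_sum_erase _ _ (Finset.mem_univ (0 : F)), h00, Finset.sum_congr rfl hrest,
      ← Finset.sum_smul, ← Finset.mul_sum, hsum, mul_zero, zero_smul, add_zero, smul_eq_zero] at hzero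
    rcases hzero with h | h
    · exact mul_ne_zero (Nat.cast_ne_zero.2 Fintype.card_ne_zero) hγ0 h
    · exact hv0 h
  refine ⟨u, hu0, fun g hg => ?_, fun p q => ?_⟩
  · rw [hu, map_sum]
    refine Fintype.sum_equiv (Equiv.addRight (g.1 i j)) _ _ fun t => ?_
    rw [Equiv.coe_addRight, ← Module.End.mul_apply, ← map_mul]
    set t' := t + g.1 i j
    set M : SpecialLinearGroup (Fin n) F := TV hij (-t') * g * TV hij t
    have hMu : IsUni M.1 := ((isUni_tv hlt _).mul hg).mul (isUni_tv hlt _)
    have hM0 : M.1 i j = 0 := by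
      show ((TV hij (-t') : SpecialLinearGroup (Fin n) F).1 * g.1 *
        (TV hij t : SpecialLinearGroup (Fin n) F).1) i j = 0
      rw [((isUni_tv hlt _).mul hg).mul_super (isUni_tv hlt _) hadj, (isUni_tv hlt _).mul_super hg hadj,
        tv_apply_super, tv_apply_super]
      ring
    have e : g * (TV hij t * nn) = TV hij t' * nn * (nW hij.symm * M * nn) := by
      rw [show TV hij t' * nn * (nW hij.symm * M * nn) = TV hij t' * (nn * nW hij.symm) * M * nn by
        simp only [mul_assoc], nW_inv' hij, mul_one]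
      simp only [M, ← mul_assoc]
      rw [← SpecialLinearGroup.transvection_add, add_neg_cancel, SpecialLinearGroup.transvection_coeff_zero,
        one_mul]
    rw [e, map_mul, Module.End.mul_apply, hvu _ (isUni_nW_conj hij hadj hMu hM0)]
  · rw [hu, map_sum, Finset.smul_sum]
    refine Fintype.sum_equiv (Equiv.mulLeft₀ (wK p q a i / wK p q a j)
      (div_ne_zero (wK_ne p q a i) (wK_ne p q a j))) _ _ fun t => ?_
    rw [← Module.End.mul_apply, ← map_mul, ← mul_assoc, tK_tv, mul_assoc, tK_nW, ← mul_assoc, map_mul,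
      Module.End.mul_apply, hvK, map_smul]
    rfl

end weights

section main

variable {l : ℕ} {W : Type} [AddCommGroup W] [Module ℂ W]
  (ρ : Representation ℂ (SpecialLinearGroup (Fin (l + 1)) F) W) (a : Fˣ)

omit [AddCommGroup W] [Module ℂ W] in
/-- A vector fixed by the simple root groups is fixed by everything. -/
theorem root_gen (H : Subgroup (SpecialLinearGroup (Fin (l + 1)) F)) (hl : 1 ≤ l)
    (hup : ∀ (i j : Fin (l + 1)) (h : i < j) (t : F), TV h.ne t ∈ H)
    (hlow : ∀ (i : Fin l) (t : F), TV (Fin.castSucc_lt_succ (i := i)).ne' t ∈ H) : H = ⊤ := by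
  have hd : ∀ d : ℕ, ∀ (i j : Fin (l + 1)) (h : j < i), i.val = j.val + d + 1 → ∀ t : F, TV h.ne' t ∈ H := by
    intro d
    induction d with
    | zero =>
      intro i j h he t
      have hj : j.val < l := by omega
      have e1 : j = (⟨j.val, hj⟩ : Fin l).castSucc := Fin.ext rfl
      have e2 : i = (⟨j.val, hj⟩ : Fin l).succ := Fin.ext (by simp; omega)
      have := hlow ⟨j.val, hj⟩ t
      convert this
    | succ d ih =>
      intro i j h he t
      have hj : j.val < l := by omega
      set k : Fin (l + 1) := ⟨j.val + 1, by omega⟩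
      have hki : k < i := by show j.val + 1 < i.val; omega
      have hjk : j < k := by show j.val < j.val + 1; omega
      have hk : TV hjk.ne' (1 : F) ∈ H := hlow ⟨j.val, hj⟩ 1
      have := comm_transvection (F := F) hki.ne' hjk.ne' h.ne' t 1
      rw [mul_one] at this
      rw [← this, commutatorElement_def]
      exact mul_mem (mul_mem (mul_mem (ih i k hki (by simp [k]; omega) t) hk) (inv_mem (ih i k hki (by simp [k]; omega) t)))
        (inv_mem hk)
  have htr : ∀ (i j : Fin (l + 1)) (h : i ≠ j) (t : F), TV h t ∈ H := fun i j h t => by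
    rcases lt_or_gt_of_ne h with h' | h'
    · exact hup i j h' t
    · exact hd (i.val - j.val - 1) i j h' (by have : j.val < i.val := h'; omega) t
  haveI : Nontrivial (Fin (l + 1)) := Fin.nontrivial_iff_two_le.mpr (by omega)
  rw [eq_top_iff]
  intro M _
  refine SpecialLinearGroup.diagonal_transvection_induction' (fun A => A ∈ H) M
    (fun i j hij c hc => ?_) htr (fun A B => mul_mem)
  rw [diag2n_eq hij hc]
  exact mul_mem (mul_mem (mul_mem (mul_mem (htr _ _ _ _) (htr _ _ _ _)) (htr _ _ _ _)) (htr _ _ _ _))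
    (htr _ _ _ _)

/-- The stabiliser of a vector. -/
def stabV (v : W) : Subgroup (SpecialLinearGroup (Fin (l + 1)) F) where
  carrier := {g | ρ g v = v}
  mul_mem' {x y} hx hy := by
    show ρ (x * y) v = v
    rw [map_mul, Module.End.mul_apply, show ρ y v = v from hy, show ρ x v = v from hx]
  one_mem' := by show ρ 1 v = v; rw [map_one]; rfl
  inv_mem' {x} hx := by
    show ρ x⁻¹ v = v
    conv_lhs => rw [← show ρ x v = v from hx, ← Module.End.mul_apply, ← map_mul, inv_mul_cancel, map_one]
    rfl

theorem mem_stabV {v : W} {g : SpecialLinearGroup (Fin (l + 1)) F} : g ∈ stabV ρ v ↔ ρ g v = v := Iff.rfl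

/-- A torus element of a root fixes what both root groups fix. -/
theorem tK_fix {i j : Fin (l + 1)} (h : i ≠ j) (t : Fˣ) {v : W} (h1 : ∀ x : F, ρ (TV h x) v = v)
    (h2 : ∀ x : F, ρ (TV h.symm x) v = v) : ρ (tK i j t) v = v := by
  rw [← mem_stabV, tK_eq_diag2n h, diag2n_eq]
  exact mul_mem (mul_mem (mul_mem (mul_mem (h1 _) (h2 _)) (h1 _)) (h2 _)) (h1 _)

variable [Fintype F] [DecidableEq F] (hgen : ∀ x : Fˣ, ∃ m : ℕ, a ^ m = x) (ha1 : a ≠ 1)
include hgen ha1

theorem pat_perm {e : Fin (l + 1) → ℂ} (he : ∀ p, e p = 1 ∨ e p = -1) {v : W} (hv : Pat ρ a e v)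
    (σ : Equiv.Perm (Fin (l + 1))) : ∃ u, Pat ρ a (e ∘ σ) u := by
  have hmem : σ ∈ Submonoid.closure (Set.range fun i : Fin l => Equiv.swap i.castSucc i.succ) := by
    rw [Equiv.Perm.mclosure_swap_castSucc_succ]; trivial
  revert e v
  induction hmem using Submonoid.closure_induction with
  | mem x hx =>
    obtain ⟨i, rfl⟩ := hx
    intro e he v hv
    by_cases h : e i.castSucc = e i.succ
    · refine ⟨v, ?_⟩
      rwa [show e ∘ Equiv.swap i.castSucc i.succ = e from funext fun p => by
        show e (Equiv.swap i.castSucc i.succ p) = e p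
        rw [Equiv.swap_apply_def]; split_ifs with h1 h2 <;> simp [*]]
    · refine pat_swap ρ a hgen ha1 (by simp) hv ?_
      rcases he i.castSucc with h1 | h1 <;> rcases he i.succ with h2 | h2 <;> simp [h1, h2] at h ⊢
  | one => intro e he v hv; exact ⟨v, hv⟩
  | mul x y _ _ hx hy =>
    intro e he v hv
    obtain ⟨u, hu⟩ := hx he hv
    exact hy (fun p => he (x p)) hu

variable [FiniteDimensional ℂ W]

/-- Two separated sign changes are impossible. -/
theorem no_pat_four (hl : 3 ≤ l) (he1 : ∀ b : Fin l → F, b ≠ 0 → dm ρ b = 1) (ha2 : (a : F) * a ≠ 1)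
    {e : Fin (l + 1) → ℂ} {v : W} (hv : Pat ρ a e v) (h01 : e 0 * e ⟨1, by omega⟩ = -1)
    (h23 : e ⟨2, by omega⟩ * e ⟨3, by omega⟩ = -1) : False := by
  classical
  obtain ⟨hv0, hvu, hvK⟩ := hv
  set i1 : Fin (l + 1) := ⟨1, by omega⟩ with hi1
  set i2 : Fin (l + 1) := ⟨2, by omega⟩ with hi2
  set i3 : Fin (l + 1) := ⟨3, by omega⟩ with hi3
  have h01' : (0 : Fin (l + 1)) ≠ i1 := fun h => absurd (congrArg Fin.val h) (by simp [hi1])
  have hlt : (0 : Fin (l + 1)) < i1 := by show (0 : ℕ) < 1; omega
  have hadj : i1.val = (0 : Fin (l + 1)).val + 1 := by simp [hi1]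
  set u := ρ (nW h01') v with hu
  set z : Fin l := ⟨0, by omega⟩ with hz
  -- the vector is fixed by the first row outside the first entry
  have hother : ∀ (p : Fin l), p ≠ z → ∀ x : F, ρ (tx (Pi.single p x)) u = u := by
    intro p hp x
    have h0 : (tx (Pi.single p x : Fin l → F)).1 0 i1 = 0 := by
      rw [tx_coe, show i1 = z.succ from Fin.ext rfl, blkM_0s, Pi.single_eq_of_ne (Ne.symm hp)]
    rw [hu, ← Module.End.mul_apply, ← map_mul,
      show tx (Pi.single p x : Fin l → F) * nW h01' =
        nW h01' * (nW h01'.symm * tx (Pi.single p x : Fin l → F) * nW h01') by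
          rw [← mul_assoc, ← mul_assoc, nW_inv' h01', one_mul],
      map_mul, Module.End.mul_apply, hvu _ (isUni_nW_conj h01' hadj (isUni_tx _) h0)]
  have hKu : ρ (tK i2 i3 a) u = -u := by
    rw [hu, ← Module.End.mul_apply, ← map_mul, tK_nW, Equiv.swap_apply_of_ne_of_ne, Equiv.swap_apply_of_ne_of_ne,
      map_mul, Module.End.mul_apply, hvK, h23, neg_one_smul, map_neg] <;>
    exact fun h => absurd (congrArg Fin.val h) (by simp [hi1, hi2, hi3])
  -- the non-trivial components vanish
  have hzero : ∀ b : Fin l → F, b ≠ 0 → pr ρ b u = 0 := by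
    intro b hb
    by_contra hy
    set y := pr ρ b u with hy'
    have hbp : ∀ p, p ≠ z → b p = 0 := by
      intro p hp
      by_contra hbp
      obtain ⟨x, hx⟩ := CfsgLib.SympWeil.ψ_ne hbp
      have e1 := congrArg (pr ρ b) (hother p hp x)
      have e2 : pr ρ b * ρ (tx (Pi.single p x)) = ρ (tx (Pi.single p x)) * pr ρ b := by
        simp only [rho_tx ρ (Pi.single p x), Finset.mul_sum, Finset.sum_mul, mul_smul_comm, smul_mul_assoc]
        refine Finset.sum_congr rfl fun c _ => ?_
        rw [pr_mul, pr_mul]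
        by_cases h : b = c
        · rw [if_pos h, if_pos h.symm, h]
        · rw [if_neg h, if_neg (Ne.symm h)]
      rw [← Module.End.mul_apply, e2, rho_pr, LinearMap.smul_apply, single_dotProduct] at e1
      refine hx (smul_left_injective ℂ hy ?_)
      show _ • y = (1 : ℂ) • y
      rw [one_smul, hy', mul_comm (b p)]; exact e1
    have hline : Module.finrank ℂ (LinearMap.range (pr ρ b)) = 1 := he1 b hb
    obtain ⟨w, -, hw⟩ := finrank_eq_one_iff'.1 hline
    let C : SpecialLinearGroup (Fin (l + 1)) F → Prop := fun g => ρ g * pr ρ b = pr ρ b * ρ g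
    have hscal : ∀ g, C g → ∃ c : ℂ, ρ g y = c • y := by
      intro g hg
      have hm : ρ g y ∈ LinearMap.range (pr ρ b) := ⟨ρ g u, (LinearMap.congr_fun hg u).symm⟩
      obtain ⟨c1, hc1⟩ := hw ⟨_, hm⟩
      obtain ⟨c2, hc2⟩ := hw ⟨y, u, hy'.symm⟩
      have hc1' : c1 • w.1 = ρ g y := congrArg Subtype.val hc1
      have hc2' : c2 • w.1 = y := congrArg Subtype.val hc2
      have hc20 : c2 ≠ 0 := fun h => hy (by rw [← hc2', h, zero_smul])
      refine ⟨c1 / c2, ?_⟩
      rw [← hc1']
      conv_rhs => rw [← hc2', smul_smul, div_mul_cancel₀ c1 hc20]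
    have hemb : ∀ (A : SpecialLinearGroup (Fin l) F), A.1 *ᵥ b = b → C (emb A) := fun A hA =>
      lev_pr ρ 1 A.1 (by rw [one_mul]; exact A.2) (by rw [one_smul]; exact hA)
    -- the Levi torus and root groups stabilise the character
    set j1 : Fin l := ⟨1, by omega⟩
    set j2 : Fin l := ⟨2, by omega⟩
    have hj1 : j1 ≠ z := fun h => absurd (congrArg Fin.val h) (by simp [j1, hz])
    have hj2 : j2 ≠ z := fun h => absurd (congrArg Fin.val h) (by simp [j2, hz])
    have hsucc : ∀ (p : Fin (l + 1)) (k : Fin l), p = k.succ → p ≠ 0 := fun p k h => h ▸ Fin.succ_ne_zero k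
    have hCK : C (tK i2 i3 a) := by
      have e : tK i2 i3 a = emb (tK j1 j2 a) := by
        refine Subtype.ext ?_
        rw [emb_coe, tK_coe, tK_coe]
        ext p q
        induction p using Fin.cases with
        | zero =>
          induction q using Fin.cases with
          | zero => simp [blkM_00, wK, hi2, hi3, Fin.ext_iff]
          | succ q => simp [blkM_0s, Fin.ext_iff]
        | succ p =>
          induction q using Fin.cases with
          | zero => simp [blkM_s0, Fin.ext_iff]
          | succ q =>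
            rw [blkM_ss]
            by_cases h : p = q
            · subst h; simp [wK, hi2, hi3, j1, j2, Fin.ext_iff]
            · rw [diagonal_apply_ne _ h, diagonal_apply_ne _ (fun e => h (Fin.succ_injective _ e))]
      rw [e]
      refine hemb _ (funext fun p => ?_)
      rw [tK_coe, mulVec_diagonal]
      by_cases hp : p = z
      · subst hp; simp [wK, hj1.symm, hj2.symm]
      · rw [hbp p hp, mul_zero]
    have hfixT : ∀ (p q : Fin l) (hpq : p ≠ q), q ≠ z →
        ∀ (hpq' : p.succ ≠ q.succ), (wK i2 i3 a p.succ / wK i2 i3 a q.succ) ≠ 1 →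
        ∀ x : F, ρ (TV hpq' x) y = y := by
      intro p q hpq hq hpq' hr x
      have hCT : ∀ x : F, C (TV hpq' x) := fun x => by
        have e : (TV hpq' x : SpecialLinearGroup (Fin (l + 1)) F) = emb (TV hpq x) := by
          refine Subtype.ext ?_
          rw [emb_coe, tr_coe, tr_coe]
          ext r s
          induction r using Fin.cases <;> induction s using Fin.cases <;>
            simp [blkM_00, blkM_0s, blkM_s0, blkM_ss, Matrix.one_apply, Matrix.single_apply, Fin.succ_ne_zero,
              (Fin.succ_ne_zero _).symm]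
        rw [e]
        refine hemb _ ?_
        rw [tr_coe, add_mulVec, one_mulVec]
        funext k
        simp [single_mulVec, hbp q hq, Function.update_apply]
      set r := wK i2 i3 a p.succ / wK i2 i3 a q.succ
      set x0 := x / (r - 1) with hx0
      obtain ⟨κ, hκ⟩ := hscal _ hCK
      obtain ⟨τ, hτ⟩ := hscal _ (hCT x0)
      obtain ⟨τ', hτ'⟩ := hscal _ (hCT x)
      have h := congrArg (fun g => ρ g y) (tK_tv i2 i3 a hpq' x0)
      simp only [map_mul, Module.End.mul_apply, hκ, hτ, map_smul, smul_smul] at h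
      rw [show r * x0 = x + x0 by rw [hx0]; field_simp [sub_ne_zero.2 hr]; ring,
        SpecialLinearGroup.transvection_add, map_mul, Module.End.mul_apply, hτ, map_smul, hτ', smul_smul,
        smul_smul] at h
      have hne : ∀ (g : SpecialLinearGroup (Fin (l + 1)) F) (c : ℂ), ρ g y = c • y → c ≠ 0 := fun g c hg hc => by
        have := congrArg (ρ g⁻¹) hg
        rw [← Module.End.mul_apply, ← map_mul, inv_mul_cancel, map_one, hc, zero_smul, map_zero] at this
        exact hy this
      have h' := smul_left_injective ℂ hy h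
      have : τ' = 1 := by
        refine mul_left_cancel₀ (mul_ne_zero (hne _ _ hκ) (hne _ _ hτ)) ?_
        rw [mul_one]
        linear_combination -h'
      rw [hτ', this, one_smul]
    have hne23 : j1.succ ≠ j2.succ := fun h => absurd (congrArg Fin.val h) (by simp [j1, j2])
    have hfix : ρ (tK i2 i3 a) y = y := by
      rw [show i2 = j1.succ from Fin.ext rfl, show i3 = j2.succ from Fin.ext rfl]
      refine tK_fix ρ hne23 a (hfixT j1 j2 (fun h => hne23 (congrArg Fin.succ h)) hj2 hne23 ?_)
        (hfixT j2 j1 (fun h => hne23 (congrArg Fin.succ h).symm) hj1 hne23.symm ?_)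
      · simp only [wK, hi2, hi3, j1, j2, Fin.ext_iff, Fin.val_succ]
        simpa using ha2
      · simp only [wK, hi2, hi3, j1, j2, Fin.ext_iff, Fin.val_succ]
        norm_num
        intro h
        apply ha2
        field_simp at h
        rw [← _root_.sq]
        exact h.symm
    have hneg : ρ (tK i2 i3 a) y = -y := by
      rw [hy', ← Module.End.mul_apply, hCK, Module.End.mul_apply, hKu, map_neg]
    rw [hfix] at hneg
    exact hy (by
      have h2 : (2 : ℂ) • y = 0 := by rw [two_smul]; nth_rewrite 2 [hneg]; exact add_neg_cancel y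
      simpa using h2)
  -- so the vector is fixed by the lower root group
  have hfix0 : ∀ x : F, ρ (TV h01' x) u = u := by
    intro x
    have hsum : pr ρ 0 u = u := by
      conv_rhs => rw [← Module.End.one_apply (R := ℂ) u, ← sum_pr ρ, LinearMap.sum_apply,
        Finset.sum_eq_single (0 : Fin l → F) (fun b _ hb => hzero b hb) (by simp)]
    have e : (TV h01' x : SpecialLinearGroup (Fin (l + 1)) F) = tx (Pi.single z x) := by
      refine Subtype.ext ?_
      rw [tr_coe, tx_coe]
      ext r s
      induction r using Fin.cases <;> induction s using Fin.cases <;>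
        simp [blkM_00, blkM_0s, blkM_s0, blkM_ss, Matrix.one_apply, Matrix.single_apply, hi1, hz, Fin.ext_iff,
          Pi.single_apply, eq_comm]
    rw [e, ← hsum, ← Module.End.mul_apply, rho_pr]
    simp
  have hlow : ∀ x : F, ρ (TV h01'.symm x) v = v := by
    intro x
    have h := hfix0 (-x)
    rw [hu, ← Module.End.mul_apply, ← map_mul, ← nW_tv h01' x, map_mul, Module.End.mul_apply] at h
    have := congrArg (ρ (nW h01'.symm)) h
    simp only [← Module.End.mul_apply, ← map_mul, ← mul_assoc, nW_inv h01', one_mul, map_one] at this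
    exact this
  have h1 := tK_fix ρ h01' a (fun x => tv_fix ρ hvu hlt x) hlow
  rw [hvK, h01, neg_one_smul] at h1
  have h2 : (2 : ℂ) • v = 0 := by rw [two_smul]; nth_rewrite 1 [← h1]; exact neg_add_cancel v
  exact hv0 (by simpa using h2)

/-- Single sign changes at all places give too many fixed vectors. -/
theorem no_pat_one (hl : 2 ≤ l) (hbound : Module.finrank ℂ (ufix ρ) ≤ l)
    (hp : ∀ p : Fin (l + 1), ∃ v, Pat ρ a (fun r => if r = p then -1 else 1) v) : False := by
  classical
  choose v hv0 hvu hvK using hp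
  have hli : LinearIndependent ℂ fun p => (⟨v p, hvu p⟩ : ufix ρ) := by
    rw [Fintype.linearIndependent_iff]
    intro g hg p
    have hg' : ∑ r, g r • v r = 0 := by
      have := congrArg Subtype.val hg
      simpa using this
    obtain ⟨q, r, hqp, hrp, hqr⟩ : ∃ q r : Fin (l + 1), q ≠ p ∧ r ≠ p ∧ q ≠ r := by
      obtain ⟨x, hx, y, hy, hxy⟩ := Finset.one_lt_card.1 (show 1 < (Finset.univ.erase p).card by
        rw [Finset.card_erase_of_mem (Finset.mem_univ _), Finset.card_univ, Fintype.card_fin]; omega)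
      exact ⟨x, y, Finset.ne_of_mem_erase hx, Finset.ne_of_mem_erase hy, hxy⟩
    have key : ∀ s, (1 - ρ (tK p q a)) ((1 - ρ (tK p r a)) (v s)) = if s = p then (4 : ℂ) • v s else 0 := by
      intro s
      simp only [LinearMap.sub_apply, Module.End.one_apply, hvK, map_sub, map_smul]
      rcases eq_or_ne s p with rfl | hsp
      · simp [hqp, hrp]; module
      · rcases eq_or_ne q s with rfl | hsq
        · simp [hsp, hqr.symm, hqp.symm]
        · simp [hsp, hsq, Ne.symm hsp]
    have := congrArg (fun x => (1 - ρ (tK p q a)) ((1 - ρ (tK p r a)) x)) hg'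
    simp only [map_sum, map_smul, map_zero, key] at this
    rw [Finset.sum_eq_single p (fun s _ hs => by rw [if_neg hs, smul_zero]) (by simp), if_pos rfl, smul_smul,
      smul_eq_zero] at this
    rcases this with h | h
    · simpa using h
    · exact absurd h (hv0 p)
  have := hli.fintype_card_le_finrank
  rw [Fintype.card_fin] at this
  omega

/-- A common eigenvector of the simple coroots in the fixed space. -/
theorem exists_eigen (hne : 1 ≤ Module.finrank ℂ (ufix ρ)) :
    ∃ v, v ≠ 0 ∧ v ∈ ufix ρ ∧ ∀ i : Fin l, ∃ c : ℂ, ρ (tK i.castSucc i.succ a) v = c • v := by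
  suffices h : ∀ m : ℕ, ∃ v, v ≠ 0 ∧ v ∈ ufix ρ ∧
      ∀ i : Fin l, i.val < m → ∃ c : ℂ, ρ (tK i.castSucc i.succ a) v = c • v by
    obtain ⟨v, h1, h2, h3⟩ := h l
    exact ⟨v, h1, h2, fun i => h3 i i.isLt⟩
  intro m
  induction m with
  | zero =>
    haveI : Nontrivial (ufix ρ) := Module.finrank_pos_iff.1 hne
    obtain ⟨v, hv⟩ := exists_ne (0 : ufix ρ)
    exact ⟨v.1, fun h => hv (Subtype.ext h), v.2, fun i hi => by omega⟩
  | succ m ih =>
    obtain ⟨v, h1, h2, h3⟩ := ih
    by_cases hm : m < l
    · choose c hc using h3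
      let S : Submodule ℂ W :=
        { carrier := {x | x ∈ ufix ρ ∧ ∀ (i : Fin l) (h : i.val < m), ρ (tK i.castSucc i.succ a) x = c i h • x}
          add_mem' := fun {x y} hx hy => ⟨add_mem hx.1 hy.1, fun i h => by
            rw [map_add, hx.2 i h, hy.2 i h, smul_add]⟩
          zero_mem' := ⟨zero_mem _, fun i h => by rw [map_zero, smul_zero]⟩
          smul_mem' := fun r x hx => ⟨Submodule.smul_mem _ r hx.1, fun i h => by
            rw [map_smul, hx.2 i h, smul_comm]⟩ }
      set p := (⟨m, hm⟩ : Fin l)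
      have hS : ∀ x ∈ S, ρ (tK p.castSucc p.succ a) x ∈ S := fun x hx => ⟨ufix_tK ρ _ _ a hx.1, fun i h => by
        rw [← Module.End.mul_apply, ← map_mul, tK_comm, map_mul, Module.End.mul_apply, hx.2 i h, map_smul]⟩
      haveI : Nontrivial S := ⟨⟨⟨v, h2, hc⟩, 0, fun h => h1 (congrArg Subtype.val h)⟩⟩
      obtain ⟨μ, hμ⟩ := Module.End.exists_eigenvalue ((ρ (tK p.castSucc p.succ a)).restrict hS)
      obtain ⟨x, hx⟩ := hμ.exists_hasEigenvector
      refine ⟨x.1, fun h => hx.2 (Subtype.ext h), x.2.1, fun i hi => ?_⟩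
      rcases Nat.lt_succ_iff_lt_or_eq.1 hi with h | h
      · exact ⟨_, x.2.2 i h⟩
      · refine ⟨μ, ?_⟩
        rw [show i = p from Fin.ext h]
        exact congrArg Subtype.val hx.apply_eq_smul
    · exact ⟨v, h1, h2, fun i _ => h3 i (by omega)⟩

/-- No module of the smallest degree satisfies the root condition. -/
theorem no_small (hl : 2 ≤ l) (hq : 4 < Fintype.card F) (ha2 : (a : F) * a ≠ 1)
    (hdim : Module.finrank ℂ W + 1 = gs (Fintype.card F) (l + 1)) (hfix : NoFix ρ)
    (htr : ∀ b : Fin l → F, b ≠ 0 →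
      LinearMap.trace ℂ W (ρ (tx b)) = (Module.finrank ℂ W : ℂ) - (Fintype.card F : ℂ) ^ l)
    (hA : ∀ v, v ≠ 0 → v ∈ ufix ρ → ∀ c : Fin l → ℂ,
      (∀ i : Fin l, ρ (tK i.castSucc i.succ a) v = c i • v) →
      ∀ i : Fin l, c i = -1 ∨ ∀ t : F, ρ (TV (Fin.castSucc_lt_succ (i := i)).ne' t) v = v) : False := by
  classical
  obtain ⟨hb1, hb2⟩ := ufix_bound hq l hl W ρ 0 hdim htr
  rw [add_zero] at hb2
  have he1 : ∀ b : Fin l → F, b ≠ 0 → dm ρ b = 1 := by
    intro b hb
    have he' : ∀ c : Fin l → F, c ≠ 0 → dm ρ c = dm ρ b := fun c hc => dm_const ρ (trans_two hl) hc hb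
    have hk := finrank_eq ρ _ he'
    have h := trace_tx ρ _ he' hb
    rw [htr b hb, hk] at h
    have hq1 : 1 ≤ Fintype.card F ^ l := Nat.one_le_pow _ _ (by omega)
    push_cast [Nat.cast_sub hq1] at h
    have h' : ((dm ρ b : ℂ) - 1) * (Fintype.card F : ℂ) ^ l = 0 := by linear_combination h
    rcases mul_eq_zero.1 h' with h | h
    · exact_mod_cast sub_eq_zero.1 h
    · exact absurd h (pow_ne_zero _ (Nat.cast_ne_zero.2 (by omega)))
  obtain ⟨v, hv0, hvu, hvc⟩ := exists_eigen ρ a hgen ha1 hb1
  choose c hc using hvc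
  have hA' := hA v hv0 hvu c hc
  have hc1 : ∀ i, c i = 1 ∨ c i = -1 := fun i => by
    rcases hA' i with h | h
    · exact Or.inr h
    · left
      have h1 := tK_fix ρ (Fin.castSucc_lt_succ (i := i)).ne a
        (fun x => tv_fix ρ hvu (Fin.castSucc_lt_succ (i := i)) x) h
      rw [hc i] at h1
      exact smul_left_injective ℂ hv0 (h1.trans (one_smul ℂ v).symm)
  set e : Fin (l + 1) → ℂ := fun p => ∏ i ∈ Finset.univ.filter (fun i : Fin l => i.castSucc < p), c i with he
  have hes : ∀ p, e p = 1 ∨ e p = -1 := fun p => by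
    simp only [he]
    refine Finset.prod_induction _ (fun x => x = 1 ∨ x = -1) ?_ (Or.inl rfl) fun i _ => hc1 i
    rintro x y (rfl | rfl) (rfl | rfl) <;> simp
  have hesq : ∀ p, e p * e p = 1 := fun p => by rcases hes p with h | h <;> simp [h]
  have hsucc : ∀ i : Fin l, e i.succ = e i.castSucc * c i := fun i => by
    simp only [he]
    rw [show Finset.univ.filter (fun j : Fin l => j.castSucc < i.succ) =
      insert i (Finset.univ.filter fun j : Fin l => j.castSucc < i.castSucc) by
        ext j
        simp only [Finset.mem_filter, Finset.mem_univ, true_and, Finset.mem_insert, Fin.lt_def, Fin.ext_iff,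
          Fin.val_castSucc, Fin.val_succ]
        omega, Finset.prod_insert (by simp)]
    rw [mul_comm]
  have h0p : ∀ p, ρ (tK 0 p a) v = e p • v := fun p => by
    induction p using Fin.induction with
    | zero => rw [tK_self, map_one]; simp [he]
    | succ i ih =>
      rw [← tK_trans 0 i.castSucc i.succ a, map_mul, Module.End.mul_apply, hc, map_smul, ih, smul_smul, hsucc,
        mul_comm]
  have hp0 : ∀ p, ρ (tK p 0 a) v = e p • v := fun p => by
    have h := congrArg (ρ (tK p 0 a)) (h0p p)
    rw [← Module.End.mul_apply, ← map_mul, tK_trans, tK_self, map_one, map_smul, Module.End.one_apply] at h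
    have h' := congrArg (e p • ·) h
    simp only [smul_smul, hesq, one_smul] at h'
    exact h'.symm
  have hpat : Pat ρ a e v := ⟨hv0, hvu, fun p q => by
    rw [← tK_trans p 0 q a, map_mul, Module.End.mul_apply, h0p, map_smul, hp0, smul_smul, mul_comm]⟩
  set P := Finset.univ.filter fun p => e p = 1 with hP
  set N := Finset.univ.filter fun p => ¬ e p = 1 with hN
  have hsum : P.card + N.card = l + 1 := by
    rw [hP, hN, Finset.card_filter_add_card_filter_not]; simp
  have hNe : ∀ p ∈ N, e p = -1 := fun p hp => (hes p).resolve_left (Finset.mem_filter.1 hp).2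
  have hNpos : 1 ≤ N.card := by
    by_contra hcon
    have hall : ∀ p, e p = 1 := fun p => by
      by_contra h
      exact hcon (Finset.card_pos.2 ⟨p, by simp [hN, h]⟩)
    refine hv0 (hfix v fun g => ?_)
    have hci : ∀ i, c i = 1 := fun i => by
      have := hsucc i
      rwa [hall, hall, one_mul, eq_comm] at this
    have : stabV ρ v = ⊤ := root_gen _ (by omega) (fun i j h t => tv_fix ρ hvu h t) fun i t => by
      rcases hA' i with h | h
      · rw [hci i] at h; norm_num at h
      · exact h t
    exact (this.symm ▸ Subgroup.mem_top g : g ∈ stabV ρ v)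
  have hPpos : 1 ≤ P.card := Finset.card_pos.2 ⟨0, by simp [hP, he]⟩
  by_cases h1 : P.card = 1 ∨ N.card = 1
  · obtain ⟨p0, s, hs, hp0, hrest⟩ : ∃ (p0 : Fin (l + 1)) (s : ℂ), s * s = 1 ∧ e p0 = -s ∧ ∀ r, r ≠ p0 → e r = s := by
      rcases h1 with h | h
      · obtain ⟨p0, hp0⟩ := Finset.card_eq_one.1 h
        refine ⟨p0, -1, by norm_num, ?_, fun r hr => (hes r).resolve_left fun hr1 => hr ?_⟩
        · have : p0 ∈ P := by rw [hp0]; exact Finset.mem_singleton_self _
          rw [neg_neg]; exact (Finset.mem_filter.1 this).2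
        · have : r ∈ P := by simp [hP, hr1]
          rwa [hp0, Finset.mem_singleton] at this
      · obtain ⟨p0, hp0⟩ := Finset.card_eq_one.1 h
        refine ⟨p0, 1, by norm_num, hNe p0 (by rw [hp0]; exact Finset.mem_singleton_self _), fun r hr => ?_⟩
        by_contra hr1
        have : r ∈ N := by simp [hN, hr1]
        rw [hp0, Finset.mem_singleton] at this
        exact hr this
    refine no_pat_one ρ a hgen ha1 hl hb2 fun p => ?_
    obtain ⟨u, h1, h2, h3⟩ := pat_perm ρ a hgen ha1 hes hpat (Equiv.swap p p0)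
    refine ⟨u, h1, h2, fun x y => ?_⟩
    rw [h3]
    congr 1
    have key : ∀ r, e (Equiv.swap p p0 r) = s * if r = p then -1 else 1 := fun r => by
      split_ifs with hr
      · rw [hr, Equiv.swap_apply_left, hp0, mul_neg_one]
      · rw [mul_one]
        refine hrest _ fun h => hr ?_
        rw [← Equiv.swap_apply_self p p0 r, h, Equiv.swap_apply_right]
    show e (Equiv.swap p p0 x) * e (Equiv.swap p p0 y) = _
    rw [key, key]
    linear_combination (if x = p then (-1 : ℂ) else 1) * (if y = p then (-1 : ℂ) else 1) * hs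
  · push Not at h1
    obtain ⟨p0, hp0, p2, hp2, hp⟩ := Finset.one_lt_card.1 (show 1 < P.card by omega)
    obtain ⟨n1, hn1, n3, hn3, hn⟩ := Finset.one_lt_card.1 (show 1 < N.card by omega)
    have hl3 : 3 ≤ l := by omega
    have hPN : ∀ x ∈ P, ∀ y ∈ N, x ≠ y := fun x hx y hy h =>
      (Finset.mem_filter.1 hy).2 (h ▸ (Finset.mem_filter.1 hx).2)
    let f : Fin 4 → Fin (l + 1) := ![p0, n1, p2, n3]
    have hf : Function.Injective f := by
      intro x y hxy
      have a1 := hPN p0 hp0 n1 hn1
      have a2 := hPN p0 hp0 n3 hn3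
      have a3 := hPN p2 hp2 n1 hn1
      have a4 := hPN p2 hp2 n3 hn3
      fin_cases x <;> fin_cases y <;> simp only [f, Fin.isValue] at hxy ⊢ <;>
        first
          | rfl
          | exact absurd hxy hp | exact absurd hxy.symm hp | exact absurd hxy hn | exact absurd hxy.symm hn
          | exact absurd hxy a1 | exact absurd hxy.symm a1 | exact absurd hxy a2 | exact absurd hxy.symm a2
          | exact absurd hxy a3 | exact absurd hxy.symm a3 | exact absurd hxy a4 | exact absurd hxy.symm a4
    obtain ⟨σ, hσ⟩ : ∃ σ : Equiv.Perm (Fin (l + 1)), ∀ k : Fin 4, σ (Fin.castLE (by omega) k) = f k := by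
      have hc : Function.Injective (Fin.castLE (show 4 ≤ l + 1 by omega)) := Fin.castLE_injective _
      refine ⟨((Equiv.ofInjective _ hc).symm.trans (Equiv.ofInjective f hf)).extendSubtype, fun k => ?_⟩
      rw [Equiv.extendSubtype_apply_of_mem _ _ ⟨k, rfl⟩]
      simp
    obtain ⟨u, hu⟩ := pat_perm ρ a hgen ha1 hes hpat σ
    have eP : ∀ x ∈ P, e x = 1 := fun x hx => (Finset.mem_filter.1 hx).2
    refine no_pat_four ρ a hgen ha1 hl3 he1 ha2 hu ?_ ?_
    · show e (σ 0) * e (σ _) = -1
      rw [show σ 0 = f 0 from hσ 0, show σ ⟨1, by omega⟩ = f 1 from hσ 1]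
      simp [f, eP p0 hp0, hNe n1 hn1]
    · show e (σ _) * e (σ _) = -1
      rw [show σ ⟨2, by omega⟩ = f 2 from hσ 2, show σ ⟨3, by omega⟩ = f 3 from hσ 3]
      simp [f, eP p2 hp2, hNe n3 hn3]

end main

end CfsgLib.OrthDeg
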