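import Mathlib
import Cfsg.Agent.Lib.OrthDeg.OddLever
import Cfsg.Agent.Lib.OrthDeg.SLPattern
import Cfsg.Agent.Lib.OrthDeg.RootClass

/-! The minimal degree of the odd-dimensional orthogonal group. -/

set_option autoImplicit false
set_option maxHeartbeats 2000000

namespace CfsgLib.OrthDeg

open Matrix QuadraticMap CfsgLib.WittExtension CfsgLib.OmegaMin CfsgLib.RadicalBound CfsgLib.SLMin
open CfsgLib.StdQuadForms (Qo)

local notation "ψ" => CfsgLib.SympWeil.ψ

variable {F : Type*} [Field F] [Fintype F] [DecidableEq F] {m : ℕ}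

omit [Field F] [Fintype F] [DecidableEq F] in
/-- Fixed vectors leave room for a smaller constituent. -/
theorem exists_irr_lt {H : Type*} [Group H] [Finite H] {W : Type} [AddCommGroup W] [Module ℂ W]
    [FiniteDimensional ℂ W] (τ : Representation ℂ H W) {g₀ : H} (h0 : τ g₀ ≠ 1) {w : W} (hw : w ≠ 0)
    (hwf : ∀ g, τ g w = w) :
    ∃ (U : Type) (_ : AddCommGroup U) (_ : Module ℂ U) (_ : FiniteDimensional ℂ U) (_ : Nontrivial U)
      (σ : Representation ℂ H U), σ.IsIrreducible ∧ NoFix σ ∧ Module.finrank ℂ U + 1 ≤ Module.finrank ℂ W := by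
  classical
  haveI := Fintype.ofFinite H
  let P : Module.End ℂ W := (Fintype.card H : ℂ)⁻¹ • ∑ g, τ g
  have hP : ∀ x, (∀ g, τ g x = x) → P x = x := fun x hx => by
    simp only [P, LinearMap.smul_apply, LinearMap.sum_apply]
    rw [Finset.sum_congr rfl fun g _ => hx g, Finset.sum_const, Finset.card_univ, ← Nat.cast_smul_eq_nsmul ℂ,
      smul_smul, inv_mul_cancel₀ (Nat.cast_ne_zero.2 Fintype.card_ne_zero), one_smul]
  have hr : ∀ h, P * τ h = P := fun h => by
    simp only [P, smul_mul_assoc, Finset.sum_mul]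
    congr 1
    exact Fintype.sum_equiv (Equiv.mulRight h) _ _ fun g => (map_mul τ g h).symm
  have hinv : ∀ g x, x ∈ LinearMap.ker P → τ g x ∈ LinearMap.ker P := fun g x hx => by
    rw [LinearMap.mem_ker] at hx ⊢
    rw [← Module.End.mul_apply, hr, hx]
  let τ' : Representation ℂ H (LinearMap.ker P) :=
    { toFun := fun g => (τ g).restrict (hinv g)
      map_one' := LinearMap.ext fun x => Subtype.ext (by
        show τ 1 x.1 = x.1
        rw [map_one]; rfl)
      map_mul' := fun g h => LinearMap.ext fun x => Subtype.ext (by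
        show τ (g * h) x.1 = τ g (τ h x.1)
        rw [map_mul]; rfl) }
  have hfix : NoFix τ' := fun u hu => Subtype.ext (by
    rw [← hP u.1 fun g => congrArg Subtype.val (hu g)]; exact u.2)
  haveI : Nontrivial (LinearMap.ker P) := by
    rw [Submodule.nontrivial_iff_ne_bot]
    intro hb
    apply h0
    refine LinearMap.ext fun x => LinearMap.ker_eq_bot.1 hb ?_
    rw [← Module.End.mul_apply, hr, Module.End.one_apply]
  have hlt : Module.finrank ℂ (LinearMap.ker P) < Module.finrank ℂ W := Submodule.finrank_lt fun h => hw (by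
    have h1 : w ∈ LinearMap.ker P := h ▸ Submodule.mem_top
    rw [← hP w hwf]; exact h1)
  obtain ⟨U, σ, hσ, hσf, hU⟩ := exists_irr τ' hfix
  refine ⟨U, inferInstance, inferInstance, inferInstance, hU, σ, hσ, hσf, ?_⟩
  have := Submodule.finrank_le U
  omega

section radical

variable {r : ℕ} (h2 : (2 : F) ≠ 0) (hr : 3 ≤ r)
variable {k : ℕ} (ρ : Representation ℂ (Om (Qo (F := F) r)) (Fin k → ℂ))

/-- A small fixed space of the centre is fixed by the whole radical. -/
theorem radical_fix (hD : mO h2 hr ρ 0 < Fintype.card F ^ r - 1) (x : Fin k → ℂ) (hx : PO h2 hr ρ 0 x = x)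
    (v : Fin r → F) (t : F) : ρ (uO h2 hr v t) x = x := by
  classical
  obtain ⟨l, rfl⟩ : ∃ l, r = l + 1 := ⟨r - 1, by omega⟩
  let A : (Fin (l + 1) → F) → Module.End ℂ (LinearMap.range (PO h2 hr ρ 0)) := fun v => Eo h2 hr ρ 0 v 1
  have hA : ∀ u w, A (u + w) = A u * A w := fun u w => by
    show Eo h2 hr ρ 0 (u + w) 1 = _
    rw [Eo, show uuo h2 hr ρ 0 (u + w) 1 =
      zzo h2 hr ρ 0 ((-((1 : F) * 1)) • wedge w u) * (uuo h2 hr ρ 0 u 1 * uuo h2 hr ρ 0 w 1) from
        Subtype.ext (Subtype.ext (EUo_add_left u w 1)), map_mul, map_mul, rpo_zzo, chi_zero, AddChar.one_apply,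
      one_smul, one_mul]
    rfl
  have hA0 : A 0 = 1 := by
    show Eo h2 hr ρ 0 0 1 = 1
    have e : Eo h2 hr ρ (0 : Alt F (l + 1)) (0 : Fin (l + 1) → F) 1 =
        Eo h2 hr ρ 0 ((0 : F) • (0 : Fin (l + 1) → F)) 1 := by rw [zero_smul]
    rw [e, Eo_smul, zero_mul, Eo_zero]
  let p : (Fin (l + 1) → F) → Module.End ℂ (LinearMap.range (PO h2 hr ρ 0)) := fun b => pA A (chv b)
  have hmove : ∀ (g : SpecialLinearGroup (Fin (l + 1)) F) (b : Fin (l + 1) → F),
      τO h2 hr ρ g * p (b ᵥ* g.1) = p b * τO h2 hr ρ g := by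
    intro g b
    simp only [p, pA, mul_smul_comm, smul_mul_assoc, Finset.mul_sum, Finset.sum_mul]
    congr 1
    refine Fintype.sum_bijective (fun u => g.1 *ᵥ u) (Finite.injective_iff_bijective.1 fun u w h => ?_) _ _
      fun u => ?_
    · have h' := congrArg (fun z => (g⁻¹).1 *ᵥ z) h
      simp only [mulVec_mulVec, ← Matrix.SpecialLinearGroup.coe_mul, inv_mul_cancel,
        Matrix.SpecialLinearGroup.coe_one, one_mulVec] at h'
      exact h'
    · rw [show chv b (-(g.1 *ᵥ u)) = chv (b ᵥ* g.1) (-u) by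
        rw [chv_apply, chv_apply, neg_dotProduct, neg_dotProduct, dotProduct_comm (g.1 *ᵥ u), dotProduct_mulVec,
          dotProduct_comm u]]
      congr 1
      refine LinearMap.ext fun y => Subtype.ext ?_
      show ρ (slO hr g) (ρ (uO h2 hr u 1) y.1) = ρ (uO h2 hr _ 1) (ρ (slO hr g) y.1)
      rw [← Module.End.mul_apply, ← map_mul, slO_uO h2 hr, map_mul, Module.End.mul_apply]
  set d : (Fin (l + 1) → F) → ℕ := fun b => Module.finrank ℂ (LinearMap.range (p b)) with hd
  have hconst : ∀ b b', b ≠ 0 → b' ≠ 0 → d b = d b' := by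
    intro b b' hb hb'
    obtain ⟨g, hg⟩ := exists_sl_vec (by simp; omega) hb hb'
    have e := hmove g.transpose b
    rw [show b ᵥ* g.transpose.1 = b' by
      show b ᵥ* (g.1)ᵀ = b'
      rw [vecMul_transpose]; exact hg] at e
    have hinv : τO h2 hr ρ g.transpose⁻¹ * τO h2 hr ρ g.transpose = 1 := by
      rw [← map_mul, inv_mul_cancel, map_one]
    have hinv' : τO h2 hr ρ g.transpose * τO h2 hr ρ g.transpose⁻¹ = 1 := by
      rw [← map_mul, mul_inv_cancel, map_one]
    apply Nat.cast_injective (R := ℂ)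
    show (Module.finrank ℂ (LinearMap.range (pA A (chv b))) : ℂ) = (Module.finrank ℂ (LinearMap.range (pA A (chv b'))) : ℂ)
    rw [← trace_pA A hA, ← trace_pA A hA]
    calc LinearMap.trace ℂ _ (pA A (chv b))
        = LinearMap.trace ℂ _ (pA A (chv b) * τO h2 hr ρ g.transpose * τO h2 hr ρ g.transpose⁻¹) := by
          rw [mul_assoc, hinv', mul_one]
      _ = LinearMap.trace ℂ _ (τO h2 hr ρ g.transpose⁻¹ * (τO h2 hr ρ g.transpose * pA A (chv b'))) := by
          rw [show τO h2 hr ρ g.transpose * pA A (chv b') = pA A (chv b) * τO h2 hr ρ g.transpose from e,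
            LinearMap.trace_mul_comm]
      _ = _ := by rw [← mul_assoc, hinv, one_mul]
  have hsum : mO h2 hr ρ 0 = ∑ b, d b := by
    apply Nat.cast_injective (R := ℂ)
    rw [mO_eq, Nat.cast_sum, ← LinearMap.trace_one ℂ (LinearMap.range (PO h2 hr ρ 0)), ← sum_pA A hA0, map_sum]
    refine (Fintype.sum_bijective chv ⟨chv_inj, chv_surj⟩ _ _ fun b => ?_).symm
    exact (trace_pA A hA _).symm
  have hzero : ∀ b, b ≠ 0 → p b = 0 := by
    intro b hb
    by_contra hne
    have hdb : 1 ≤ d b := Nat.one_le_iff_ne_zero.2 fun h => hne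
      (LinearMap.range_eq_bot.1 (Submodule.finrank_eq_zero.1 h))
    have h1 : (Finset.univ.erase (0 : Fin (l + 1) → F)).card • 1 ≤ ∑ c ∈ Finset.univ.erase 0, d c :=
      Finset.card_nsmul_le_sum _ _ _ fun c hc => (hconst b c hb (Finset.ne_of_mem_erase hc)) ▸ hdb
    have h2' := Finset.sum_le_sum_of_subset (f := d) (Finset.subset_univ (Finset.univ.erase (0 : Fin (l + 1) → F)))
    rw [Finset.card_erase_of_mem (Finset.mem_univ _), Finset.card_univ, Fintype.card_fun, Fintype.card_fin,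
      smul_eq_mul, mul_one] at h1
    omega
  have hone : ∀ u, A u = 1 := by
    intro u
    rw [← mul_one (A u), ← sum_pA A hA0, Finset.mul_sum]
    refine Finset.sum_congr rfl fun θ _ => ?_
    rw [A_pA A hA]
    obtain ⟨b, rfl⟩ := chv_surj θ
    by_cases hb : b = 0
    · subst hb
      rw [chv_apply, dotProduct_zero, AddChar.map_zero_eq_one, one_smul]
    · rw [show pA A (chv b) = 0 from hzero b hb, smul_zero]
  have h := congrArg Subtype.val (LinearMap.congr_fun (hone (t • v)) ⟨x, x, hx⟩)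
  have e : A (t • v) = Eo h2 hr ρ 0 v t := by
    show Eo h2 hr ρ 0 (t • v) 1 = _
    rw [Eo_smul, mul_one]
  rw [e] at h
  exact h

end radical

/-- Every non-trivial representation of the odd-dimensional group has large degree. -/
theorem odd_bound (hoddq : Odd (Fintype.card F)) (h3 : 3 < Fintype.card F) (k : ℕ)
    (ρ : Representation ℂ (Om (Qo (F := F) (m + 3))) (Fin k → ℂ)) (hirr : ρ.IsIrreducible) (hk : 2 ≤ k) :
    (Fintype.card F ^ (2 * (m + 3)) - 1) / (Fintype.card F ^ 2 - 1) ≤ k := by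
  classical
  have hm3 : 3 ≤ m + 3 := by omega
  set q := Fintype.card F with hqdef
  have h2 : (2 : F) ≠ 0 := by
    intro h
    haveI : CharP F 2 := CharTwo.of_one_ne_zero_of_two_eq_zero one_ne_zero h
    have := FiniteField.even_card_of_char_two (ringChar.eq F 2)
    obtain ⟨c, hc⟩ := hoddq
    omega
  have hq5 : 5 ≤ q := by obtain ⟨c, hc⟩ := hoddq; omega
  by_contra hlt
  rw [not_le] at hlt
  have hQ := CfsgLib.StdQuadForms.Qo_nondeg (F := F) h2 (m + 3)
  have hd7 := dim_ge_odd (F := F) hm3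
  set y := q ^ (m + 1) with hy
  have hyq : q ≤ y := by
    rw [hy]; calc q = q ^ 1 := (pow_one q).symm
      _ ≤ _ := Nat.pow_le_pow_right (by omega) (by omega)
  set X := q ^ (m + 3) with hX
  have hXy : X = q * (q * y) := by rw [hX, hy]; ring
  have hq2y : q ^ (m + 2) = q * y := by rw [hy]; ring
  have h2m : q ^ (2 * (m + 3)) = X * X := by rw [hX]; ring
  rw [h2m] at hlt
  have hq2 : 0 < q ^ 2 - 1 := by
    have : 5 ^ 2 ≤ q ^ 2 := Nat.pow_le_pow_left hq5 2
    omega
  have hX1 : 1 ≤ X := Nat.one_le_pow _ _ (by omega)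
  have hkk : (k + 1) * (q ^ 2 - 1) ≤ X * X - 1 := (Nat.le_div_iff_mul_le hq2).1 hlt
  have hqy1 : 1 ≤ q * y := Nat.one_le_iff_ne_zero.2 (Nat.mul_ne_zero (by omega) (by omega))
  have hXX : 1 ≤ X * X := Nat.one_le_iff_ne_zero.2 (Nat.mul_ne_zero (by omega) (by omega))
  have hq21 : 1 ≤ q ^ 2 := Nat.one_le_pow _ _ (by omega)
  set μC : Alt F (m + 3) → ℕ := fun C => mO h2 hm3 ρ C with hμC
  let eχ : Alt F (m + 3) ≃ AddChar (Alt F (m + 3)) ℂ := Equiv.ofBijective chi chi_bijective
  have hsum : ∑ C, μC C = k := by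
    rw [← sum_mult (fO h2 hm3) ρ (fO_add h2 hm3)]
    exact eχ.sum_comp fun χ => mult (fO h2 hm3) ρ χ
  -- indecomposable forms do not occur
  have hnd : ∀ C, ¬ Dec C → μC C = 0 := by
    intro C hC
    by_contra h0
    have hC0 : C ≠ 0 := fun h => hC ⟨0, 0, fun i j => by rw [h]; simp⟩
    obtain ⟨g₀, hg₀, hn⟩ := exists_normal hC0
    set C0 := act g₀ C with hC0def
    have hC' : ¬ Dec C0 := fun h => hC ((dec_act_iff (by rw [hg₀]; exact one_ne_zero)).1 h)
    obtain ⟨p, p', hpq⟩ : ∃ p p' : Fin (m + 1), C0.1 p.succ.succ p'.succ.succ ≠ 0 := by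
      by_contra hcon
      push Not at hcon
      apply hC'
      refine plane_dec (i := 0) (j := 1) C0 fun a b ha hb => ?_
      obtain ⟨a', rfl⟩ : ∃ a' : Fin (m + 1), a = a'.succ.succ := by
        induction a using Fin.cases with
        | zero => exact absurd rfl ha
        | succ a =>
          induction a using Fin.cases with
          | zero => exact absurd rfl hb
          | succ a => exact ⟨a, rfl⟩
      induction b using Fin.cases with
      | zero => rw [alt_skew, hn.row0 _ (Fin.succ_ne_zero a'), neg_zero]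
      | succ b =>
        induction b using Fin.cases with
        | zero =>
          show C0.1 a'.succ.succ 1 = 0
          rw [alt_skew, hn.row1 a', neg_zero]
        | succ b => exact hcon a' b
    have h2' : q ^ 2 ∣ μC C0 := by
      refine mO_dvd_two h2 hm3 ρ C0 (v := Pi.single 0 1) (p := Pi.single 1 1)
        (v' := Pi.single p.succ.succ 1) (p' := Pi.single p'.succ.succ 1) ?_ ?_ ?_ ?_ ?_
      · rw [bf_single, hn.one]; exact one_ne_zero
      · rwa [bf_single]
      · rw [bf_single]; exact hn.row0 _ (Fin.succ_ne_zero p)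
      · rw [bf_single]; exact hn.row0 _ (Fin.succ_ne_zero p')
      · rw [bf_single, alt_skew, hn.row1 p, neg_zero]
    have hpos : μC C0 = μC C := mO_sl h2 hm3 ρ g₀ hg₀ C
    have hge : q ^ 2 ≤ μC C0 := Nat.le_of_dvd (by omega) h2'
    obtain ⟨S, hS, hmem⟩ := family {C0} (fun Z hZ => by rw [Finset.mem_singleton.1 hZ]; exact hn)
    rw [Finset.card_singleton, mul_one, ← hqdef, hq2y, ← hy] at hS
    have hSk : q ^ 2 * S.card ≤ k := by
      rw [← hsum, mul_comm, ← smul_eq_mul, ← Finset.sum_const]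
      refine le_trans (Finset.sum_le_sum fun C' hC' => ?_) (Finset.sum_le_sum_of_subset (Finset.subset_univ S))
      obtain ⟨-, g, hg, Z, hZ, rfl⟩ := hmem C' hC'
      rw [Finset.mem_singleton.1 hZ]
      show q ^ 2 ≤ μC (act g C0)
      rw [show μC (act g C0) = μC C0 from mO_sl h2 hm3 ρ g hg C0]
      exact hge
    have hSk' := Nat.mul_le_mul_right (q ^ 2 - 1) hSk
    rw [hS, hXy] at *
    zify [hqy1, hq21] at hkk hSk'
    push_cast [Nat.cast_sub hXX] at hkk
    have a1 : (5 : ℤ) ≤ q := by exact_mod_cast hq5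
    have a2 : (q : ℤ) ≤ y := by exact_mod_cast hyq
    have a3 : (0 : ℤ) ≤ (q : ℤ) ^ 3 - 2 * (q : ℤ) ^ 2 := by nlinarith
    nlinarith [mul_le_mul_of_nonneg_left a2 (show (0 : ℤ) ≤ (q : ℤ) ^ 4 * y by positivity),
      mul_le_mul_of_nonneg_left a1 (show (0 : ℤ) ≤ (q : ℤ) ^ 4 * ((y : ℤ) * y) by positivity)]
  -- decomposable forms occur with one multiplicity
  have hO2 : ∀ C ∈ O2 F (m + 3), μC C = μC (base F m) := fun C hC => by
    obtain ⟨h0, hd⟩ := mem_O2.1 hC
    obtain ⟨g, hg, e⟩ := exists_to_base h0 hd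
    rw [← e]; exact (mO_sl h2 hm3 ρ g hg C).symm
  set o := (O2 F (m + 3)).card with ho
  set D := μC 0 with hD
  have hk1 : k = D + μC (base F m) * o := by
    rw [← hsum]
    have hs : ∑ C, μC C = μC 0 + ∑ C ∈ O2 F (m + 3), μC C := by
      rw [← Finset.sum_insert (fun h => (mem_O2.1 h).1 rfl)]
      refine (Finset.sum_subset (Finset.subset_univ _) fun C _ hC => hnd C fun hd => hC ?_).symm
      by_cases h0 : C = 0
      · simp [h0]
      · exact Finset.mem_insert_of_mem (mem_O2.2 ⟨h0, hd⟩)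
    rw [hs, Finset.sum_congr rfl hO2, Finset.sum_const, smul_eq_mul, mul_comm]
  have hc := card_O2_ge (F := F) (m + 1)
  rw [show m + 1 + 2 = m + 3 by omega, show m + 1 + 1 = m + 2 by omega, ← hqdef, ← hX, hq2y, ← ho] at hc
  -- the radical acts non-trivially
  set z : Alt F (m + 3) := wedge (Pi.single 1 1) (Pi.single 0 1) with hz
  have hnt : ρ (fO h2 hm3 z) ≠ 1 := by
    intro h1
    let K : Subgroup (Om (Qo (F := F) (m + 3))) :=
      { carrier := {g | ρ g = 1}
        mul_mem' := fun {a b} ha hb => by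
          show ρ (a * b) = 1
          rw [map_mul, show ρ a = 1 from ha, show ρ b = 1 from hb, one_mul]
        one_mem' := map_one ρ
        inv_mem' := fun {a} ha => by
          show ρ a⁻¹ = 1
          calc ρ a⁻¹ = ρ a⁻¹ * ρ a := by rw [show ρ a = 1 from ha, mul_one]
            _ = 1 := by rw [← map_mul, inv_mul_cancel, map_one] }
    have hts : ((evo (Pi.single (0 : Fin (m + 3)) (1 : F)), evo (Pi.single (1 : Fin (m + 3)) 1)) :
        (Unit ⊕ (Fin (m + 3) ⊕ Fin (m + 3)) → F) × _) ∈ TSPairs (Qo (F := F) (m + 3)) := by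
      refine ⟨fun h => ?_, qo_evo _, qo_evo _, polar_evo_evo _ _, fun t h => ?_⟩
      · simpa [evo_l] using congrFun h (Sum.inr (Sum.inl 0))
      · simpa [evo_l] using congrFun h (Sum.inr (Sum.inl 1))
    have hle : Om (Qo (F := F) (m + 3)) ≤ K.map (Om (Qo (F := F) (m + 3))).subtype := by
      refine om_le_of_root hQ hd7 (fun g hg x hx => ?_) hts ⟨fO h2 hm3 z, h1, (eg_evo_evo _ _).symm⟩
      obtain ⟨u, hu, rfl⟩ := hx
      refine ⟨⟨g, hg⟩ * u * ⟨g, hg⟩⁻¹, ?_, rfl⟩
      show ρ (_ * _ * _) = 1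
      rw [map_mul, map_mul, show ρ u = 1 from hu, mul_one, ← map_mul, mul_inv_cancel, map_one]
    have hall : ∀ g, ρ g = 1 := fun g => by
      obtain ⟨u, hu, e⟩ := hle g.2
      rw [← Subtype.ext e]; exact hu
    haveI : IsSimpleOrder (Subrepresentation ρ) := hirr
    let w : Fin k → ℂ := Pi.single ⟨0, by omega⟩ 1
    let U : Subrepresentation ρ := ⟨ℂ ∙ w, fun g x hx => by rw [hall g]; exact hx⟩
    have hw : w ≠ 0 := fun h => by simpa [w] using congrFun h ⟨0, by omega⟩
    rcases IsSimpleOrder.eq_bot_or_eq_top U with hU | hU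
    · exact hw (Submodule.span_singleton_eq_bot.1 (congrArg Subrepresentation.toSubmodule hU))
    · have e : (ℂ ∙ w) = ⊤ := congrArg Subrepresentation.toSubmodule hU
      have := finrank_span_singleton (K := ℂ) hw
      rw [e, finrank_top, Module.finrank_fintype_fun_eq_card, Fintype.card_fin] at this
      omega
  have hb1 : μC (base F m) = q := by
    have hne : μC (base F m) ≠ 0 := fun h0 => by
      apply hnt
      rw [rho_eq (fO h2 hm3) ρ (fO_add h2 hm3), ← sum_proj (fO h2 hm3) ρ (fO_add h2 hm3)]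
      refine Finset.sum_congr rfl fun χ _ => ?_
      obtain ⟨C, rfl⟩ := eχ.surjective χ
      show chi C z • RadicalBound.proj (fO h2 hm3) ρ (chi C) = RadicalBound.proj (fO h2 hm3) ρ (chi C)
      by_cases hC : C = 0
      · rw [hC, chi_zero, AddChar.one_apply, one_smul]
      · have : μC C = 0 := by
          by_cases hd : Dec C
          · rw [hO2 C (mem_O2.2 ⟨hC, hd⟩), h0]
          · exact hnd C hd
        rw [LinearMap.range_eq_bot.1 (Submodule.finrank_eq_zero.1 this), smul_zero]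
    have hdv : q ∣ μC (base F m) := mO_dvd h2 hm3 ρ (base F m) (v := Pi.single 0 1) (p := Pi.single 1 1) (by
      rw [bf_single, (normal_base (F := F) (m := m)).one]; exact one_ne_zero)
    obtain ⟨j, hj⟩ := hdv
    rcases Nat.lt_or_ge j 2 with hj2 | hj2
    · interval_cases j
      · omega
      · rw [hj, mul_one]
    exfalso
    have h2o : 2 * q * o ≤ k := by
      rw [hk1, hj]
      exact le_add_left (Nat.mul_le_mul_right _ (by rw [mul_comm]; exact Nat.mul_le_mul_left _ hj2))
    have h2o' := Nat.mul_le_mul_right (q ^ 2 - 1) h2o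
    rw [hXy] at *
    zify [hqy1, hq21, hX1] at hkk h2o' hc
    push_cast [Nat.cast_sub hXX] at hkk
    have a1 : (5 : ℤ) ≤ q := by exact_mod_cast hq5
    have a2 : (q : ℤ) ≤ y := by exact_mod_cast hyq
    have a3 : (1 : ℤ) ≤ (q : ℤ) * ((q : ℤ) * y) - 1 := by nlinarith
    have a4 : (q : ℤ) * ((q : ℤ) * y) + 1 ≤ 2 * q * ((q : ℤ) * y - 1) := by nlinarith
    nlinarith [mul_le_mul_of_nonneg_left hc (show (0 : ℤ) ≤ 2 * q by positivity),
      mul_le_mul_of_nonneg_left a4 (show (0 : ℤ) ≤ (q : ℤ) * ((q : ℤ) * y) - 1 by linarith)]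
  rw [hb1] at hk1
  have hDlt : D + 1 ≤ gs q (m + 3) := by
    have hgs := gs_geom (q := q) (by omega) (m + 3)
    rw [← hX] at hgs
    by_contra hcon
    rw [not_le] at hcon
    have hkk' : (D + 1 + q * o) * (q ^ 2 - 1) ≤ X * X - 1 := by rw [hk1] at hkk; linarith
    rw [hXy] at hgs hkk' hc hX1 hXX
    zify [hqy1, hq21, hX1] at hc hkk'
    push_cast [Nat.cast_sub hXX] at hkk'
    have hgs' : ((q : ℤ) - 1) * gs q (m + 3) + 1 = (q : ℤ) * ((q : ℤ) * y) := by
      have := congrArg (fun a : ℕ => (a : ℤ)) hgs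
      push_cast [Nat.cast_sub (show 1 ≤ q by omega)] at this
      exact this
    have hDZ : (gs q (m + 3) : ℤ) + 1 ≤ D + 1 := by exact_mod_cast hcon
    have a1 : (5 : ℤ) ≤ q := by exact_mod_cast hq5
    have hp : (0 : ℤ) < (q : ℤ) ^ 2 - 1 := by nlinarith
    have e1 : ((q : ℤ) ^ 2 - 1) * gs q (m + 3) = ((q : ℤ) + 1) * ((q : ℤ) * ((q : ℤ) * y) - 1) := by
      linear_combination ((q : ℤ) + 1) * hgs'
    nlinarith [mul_le_mul_of_nonneg_left hDZ hp.le, mul_le_mul_of_nonneg_left hc (show (0 : ℤ) ≤ q by positivity)]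
  -- the radical fixes the fixed space of its centre
  have hgsX : gs q (m + 3) < X := by
    have hgs := gs_geom (q := q) (by omega) (m + 3)
    rw [← hX] at hgs
    have : 1 * gs q (m + 3) ≤ (q - 1) * gs q (m + 3) := Nat.mul_le_mul_right _ (by omega)
    omega
  have hU := radical_fix h2 hm3 ρ (by show D < q ^ (m + 3) - 1; rw [← hX]; omega)
  -- a generator of the multiplicative group
  obtain ⟨a, ha⟩ := IsCyclic.exists_monoid_generator (α := Fˣ)
  have hgen : ∀ x : Fˣ, ∃ n : ℕ, a ^ n = x := fun x => Submonoid.mem_powers_iff x a |>.1 (ha x)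
  have ha2 : (a : F) * a ≠ 1 := by
    intro h
    have h1 : a * a = 1 := Units.ext h
    have hsub : (Finset.univ : Finset Fˣ) ⊆ {1, a} := fun x _ => by
      obtain ⟨n, rfl⟩ := hgen x
      rcases Nat.even_or_odd n with ⟨c, rfl⟩ | ⟨c, rfl⟩
      · simp [pow_add, ← mul_pow, h1]
      · simp [pow_succ, two_mul, pow_add, ← mul_pow, h1]
    have := (Finset.card_le_card hsub).trans Finset.card_le_two
    rw [Finset.card_univ, Fintype.card_units] at this
    omega
  have ha1 : a ≠ 1 := fun h => ha2 (by rw [h]; simp)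
  have hm : ∀ C : Alt F (m + 3), Dec C → C ≠ 0 → mO h2 hm3 ρ C = Fintype.card F := fun C hd h0 =>
    (hO2 C (mem_O2.2 ⟨h0, hd⟩)).trans hb1
  -- the fixed space is a smallest module of the special linear group
  obtain ⟨g₀, hg₀⟩ := tau_nontrivial h2 hm3 ρ hU a hgen ha2 hoddq hm (k' := m + 1) (by omega)
  haveI : Finite (Matrix.SpecialLinearGroup (Fin (m + 3)) F) := inferInstance
  set W := LinearMap.range (PO h2 hm3 ρ 0)
  have hWD : Module.finrank ℂ W = D := rfl
  haveI : Nontrivial W := by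
    by_contra hnt'
    rw [not_nontrivial_iff_subsingleton] at hnt'
    exact hg₀ (LinearMap.ext fun x => Subsingleton.elim _ _)
  have hok : Ok (m + 2) q := ⟨fun _ => ⟨by omega, by omega⟩, fun _ => ⟨by omega, by omega⟩⟩
  obtain ⟨U, _, _, _, hUn, σ, hσ, hσf, hUle⟩ := exists_irr_of_nontrivial (τO h2 hm3 ρ) hg₀
  have hD2 : gs q (m + 3) - 1 ≤ D := (irr_bound F (m + 2) (by omega) hok U σ hσ hσf).trans (hUle.trans hWD.le)
  have hdim : Module.finrank ℂ W + 1 = gs (Fintype.card F) (m + 2 + 1) := by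
    show D + 1 = gs q (m + 3)
    omega
  have hfix : NoFix (τO h2 hm3 ρ) := by
    intro w hw
    by_contra hw0
    obtain ⟨U', _, _, _, hUn', σ', hσ', hσf', hUle'⟩ := exists_irr_lt (τO h2 hm3 ρ) hg₀ hw0 hw
    have hUD : Module.finrank ℂ U' + 1 ≤ D := hUle'
    have h : gs q (m + 3) - 1 ≤ Module.finrank ℂ U' := irr_bound F (m + 2) (by omega) hok U' σ' hσ' hσf'
    omega
  have htr : ∀ b : Fin (m + 2) → F, b ≠ 0 → LinearMap.trace ℂ W (τO h2 hm3 ρ (tx b)) =
      (Module.finrank ℂ W : ℂ) - (Fintype.card F : ℂ) ^ (m + 2) := by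
    intro b hb
    obtain ⟨e, he, hk', he'⟩ := crude (τO h2 hm3 ρ) (show 1 ≤ m + 2 by omega) (trans_two (show 2 ≤ m + 2 by omega))
      hfix
    have he1 : e = 1 := by
      by_contra hne
      have h1 : 2 * (q ^ (m + 2) - 1) ≤ e * (q ^ (m + 2) - 1) := Nat.mul_le_mul_right _ (by omega)
      have hgs := gs_geom (q := q) (by omega) (m + 3)
      rw [← hX, hXy] at hgs
      replace hk' : D = dm (τO h2 hm3 ρ) 0 + e * (q ^ (m + 2) - 1) := hk'
      rw [hq2y] at h1 hk'
      have hD1 : gs q (m + 3) ≥ 2 * (q * y - 1) + 1 := by omega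
      have a5 : (q - 1) * (2 * (q * y - 1) + 1) ≤ (q - 1) * gs q (m + 3) := Nat.mul_le_mul_left _ hD1
      zify [hqy1, show 1 ≤ q by omega] at a5
      have hgs' : ((q : ℤ) - 1) * gs q (m + 3) + 1 = (q : ℤ) * ((q : ℤ) * y) := by
        have := congrArg (fun a : ℕ => (a : ℤ)) hgs
        push_cast [Nat.cast_sub (show 1 ≤ q by omega)] at this
        exact this
      have a1 : (5 : ℤ) ≤ q := by exact_mod_cast hq5
      have a2 : (q : ℤ) ≤ y := by exact_mod_cast hyq
      nlinarith [mul_le_mul_of_nonneg_left a2 (show (0 : ℤ) ≤ (q : ℤ) by positivity),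
        mul_le_mul_of_nonneg_left a1 (show (0 : ℤ) ≤ (q : ℤ) * y by positivity)]
    rw [trace_tx (τO h2 hm3 ρ) e he' hb, hk', he1, one_mul]
    have hp1 : 1 ≤ Fintype.card F ^ (m + 2) := Nat.one_le_pow _ _ Fintype.card_pos
    push_cast [Nat.cast_sub hp1]
    ring
  refine no_small (τO h2 hm3 ρ) a hgen ha1 (show 2 ≤ m + 2 by omega) (by omega) ha2 hdim hfix htr ?_
  intro w hw0 hwu c hc
  have hw : PO h2 hm3 ρ 0 w.1 = w.1 := by
    obtain ⟨x, hx⟩ := w.2
    rw [← hx, ← Module.End.mul_apply, PO_mul, if_pos rfl]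
  have huni : ∀ g, IsUni g.1 → ρ (slO hm3 g) w.1 = w.1 := fun g hg => congrArg Subtype.val (hwu g hg)
  have hcv : ∀ i : Fin (m + 2), ρ (slO hm3 (tK i.castSucc i.succ a)) w.1 = c i • w.1 := fun i =>
    congrArg Subtype.val (hc i)
  have hroot : ∀ i : Fin (m + 2), ρ (tO hm3 (sqU i.succ a) (sqU_square i.succ a)) w.1 = w.1 →
      c i = -1 ∨ ∀ t : F, ρ (slO hm3 (Matrix.SpecialLinearGroup.transvection
        (Fin.castSucc_lt_succ (i := i)).ne' t)) w.1 = w.1 := fun i hsq => by
    by_cases h : c i = -1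
    · exact Or.inl h
    · exact Or.inr fun t => root_or_neg h2 hm3 ρ hU a hgen ha2 hoddq hm (by simp) hw huni (hcv i) h hsq
        Fin.castSucc_lt_succ t
  have hη : ∀ p : Fin (m + 3), ρ (tO hm3 (sqU p a) (sqU_square p a)) w.1 = w.1 := by
    intro p
    induction p using Fin.reverseInduction with
    | last =>
      obtain ⟨n, hn, h1, h2', h3', h4, h5⟩ := exists_flip h2 hm3 (Fin.last (m + 2))
      exact square_fix h2 hm3 ρ hU (N := ⟨n, hn⟩) ⟨h1, h2', h3', h4, h5⟩ hw
        (fun p hp t => huni _ (isUni_tv (lt_of_le_of_ne (Fin.le_last p) hp) t)) a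
    | cast i ih =>
      have hci : c i = 1 ∨ c i = -1 := by
        rcases hroot i ih with h | h
        · exact Or.inr h
        · left
          have h1 := tK_fix (τO h2 hm3 ρ) (Fin.castSucc_lt_succ (i := i)).ne a
            (fun x => tv_fix (τO h2 hm3 ρ) hwu (Fin.castSucc_lt_succ (i := i)) x) (fun x => Subtype.ext (h x))
          rw [hc i] at h1
          exact smul_left_injective ℂ hw0 (h1.trans (one_smul ℂ w).symm)
      have e : tO hm3 (sqU i.castSucc a) (sqU_square i.castSucc a) =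
          slO hm3 (tK i.castSucc i.succ a) * slO hm3 (tK i.castSucc i.succ a) *
            tO hm3 (sqU i.succ a) (sqU_square i.succ a) := by
        refine Subtype.ext ?_
        show LGo (dG (sqU i.castSucc a)) = LGo _ * LGo _ * LGo (dG (sqU i.succ a))
        rw [← dG_wU, ← LGo_mul, ← LGo_mul, ← dG_mul, ← dG_mul]
        congr 2
        funext p
        have hne : i.castSucc ≠ i.succ := (Fin.castSucc_lt_succ (i := i)).ne
        rcases eq_or_ne p i.castSucc with rfl | h1
        · simp [wU, sqU, hne]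
        · rcases eq_or_ne p i.succ with rfl | h2''
          · simp [wU, sqU, hne.symm]
          · simp [wU, sqU, h1, h2'']
      rw [e, map_mul, map_mul, Module.End.mul_apply, Module.End.mul_apply, ih, hcv, map_smul, hcv, smul_smul]
      rcases hci with h | h <;> simp [h]
  intro i
  rcases hroot i (hη _) with h | h
  · exact Or.inl h
  · exact Or.inr fun t => Subtype.ext (h t)

end CfsgLib.OrthDeg
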