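import Mathlib
import Cfsg.Agent.Lib.OrthDeg.PlusModel
import Cfsg.Agent.Lib.OrthDeg.Engine
import Cfsg.Agent.Lib.OrthDeg.AltCount
import Cfsg.Agent.Lib.OrthDeg.Tools
import Cfsg.Agent.Lib.CharTheory.Integral
import Cfsg.Agent.Lib.QuadCount

/-! The minimal degree of the plus-type orthogonal group. -/

set_option autoImplicit false
set_option maxHeartbeats 1000000

namespace CfsgLib.OrthDeg

open Matrix CfsgLib.WittExtension CfsgLib.OmegaMin CfsgLib.SLMin CfsgLib.RadicalBound
open CfsgLib.Lagrangian (Qp Qp_apply Qp_nondeg)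

local notation "ψ" => CfsgLib.SympWeil.ψ

variable {F : Type*} [Field F] [Fintype F] [DecidableEq F]

theorem exists_unit_sq (hq : 3 < Fintype.card F) : ∃ μ : F, μ ≠ 0 ∧ μ * μ ≠ 1 := by
  by_contra h
  push Not at h
  have hsub : (Finset.univ.erase (0 : F)) ⊆ (Polynomial.nthRoots 2 (1 : F)).toFinset := fun d hd => by
    rw [Multiset.mem_toFinset, Polynomial.mem_nthRoots (by norm_num), sq]
    exact h d (Finset.ne_of_mem_erase hd)
  have h3 := (Finset.card_le_card hsub).trans ((Multiset.toFinset_card_le _).trans (Polynomial.card_nthRoots 2 1))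
  rw [Finset.card_erase_of_mem (Finset.mem_univ _), Finset.card_univ] at h3
  omega

variable {m : ℕ}

/-- The action of a transvection, entrywise. -/
theorem shear_apply (t : F) (C : Alt F (m + 3)) (i j : Fin (m + 3)) :
    (act (Matrix.transvection (0 : Fin (m + 3)) 1 t) C).1 i j =
      C.1 i j + (if j = 1 then C.1 i 0 * t else 0) + (if i = 1 then t * C.1 0 j else 0) := by
  rw [act_coe]
  simp only [Matrix.transvection, transpose_add, transpose_one, transpose_single, add_mul, mul_add, one_mul,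
    mul_one, Matrix.add_apply]
  rw [Matrix.single_mul_mul_single, alt_diag, mul_zero, zero_mul, Matrix.single_zero, Matrix.zero_apply]
  by_cases hi : i = 1 <;> by_cases hj : j = 1 <;>
    simp [hi, hj, Matrix.single_mul_apply_of_ne, Matrix.mul_single_apply_of_ne] <;> ring

theorem row0_eq {C : Alt F (m + 3)} (hC : ∀ j : Fin (m + 1), C.1 0 j.succ.succ = 0) (b : Fin (m + 3))
    (hb : b ≠ 1) : C.1 0 b = 0 := by
  revert hb
  refine Fin.cases (fun _ => alt_diag _ _) (fun b' => ?_) b
  refine Fin.cases (fun h => absurd rfl h) (fun k _ => hC k) b'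

/-- The action of a transvection on a form. -/
theorem act_shear (t : F) (C : Alt F (m + 3)) (hC : ∀ j : Fin (m + 1), C.1 0 j.succ.succ = 0) :
    act (Matrix.transvection (0 : Fin (m + 3)) 1 t) C = C := by
  refine Subtype.ext (Matrix.ext fun i j => ?_)
  rw [shear_apply]
  have hc : C.1 1 0 = -C.1 0 1 := alt_skew C 1 0
  by_cases hi : i = 1 <;> by_cases hj : j = 1
  · subst hi hj; rw [if_pos rfl, if_pos rfl, hc]; ring
  · subst hi; rw [if_neg hj, if_pos rfl, row0_eq hC j hj]; ring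
  · subst hj; rw [if_pos rfl, if_neg hi, alt_skew C i 0, row0_eq hC i hi]; ring
  · rw [if_neg hi, if_neg hj]; ring

/-- A transvection moves the forms outside its fixed space. -/
theorem act_shear_ne {t : F} (ht : t ≠ 0) (C : Alt F (m + 3)) {j : Fin (m + 1)} (hC : C.1 0 j.succ.succ ≠ 0) :
    act (Matrix.transvection (0 : Fin (m + 3)) 1 t) C ≠ C := by
  intro h
  have hj1 : j.succ.succ ≠ (1 : Fin (m + 3)) := fun h => Fin.succ_ne_zero j (Fin.succ_injective _ h)
  have e := congrArg (fun X : Alt F (m + 3) => X.1 1 j.succ.succ) h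
  simp only [shear_apply, if_neg hj1] at e
  simp [ht, hC] at e

/-- A scaling matrix fixing a form and rescaling a transvection. -/
theorem exists_scale {μ : F} (hμ0 : μ ≠ 0) (C : Alt F (m + 3))
    (hC : ∀ j : Fin (m + 1), C.1 0 j.succ.succ = 0) (hd : Dec C) :
    ∃ g : Matrix (Fin (m + 3)) (Fin (m + 3)) F, Gd g ∧ act g C = C ∧
      ∀ t, g * Matrix.transvection 0 1 t = Matrix.transvection 0 1 (μ * μ * t) * g := by
  classical
  have hrow0 : ∀ b, b ≠ 1 → C.1 0 b = 0 := row0_eq hC
  have key : ∀ (d e : F) (b : Fin (m + 2) → F), d = μ * μ * e → b 0 = 0 →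
      ∀ t, blkM d b (Matrix.diagonal (Function.update 1 0 e)) * Matrix.transvection 0 1 t =
        Matrix.transvection 0 1 (μ * μ * t) * blkM d b (Matrix.diagonal (Function.update 1 0 e)) := by
    intro d e b hde hb t
    set g := blkM d b (Matrix.diagonal (Function.update (1 : Fin (m + 2) → F) 0 e)) with hg
    have hcol : ∀ i, g i 0 = if i = 0 then d else 0 := fun i => by
      refine Fin.cases ?_ (fun i' => ?_) i
      · rw [if_pos rfl]; exact blkM_00 _ _ _
      · rw [if_neg (Fin.succ_ne_zero _)]; exact blkM_s0 _ _ _ _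
    have hr : ∀ j, g 1 j = if j = 1 then e else 0 := fun j => by
      refine Fin.cases ?_ (fun j' => ?_) j
      · rw [if_neg (by simp)]; exact blkM_s0 d b (Matrix.diagonal (Function.update (1 : Fin (m + 2) → F) 0 e)) 0
      · show g (0 : Fin (m + 2)).succ j'.succ = _
        rw [hg, blkM_ss, Matrix.diagonal_apply]
        rcases eq_or_ne j' 0 with rfl | h
        · simp
        · rw [if_neg h.symm, if_neg (show j'.succ ≠ (1 : Fin (m + 3)) from fun h' => h (Fin.succ_injective _ h'))]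
    simp only [Matrix.transvection, mul_add, add_mul, mul_one, one_mul]
    congr 1
    ext i j
    by_cases hj : j = 1 <;> by_cases hi : i = 0
    · subst hi hj; simp [hcol, hr, hde]; ring
    · subst hj; simp [hcol, hi, Matrix.single_mul_apply_of_ne]
    · subst hi; simp [hr, hj, Matrix.mul_single_apply_of_ne]
    · simp [hi, hj, Matrix.single_mul_apply_of_ne, Matrix.mul_single_apply_of_ne]
  by_cases hc : C.1 0 1 = 0
  · refine ⟨blkM (μ * μ) 0 (Matrix.diagonal (Function.update 1 0 1)), ?_, ?_, key _ 1 0 (mul_one _).symm rfl⟩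
    · have : (blkM (μ * μ) 0 (Matrix.diagonal (Function.update (1 : Fin (m + 2) → F) 0 1))).det = μ * μ := by
        rw [blkM_det, det_diagonal, Finset.prod_update_of_mem (Finset.mem_univ _)]; simp
      exact ⟨by rw [this]; exact mul_ne_zero hμ0 hμ0, by rw [this]; exact IsSquare.mul_self μ⟩
    · have hz : ∀ b, C.1 0 b = 0 := fun b => by
        by_cases hb : b = 1
        · rw [hb, hc]
        · exact hrow0 b hb
      have hz' : ∀ a, C.1 a 0 = 0 := fun a => by rw [alt_skew C a 0, hz, neg_zero]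
      have he : Function.update (1 : Fin (m + 2) → F) 0 1 = 1 := by simp
      refine Subtype.ext (Matrix.ext fun i j => ?_)
      rw [act_apply, he, Matrix.diagonal_one']
      refine Fin.cases ?_ (fun i' => ?_) i <;> refine Fin.cases ?_ (fun j' => ?_) j <;>
        simp [Fin.sum_univ_succ (n := m + 2), blkM_00, blkM_s0, blkM_0s, blkM_ss, hz, hz', Matrix.one_apply]
  · set c := C.1 0 1 with hcdef
    let b : Fin (m + 2) → F := fun j => (μ - 1) * (-(C.1 1 j.succ) / c)
    have hb : b 0 = 0 := by simp [b, alt_diag]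
    set g := blkM μ b (Matrix.diagonal (Function.update (1 : Fin (m + 2) → F) 0 μ⁻¹)) with hg
    refine ⟨g, gd_of_one ?_, ?_, key μ μ⁻¹ b (by field_simp) hb⟩
    · rw [hg, blkM_det, det_diagonal, Finset.prod_update_of_mem (Finset.mem_univ _)]; simp [hμ0]
    · have hφ : ∀ j, ∑ a, C.1 0 a * g a j = μ⁻¹ * C.1 0 j := fun j => by
        refine Fin.cases ?_ (fun j' => ?_) j
        · simp [Fin.sum_univ_succ (n := m + 2), hg, blkM_00, blkM_s0, alt_diag]
        · rw [Fin.sum_univ_succ, alt_diag, zero_mul, zero_add, Finset.sum_eq_single 0]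
          · rw [hg, blkM_ss, Matrix.diagonal_apply]
            rcases eq_or_ne j' 0 with rfl | hj
            · simp [mul_comm]
            · rw [hrow0 j'.succ (fun h => hj (Fin.succ_injective _ h))]; simp [hj.symm]
          · intro a _ ha
            rw [hrow0 a.succ (fun h => ha (Fin.succ_injective _ h)), zero_mul]
          · simp
      have hν : ∀ j, ∑ a, C.1 1 a * g a j = μ * C.1 1 j := fun j => by
        refine Fin.cases ?_ (fun j' => ?_) j
        · simp [Fin.sum_univ_succ (n := m + 2), hg, blkM_00, blkM_s0, mul_comm]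
        · rw [Fin.sum_univ_succ, alt_skew C 1 0, ← hcdef, Finset.sum_eq_single j']
          · rw [hg, blkM_0s, blkM_ss, Matrix.diagonal_apply, if_pos rfl]
            rcases eq_or_ne j' 0 with rfl | hj
            · simp [hb, alt_diag]
            · simp only [b, Function.update_apply, if_neg hj, Pi.one_apply]
              field_simp
              ring
          · intro a _ ha
            rw [hg, blkM_ss, Matrix.diagonal_apply, if_neg ha, mul_zero]
          · simp
      refine Subtype.ext (Matrix.ext fun i j => mul_left_cancel₀ hc ?_)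
      rw [act_apply, Finset.mul_sum, hd.rows 0 1 i j]
      calc ∑ a, c * ∑ x, g a i * C.1 a x * g x j
          = ∑ a, ∑ x, ((C.1 0 a * g a i) * (C.1 1 x * g x j) - (C.1 0 x * g x j) * (C.1 1 a * g a i)) :=
            Finset.sum_congr rfl fun a _ => by
              rw [Finset.mul_sum]
              refine Finset.sum_congr rfl fun x _ => ?_
              linear_combination (g a i * g x j) * hd.rows 0 1 a x
        _ = (∑ a, C.1 0 a * g a i) * (∑ x, C.1 1 x * g x j) -
            (∑ x, C.1 0 x * g x j) * (∑ a, C.1 1 a * g a i) := by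
            rw [Finset.sum_mul_sum, Finset.sum_mul_sum, Finset.sum_comm (f := fun x a => C.1 0 x * g x j * (C.1 1 a * g a i)),
              ← Finset.sum_sub_distrib]
            exact Finset.sum_congr rfl fun a _ => by rw [← Finset.sum_sub_distrib]
        _ = _ := by rw [hφ, hν, hφ, hν]; field_simp

/-- The interchange of the second and third pairs turns a transvection into a radical element. -/
theorem lq_eq_conj (t : F) (g : GL (Fin (m + 3)) F) (hg : g.1 = Matrix.transvection 0 1 t) :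
    lq g = sw {1, 2} * zq (t • unit (0 : Fin (m + 3)) 1 (by simp)) * (sw {1, 2})⁻¹ := by
  have h20 : (2 : Fin (m + 3)) ≠ 0 := Fin.ne_of_val_ne (by simp [Fin.val_two, Nat.mod_eq_of_lt])
  have h21 : (2 : Fin (m + 3)) ≠ 1 := Fin.ne_of_val_ne (by simp [Fin.val_two, Nat.mod_eq_of_lt])
  have h10 : (1 : Fin (m + 3)) ≠ 0 := by simp
  have hgi : (g⁻¹).1 = Matrix.transvection (0 : Fin (m + 3)) 1 (-t) := by
    rw [Matrix.coe_units_inv, hg]
    refine Matrix.inv_eq_right_inv ?_
    rw [Matrix.transvection_mul_transvection_same _ _ h10.symm, add_neg_cancel, Matrix.transvection_zero]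
  rw [sw_inv]
  refine iso_ext _ fun v => ?_
  funext s
  simp only [mul_app]
  rcases s with k | k
  · rw [sw_inl, lq_inl, hg]
    simp only [zq_inl, zq_inr]
    by_cases h0 : k = 0 <;> by_cases h1 : k = 1 <;> by_cases h2 : k = 2 <;>
      simp_all [Matrix.transvection, add_mulVec, sub_mulVec, unit, Matrix.single_mulVec, Pi.single_apply,
        Function.update_apply, sw_inl, sw_inr, smul_mulVec, Ne.symm]
  · rw [sw_inr, lq_inr, hgi]
    simp only [zq_inl, zq_inr]
    by_cases h0 : k = 0 <;> by_cases h1 : k = 1 <;> by_cases h2 : k = 2 <;>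
      simp_all [Matrix.transvection, add_mulVec, sub_mulVec, unit, Matrix.single_mulVec, Pi.single_apply,
        Function.update_apply, sw_inl, sw_inr, smul_mulVec, Ne.symm] <;> ring

theorem arith_orbit {q m : ℕ} (hq : 4 ≤ q) (hm : 1 ≤ m) :
    (q ^ (m + 3) - 1) * (q ^ (m + 2) + q) ≤ (q ^ (m + 2) - 1) * q ^ (m + 1) * 2 * (q ^ 2 - 1) := by
  obtain ⟨x, hx⟩ : ∃ x, x = q ^ (m + 1) := ⟨_, rfl⟩
  have hx2 : q * q ≤ x := by rw [hx, ← sq]; exact Nat.pow_le_pow_right (by omega) (by omega)
  rw [show q ^ (m + 3) = q * q * x by rw [hx]; ring, show q ^ (m + 2) = q * x by rw [hx]; ring, ← hx]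
  have hx0 : x ≠ 0 := by rw [hx]; exact pow_ne_zero _ (by omega)
  have h1 : 1 ≤ q * q * x := Nat.one_le_iff_ne_zero.2 (Nat.mul_ne_zero (Nat.mul_ne_zero (by omega) (by omega)) hx0)
  have h2 : 1 ≤ q * x := Nat.one_le_iff_ne_zero.2 (Nat.mul_ne_zero (by omega) hx0)
  have h3 : 1 ≤ q ^ 2 := Nat.one_le_pow _ _ (by omega)
  zify [h1, h2, h3]
  have e1 : (4 : ℤ) ≤ q := by exact_mod_cast hq
  have e2 : (q : ℤ) * q ≤ x := by exact_mod_cast hx2
  have k1 : (0 : ℤ) ≤ (q : ℤ) ^ 3 - 2 * q := by nlinarith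
  nlinarith [mul_le_mul_of_nonneg_left e2 k1, mul_nonneg (show (0 : ℤ) ≤ x by positivity) k1]

theorem arith_final {q x k : ℤ} (hq : 4 ≤ q) (hx : q * q ≤ x)
    (hk : (q ^ 2 - 1) * (k + 1) = (q * q * x - 1) * (q * x + q)) : (q ^ 2 - 1) * (q * x - 1) < k := by
  by_contra h
  push Not at h
  have h1 := mul_le_mul_of_nonneg_left h (show (0 : ℤ) ≤ q ^ 2 - 1 by nlinarith)
  have hq0 : (0 : ℤ) ≤ q := by linarith
  have hx0 : (0 : ℤ) ≤ x := by nlinarith
  have h16 : (16 : ℤ) ≤ x := by nlinarith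
  nlinarith [mul_le_mul_of_nonneg_left hx (mul_nonneg (pow_nonneg hq0 3) hx0),
    mul_le_mul_of_nonneg_left h16 (show (0 : ℤ) ≤ q ^ 3 - q by nlinarith), sq_nonneg (q ^ 2 - 1)]

/-- The class of a long root element in the derived group. -/
theorem class_eq (hm : 1 ≤ m) (hq : 3 < Fintype.card F) (f : Alt F (m + 3) → Om (Qp (m + 3) F))
    (hf : ∀ B, (f B).1 = zq B) :
    (((Fintype.card F : ℕ) : ℤ) ^ 2 - 1) *
      (Nat.card {y : Om (Qp (m + 3) F) // IsConj (f (unit 0 1 (by simp))) y} : ℤ) =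
    ((Fintype.card F : ℤ) * Fintype.card F * (Fintype.card F ^ (m + 1) : ℕ) - 1) *
      ((Fintype.card F ^ (m + 1) : ℕ) + 1) *
      ((Fintype.card F : ℤ) ^ 2 * (Fintype.card F ^ (m + 1) : ℕ) * (Fintype.card F ^ (m + 1) : ℕ) - 1) := by
  classical
  set q := Fintype.card F with hqdef
  set x := q ^ (m + 1) with hx
  have hQ := Qp_nondeg (F := F) (m := m + 3)
  have h01 : (0 : Fin (m + 3)) ≠ 1 := by simp
  have hd7 : 7 ≤ Module.finrank F (Fin (m + 3) ⊕ Fin (m + 3) → F) := by
    rw [Module.finrank_fintype_fun_eq_card, Fintype.card_sum, Fintype.card_fin]; omega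
  have hx0 : x ≠ 0 := pow_ne_zero _ (by omega)
  have hqx : 1 ≤ q * x := Nat.one_le_iff_ne_zero.2 (Nat.mul_ne_zero (by omega) hx0)
  have hcnt : cnt (Qp (m + 3) F) (0 : F) + q * x = q * q * q * x * x + q * q * x := by
    have e := CfsgLib.QuadCount.card_plus (F := F) (m + 3) (by omega)
    rw [show 2 * (m + 3) - 1 = (m + 1) + (m + 1) + 3 by omega, show m + 3 - 1 = m + 2 by omega, ← hqdef] at e
    have e' : cnt (Qp (m + 3) F) (0 : F) = q ^ ((m + 1) + (m + 1) + 3) + q ^ (m + 3) - q ^ (m + 2) := by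
      rw [← e, cnt]
      exact Nat.card_congr (Equiv.subtypeEquivRight fun v => by rw [Qp_apply])
    rw [e', show q ^ (m + 3) = q * q * x by rw [hx]; ring, show q ^ (m + 2) = q * x by rw [hx]; ring,
      show q ^ ((m + 1) + (m + 1) + 3) = q * q * q * x * x by rw [hx]; ring]
    have : q * x ≤ q * q * x := by rw [mul_assoc]; exact Nat.le_mul_of_pos_left _ (by omega)
    omega
  set s := (q * x - 1) * (x + 1) with hs
  have hsZ : (s : ℤ) = ((q : ℤ) * x - 1) * (x + 1) := by rw [hs]; push_cast [Nat.cast_sub hqx]; ring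
  have hdim : Module.finrank F (Fin (m + 3) ⊕ Fin (m + 3) → F) - 2 = (m + 1) + (m + 1) + 2 := by
    rw [Module.finrank_fintype_fun_eq_card, Fintype.card_sum, Fintype.card_fin]; omega
  have hs' : cnt (Qp (m + 3) F) (0 : F) = q * (s + 1) +
      (q - 1) * q ^ (Module.finrank F (Fin (m + 3) ⊕ Fin (m + 3) → F) - 2) := by
    rw [hdim, show q ^ ((m + 1) + (m + 1) + 2) = q * q * x * x by rw [hx]; ring]
    zify [show 1 ≤ q by omega] at hcnt ⊢
    rw [hsZ]; linear_combination hcnt
  have hcl := class_card hQ hd7 s hs' (root_pair h01)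
  set N := Nat.card {y : Om (Qp (m + 3) F) // IsConj (f (unit 0 1 h01)) y} with hN
  have hN' : Nat.card {y : quadIso (Qp (m + 3) F) // ∃ g ∈ Om (Qp (m + 3) F),
      g * eg (Qp (m + 3) F) (Pi.single (Sum.inl 1) 1) (Pi.single (Sum.inl 0) 1) * g⁻¹ = y} = N := by
    rw [← zq_unit_eq h01, ← hf]
    refine Nat.card_congr
      { toFun := fun y => ⟨⟨y.1, by
            obtain ⟨g, hg, e⟩ := y.2
            rw [← e]; exact mul_mem (mul_mem hg (f _).2) (inv_mem hg)⟩, by
            obtain ⟨g, hg, e⟩ := y.2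
            exact isConj_iff.2 ⟨⟨g, hg⟩, Subtype.ext e⟩⟩
        invFun := fun y => ⟨y.1.1, by
            obtain ⟨g, hg⟩ := isConj_iff.1 y.2
            exact ⟨g.1, g.2, congrArg Subtype.val hg⟩⟩
        left_inv := fun _ => rfl
        right_inv := fun _ => rfl }
  rw [hN'] at hcl
  have hsing : (Sing (Qp (m + 3) F)).ncard + 1 = cnt (Qp (m + 3) F) (0 : F) := sing_card
  have hpos : q ≤ q ^ 3 := Nat.le_self_pow (by norm_num) q
  rw [← hqdef] at hcl
  zify [hpos] at hcl hsing hcnt
  have hSing : ((Sing (Qp (m + 3) F)).ncard : ℤ) = ((q : ℤ) * q * x - 1) * (q * x + 1) := by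
    linear_combination hsing + hcnt
  rw [hSing, hsZ] at hcl
  refine mul_left_cancel₀ (show (q : ℤ) ≠ 0 by exact_mod_cast (by omega : q ≠ 0)) ?_
  linear_combination hcl

theorem dvd_of_isIntegral {k N q e : ℕ} (hk : 0 < k)
    (h : IsIntegral ℤ ((N : ℂ) * ((k : ℂ) - (q : ℂ) ^ e) / (k : ℂ))) :
    (k : ℤ) ∣ (N : ℤ) * ((k : ℤ) - (q : ℤ) ^ e) := by
  obtain ⟨j, hj⟩ := CharTheory.exists_int_of_isIntegral_ratCast
    (q := (N : ℚ) * ((k : ℚ) - (q : ℚ) ^ e) / k) (by push_cast; exact h)
  refine ⟨j, ?_⟩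
  rw [div_eq_iff (by exact_mod_cast (by omega : k ≠ 0))] at hj
  have : ((N : ℤ) * ((k : ℤ) - (q : ℤ) ^ e) : ℚ) = ((k : ℤ) * j : ℚ) := by push_cast; linarith
  exact_mod_cast this

/-- The exceptional degree is impossible. -/
theorem no_degree {q x k N : ℤ} {e : ℕ} (hq : 4 ≤ q) (hx : q * q ≤ x)
    (heq : (q ^ 2 - 1) * (k + 1) = (q * q * x - 1) * (q * x + q))
    (hclass : (q ^ 2 - 1) * N = (q * q * x - 1) * (x + 1) * (q ^ 2 * x * x - 1))
    (hint : k ∣ N * (k - q ^ e)) : False := by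
  have hC : q * N = (k + 1) * (q ^ 2 * x * x - 1) := by
    refine mul_left_cancel₀ (show q ^ 2 - 1 ≠ 0 by nlinarith) ?_
    linear_combination q * hclass - (q ^ 2 * x * x - 1) * heq
  have hcop : IsCoprime k q := by
    obtain ⟨j, hj⟩ : q ∣ k + 1 := ⟨q * (k + 1) - (q * q * x - 1) * (x + 1), by linear_combination -heq⟩
    exact ⟨-1, j, by linear_combination -hj⟩
  have h1 : k ∣ q ^ 2 * x * x - 1 := by
    have ha : k ∣ q * N * q ^ e := by
      have := (dvd_mul_left k N).sub hint
      rw [show N * k - N * (k - q ^ e) = N * q ^ e by ring] at this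
      rw [mul_assoc]; exact this.mul_left _
    have hb : k ∣ q * N := (hcop.pow_right).dvd_of_dvd_mul_right ha
    rw [hC] at hb
    have := hb.sub (dvd_mul_right k (q ^ 2 * x * x - 1))
    rwa [show (k + 1) * (q ^ 2 * x * x - 1) - k * (q ^ 2 * x * x - 1) = q ^ 2 * x * x - 1 by ring] at this
  have h2 : k ∣ (q ^ 2 - 1) * (q * x - 1) := by
    have h := h1.mul_left q
    rw [show q * (q ^ 2 * x * x - 1) = (q ^ 2 - 1) * (k + 1) - q * (q ^ 2 - 1) * x by
      linear_combination -heq] at h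
    have h' := (dvd_mul_left k (q ^ 2 - 1)).sub h
    rwa [show (q ^ 2 - 1) * k - ((q ^ 2 - 1) * (k + 1) - q * (q ^ 2 - 1) * x) = (q ^ 2 - 1) * (q * x - 1) by
      ring] at h'
  have hpos : (0 : ℤ) < (q ^ 2 - 1) * (q * x - 1) := mul_pos (by nlinarith) (by nlinarith)
  exact absurd (Int.le_of_dvd hpos h2) (not_le.2 (arith_final hq hx heq))

variable (hm : 1 ≤ m) (hq : 3 < Fintype.card F)
include hm hq

/-- The bound for the derived group. -/
theorem plus_bound (k : ℕ) (ρ : Representation ℂ (Om (Qp (m + 3) F)) (Fin k → ℂ)) (hirr : ρ.IsIrreducible)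
    (hk : 2 ≤ k) :
    (Fintype.card F ^ (m + 3) - 1) * (Fintype.card F ^ (m + 2) + Fintype.card F) / (Fintype.card F ^ 2 - 1) ≤ k := by
  classical
  haveI := hirr
  set q := Fintype.card F with hqdef
  by_contra hlt
  rw [not_le] at hlt
  obtain ⟨μ, hμ0, hμ⟩ := exists_unit_sq hq
  have hn : 3 ≤ m + 3 := by omega
  have hQ := Qp_nondeg (F := F) (m := m + 3)
  have hd7 : 7 ≤ Module.finrank F (Fin (m + 3) ⊕ Fin (m + 3) → F) := by
    rw [Module.finrank_fintype_fun_eq_card, Fintype.card_sum, Fintype.card_fin]; omega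
  haveI : Fintype (Alt F (m + 3)) := Fintype.ofFinite _
  let f : Alt F (m + 3) → Om (Qp (m + 3) F) := fun B => ⟨zq B, zq_mem hμ hμ0 B⟩
  have hf : ∀ A B, f (A + B) = f A * f B := fun A B => Subtype.ext (zq_add A B)
  have hL : ∀ g : Matrix (Fin (m + 3)) (Fin (m + 3)) F, Gd g → ∃ (l : Om (Qp (m + 3) F))
      (c : Alt F (m + 3) ≃+ Alt F (m + 3)), (∀ B, c B = act gᵀ B) ∧ (∀ B, l * f B = f (c B) * l) ∧
        ∃ u : GL (Fin (m + 3)) F, u.1 = g ∧ l.1 = lq u := by
    intro g hg
    let u : GL (Fin (m + 3)) F := Matrix.GeneralLinearGroup.mkOfDetNeZero g hg.1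
    let c : Alt F (m + 3) ≃+ Alt F (m + 3) := AddEquiv.ofBijective (act gᵀ).toAddMonoidHom
      (Finite.injective_iff_bijective.1 (act_injective (by rw [det_transpose]; exact hg.1)))
    exact ⟨⟨lq u, lq_mem hn (show IsSquare u.1.det from hg.2)⟩, c, fun B => rfl,
      fun B => Subtype.ext (lq_zq u B), u, rfl, rfl⟩
  have hchi : ∀ (g : Matrix (Fin (m + 3)) (Fin (m + 3)) F) (c : Alt F (m + 3) ≃+ Alt F (m + 3)),
      (∀ B, c B = act gᵀ B) → ∀ C S, chi C (c S) = chi (act g C) S := fun g c hc C S => by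
    rw [hc, chi_apply, chi_apply, pair_act]
  set μC : Alt F (m + 3) → ℕ := fun C => mult f ρ (chi C) with hμC
  have hinv : ∀ g, Gd g → ∀ C, μC (act g C) = μC C := fun g hg C => by
    obtain ⟨l, c, hc, hlc, -⟩ := hL g hg
    exact mult_conj f ρ hf l c hlc _ _ fun S => hchi g c hc C S
  let eχ : Alt F (m + 3) ≃ AddChar (Alt F (m + 3)) ℂ := Equiv.ofBijective chi chi_bijective
  have hsum : ∑ C, μC C = k := by
    rw [← sum_mult f ρ hf]; exact eχ.sum_comp fun χ => mult f ρ χ
  have hq2 : 0 < q ^ 2 - 1 := by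
    have : 2 ^ 2 ≤ q ^ 2 := Nat.pow_le_pow_left (by omega) 2
    omega
  have hT : ∀ a, (q ^ (m + 3) - 1) * (q ^ (m + 2) + q) ≤ a * (q ^ 2 - 1) →
      (q ^ (m + 3) - 1) * (q ^ (m + 2) + q) / (q ^ 2 - 1) ≤ a := fun a h => Nat.div_le_of_le_mul (by linarith)
  -- indecomposable forms do not occur
  have hnd : ∀ C, ¬ Dec C → μC C = 0 := by
    intro C hC
    by_contra h0
    obtain ⟨S, hS, hmem⟩ := big_orbit hC hμ hμ0
    have : S.card ≤ k := by
      rw [← hsum, Finset.card_eq_sum_ones]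
      refine le_trans (Finset.sum_le_sum fun C' hC' => ?_) (Finset.sum_le_sum_of_subset (Finset.subset_univ S))
      obtain ⟨-, g, hg, rfl⟩ := hmem C' hC'
      rw [hinv g hg]; exact Nat.one_le_iff_ne_zero.2 h0
    have := hT S.card (by rw [hS]; exact arith_orbit (by omega) hm)
    omega
  -- decomposable forms occur with one multiplicity
  have hO2 : ∀ C ∈ O2 F (m + 3), μC C = μC (base F m) := fun C hC => by
    obtain ⟨h0, hd⟩ := mem_O2.1 hC
    obtain ⟨g, hg, e⟩ := exists_to_base h0 hd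
    rw [← hinv g (gd_of_one hg) C, e]
  have hsplit : ∀ {R : Type} [AddCommMonoid R] (w : Alt F (m + 3) → R), (∀ C, ¬ Dec C → w C = 0) →
      ∑ C, w C = w 0 + ∑ C ∈ O2 F (m + 3), w C := by
    intro R _ w hw
    rw [← Finset.sum_insert (fun h => (mem_O2.1 h).1 rfl)]
    refine (Finset.sum_subset (Finset.subset_univ _) fun C _ hC => hw C fun hd => hC ?_).symm
    by_cases h0 : C = 0
    · simp [h0]
    · exact Finset.mem_insert_of_mem (mem_O2.2 ⟨h0, hd⟩)
  have hk1 : k = μC 0 + μC (base F m) * (O2 F (m + 3)).card := by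
    rw [← hsum, hsplit μC hnd, Finset.sum_congr rfl hO2, Finset.sum_const, smul_eq_mul, mul_comm]
  -- the radical acts non-trivially
  have h01 : (0 : Fin (m + 3)) ≠ 1 := by simp
  set z : Alt F (m + 3) := unit 0 1 h01 with hz
  have hnt : ρ (f z) ≠ 1 := by
    intro h1
    let K : Subgroup (Om (Qp (m + 3) F)) :=
      { carrier := {g | ρ g = 1}
        mul_mem' := fun {a b} ha hb => by
          show ρ (a * b) = 1
          rw [map_mul, show ρ a = 1 from ha, show ρ b = 1 from hb, one_mul]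
        one_mem' := map_one ρ
        inv_mem' := fun {a} ha => by
          show ρ a⁻¹ = 1
          calc ρ a⁻¹ = ρ a⁻¹ * ρ a := by rw [show ρ a = 1 from ha, mul_one]
            _ = 1 := by rw [← map_mul, inv_mul_cancel, map_one] }
    have hle : Om (Qp (m + 3) F) ≤ K.map (Om (Qp (m + 3) F)).subtype := by
      refine om_le_of_root hQ hd7 (fun g hg x hx => ?_) (root_pair h01) ⟨f z, h1, zq_unit_eq h01⟩
      obtain ⟨y, hy, rfl⟩ := hx
      refine ⟨⟨g, hg⟩ * y * ⟨g, hg⟩⁻¹, ?_, rfl⟩
      show ρ (_ * _ * _) = 1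
      rw [map_mul, map_mul, show ρ y = 1 from hy, mul_one, ← map_mul, mul_inv_cancel, map_one]
    have hall : ∀ g, ρ g = 1 := fun g => by
      obtain ⟨y, hy, e⟩ := hle g.2
      rw [← Subtype.ext e]; exact hy
    haveI : IsSimpleOrder (Subrepresentation ρ) := hirr
    let w : Fin k → ℂ := Pi.single ⟨0, by omega⟩ 1
    let U : Subrepresentation ρ := ⟨ℂ ∙ w, fun g x hx => by rw [hall g]; exact hx⟩
    have hw : w ≠ 0 := fun h => by simpa [w] using congrFun h ⟨0, by omega⟩
    rcases IsSimpleOrder.eq_bot_or_eq_top U with hU | hU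
    · exact hw (Submodule.span_singleton_eq_bot.1 (congrArg Subrepresentation.toSubmodule hU))
    · have e : (ℂ ∙ w) = ⊤ := congrArg Subrepresentation.toSubmodule hU
      have := finrank_span_singleton (K := ℂ) hw
      rw [e, finrank_top, Module.finrank_fintype_fun_eq_card, Fintype.card_fin] at this
      omega
  have hb1 : μC (base F m) = 1 := by
    have hne : μC (base F m) ≠ 0 := fun h0 => by
      apply hnt
      rw [rho_eq f ρ hf, ← sum_proj f ρ hf]
      refine Finset.sum_congr rfl fun χ _ => ?_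
      obtain ⟨C, rfl⟩ := eχ.surjective χ
      show chi C z • proj f ρ (chi C) = proj f ρ (chi C)
      by_cases hC : C = 0
      · rw [hC, chi_zero, AddChar.one_apply, one_smul]
      · have : μC C = 0 := by
          by_cases hd : Dec C
          · rw [hO2 C (mem_O2.2 ⟨hC, hd⟩), h0]
          · exact hnd C hd
        rw [LinearMap.range_eq_bot.1 (Submodule.finrank_eq_zero.1 this), smul_zero]
    by_contra hne1
    have h2 : 2 * (O2 F (m + 3)).card ≤ k := by
      rw [hk1]
      exact le_add_left (Nat.mul_le_mul_right _ (by omega))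
    have hc := card_O2_ge (F := F) (m + 1)
    rw [show m + 1 + 2 = m + 3 by omega, show m + 1 + 1 = m + 2 by omega, ← hqdef] at hc
    have hx : q + 2 ≤ q ^ (m + 2) := by
      calc q + 2 ≤ q * q := by nlinarith
        _ = q ^ 2 := (sq q).symm
        _ ≤ _ := Nat.pow_le_pow_right (by omega) (by omega)
    have := hT (2 * (O2 F (m + 3)).card) (le_trans
      (Nat.mul_le_mul_left _ (show q ^ (m + 2) + q ≤ 2 * (q ^ (m + 2) - 1) by omega))
      (by
        calc (q ^ (m + 3) - 1) * (2 * (q ^ (m + 2) - 1)) = 2 * ((q ^ (m + 3) - 1) * (q ^ (m + 2) - 1)) := by ring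
          _ ≤ 2 * ((q ^ 2 - 1) * (O2 F (m + 3)).card) := Nat.mul_le_mul_left _ hc
          _ = _ := by ring))
    omega
  rw [hb1, one_mul] at hk1
  -- the trace of a long root element
  set tr := LinearMap.trace ℂ (Fin k → ℂ)
  have htrz : tr (ρ (f z)) = (k : ℂ) - (q : ℂ) ^ (2 * m + 3) := by
    rw [trace_rho f ρ hf, ← eχ.sum_comp fun χ => χ z * (mult f ρ χ : ℂ)]
    show ∑ C, chi C z * (μC C : ℂ) = _
    rw [hsplit _ (fun C hC => by rw [hnd C hC]; simp), chi_zero, AddChar.one_apply, one_mul]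
    have hzC : ∀ C : Alt F (m + 3), chi C z = (ψ : AddChar F ℂ) (1 * C.1 0 1) := fun C => by
      rw [chi_apply, hz, ← one_smul F (unit (0 : Fin (m + 3)) 1 h01), pair_smul_unit C Fin.one_pos]
    have := sum_O2 (F := F) (m := m) one_ne_zero
    rw [Finset.sum_sub_distrib, Finset.sum_const, nsmul_eq_mul, mul_one, ← hqdef] at this
    rw [Finset.sum_congr rfl fun C hC => (by rw [hO2 C hC, hb1, hzC, Nat.cast_one, mul_one] :
      chi C z * (μC C : ℂ) = (ψ : AddChar F ℂ) (1 * C.1 0 1))]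
    have hkC : (k : ℂ) = μC 0 + (O2 F (m + 3)).card := by exact_mod_cast hk1
    linear_combination -this - hkC
  -- the transvections
  have hxd : ∀ t : F, (Matrix.transvection (0 : Fin (m + 3)) 1 t).det = 1 := fun t =>
    Matrix.det_transvection_of_ne 0 1 h01 t
  choose xl xc hxc hxl xu hxu hxle using fun t : F => hL _ (gd_of_one (hxd t))
  have hxadd : ∀ s t, xl (s + t) = xl s * xl t := fun s t => Subtype.ext (by
    rw [Subgroup.coe_mul, hxle, hxle, hxle, ← lq_mul]
    congr 1
    exact Units.ext (by rw [Units.val_mul, hxu, hxu, hxu, Matrix.transvection_mul_transvection_same _ _ h01]))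
  have htrx : tr (ρ (xl 1)) = (k : ℂ) - (q : ℂ) ^ (2 * m + 3) := by
    rw [← htrz]
    have e : xl 1 = ⟨sw {1, 2}, sw_pair_mem (Fin.ne_of_val_ne (by simp [Fin.val_two, Nat.mod_eq_of_lt]))⟩ * f z *
        (⟨sw {1, 2}, sw_pair_mem (Fin.ne_of_val_ne (by simp [Fin.val_two, Nat.mod_eq_of_lt]))⟩)⁻¹ := by
      refine Subtype.ext ?_
      rw [hxle, lq_eq_conj 1 (xu 1) (hxu 1), one_smul]
      rfl
    rw [e, map_mul, LinearMap.trace_mul_comm, ← map_mul, ← mul_assoc, inv_mul_cancel, one_mul]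
  -- fixed decomposable forms are fixed with trivial scalar
  have hfixed : ∀ C ∈ O2 F (m + 3), (∀ j : Fin (m + 1), C.1 0 j.succ.succ = 0) →
      ∀ t, ρ (xl t) * proj f ρ (chi C) = proj f ρ (chi C) := by
    intro C hC hfix t
    obtain ⟨g, hg, hgC, hgx⟩ := exists_scale hμ0 C hfix (mem_O2.1 hC).2
    obtain ⟨h, d, hd, hhd, u, hu, hhu⟩ := hL g hg
    refine fix_of_scaled f ρ hf xl hxadd (fun s => μ * μ * s) ?_ xc hxl h d hhd ?_ (chi C) ?_ ?_ ?_ t
    · intro s
      refine ⟨(μ * μ - 1)⁻¹ * s, ?_⟩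
      show μ * μ * ((μ * μ - 1)⁻¹ * s) - (μ * μ - 1)⁻¹ * s = s
      rw [← sub_one_mul, ← mul_assoc, mul_inv_cancel₀ (sub_ne_zero.2 hμ), one_mul]
    · intro s
      refine Subtype.ext ?_
      rw [Subgroup.coe_mul, Subgroup.coe_mul, hxle, hxle, hhu, ← lq_mul, ← lq_mul]
      congr 1
      exact Units.ext (by rw [Units.val_mul, Units.val_mul, hxu, hxu, hu, hgx])
    · intro s S; rw [hchi _ _ (hxc s), act_shear s C hfix]
    · intro S; rw [hchi _ _ hd, hgC]
    · show μC C = 1
      rw [hO2 C hC, hb1]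
  -- the fixed space of the radical is a non-trivial module of the Levi subgroup
  have hD : ρ (xl 1) * proj f ρ (chi 0) ≠ proj f ρ (chi 0) := by
    intro h0
    set Mv := (O2 F (m + 3)).filter fun C => ∃ j : Fin (m + 1), C.1 0 j.succ.succ ≠ 0
    have e : tr (ρ (xl 1)) = (μC 0 : ℂ) + ((O2 F (m + 3)).card - Mv.card : ℂ) := by
      rw [← mul_one (ρ (xl 1)), ← sum_proj f ρ hf, Finset.mul_sum, map_sum,
        ← eχ.sum_comp fun χ => tr (ρ (xl 1) * proj f ρ χ)]
      show ∑ C, tr (ρ (xl 1) * proj f ρ (chi C)) = _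
      rw [hsplit _ (fun C hC => by
        rw [LinearMap.range_eq_bot.1 (Submodule.finrank_eq_zero.1 (hnd C hC)), mul_zero, map_zero]), h0,
        trace_proj f ρ hf]
      congr 1
      rw [← Finset.sum_filter_add_sum_filter_not (O2 F (m + 3)) (fun C => ∃ j : Fin (m + 1), C.1 0 j.succ.succ ≠ 0),
        Finset.sum_eq_zero, zero_add, Finset.sum_congr rfl, Finset.sum_const, nsmul_eq_mul, mul_one,
        ← Finset.card_filter_add_card_filter_not (s := O2 F (m + 3)) (fun C => ∃ j : Fin (m + 1), C.1 0 j.succ.succ ≠ 0)]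
      · push_cast; ring
      · intro C hC
        obtain ⟨hC, hfix⟩ := Finset.mem_filter.1 hC
        push Not at hfix
        rw [hfixed C hC hfix, trace_proj f ρ hf]
        show ((μC C : ℕ) : ℂ) = 1
        rw [hO2 C hC, hb1, Nat.cast_one]
      · intro C hC
        obtain ⟨hC, j, hj⟩ := Finset.mem_filter.1 hC
        set C' := act (Matrix.transvection (0 : Fin (m + 3)) 1 1) C with hC'
        have hne : chi C' ≠ chi C := fun h => act_shear_ne one_ne_zero C hj (chi_bijective.1 h)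
        have ec : ρ (xl 1) * proj f ρ (chi C') = proj f ρ (chi C) * ρ (xl 1) :=
          proj_conj f ρ (xl 1) (xc 1) (hxl 1) _ _ fun S => hchi _ _ (hxc 1) C S
        rw [← idem f ρ hf (chi C), ← mul_assoc, LinearMap.trace_mul_comm, ← mul_assoc, ← ec, mul_assoc,
          proj_mul f ρ hf, if_neg hne, mul_zero, map_zero]
    rw [htrx] at e
    have hkC : (k : ℂ) = μC 0 + (O2 F (m + 3)).card := by exact_mod_cast hk1
    have : (Mv.card : ℂ) = ((q ^ (2 * m + 3) : ℕ) : ℂ) := by
      push_cast; linear_combination e - hkC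
    exact absurd (Nat.cast_injective this) (moved_lt (F := F) (m := m)).ne
  have hDk : gs q (m + 3) - 1 ≤ μC 0 := by
    set P := proj f ρ (chi (0 : Alt F (m + 3)))
    have hsl : ∀ g : Matrix.SpecialLinearGroup (Fin (m + 3)) F, lq (Matrix.SpecialLinearGroup.toGL g) ∈ Om (Qp (m + 3) F) :=
      fun g => lq_mem hn (show IsSquare g.1.det by rw [g.2]; exact IsSquare.one)
    let φ : Matrix.SpecialLinearGroup (Fin (m + 3)) F →* Om (Qp (m + 3) F) :=
      (lqHom.comp Matrix.SpecialLinearGroup.toGL).codRestrict _ hsl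
    have hcomm : ∀ g, ρ (φ g) * P = P * ρ (φ g) := fun g => by
      obtain ⟨l, c, hc, hlc, u, hu, hlu⟩ := hL g.1 (gd_of_one g.2)
      have e : φ g = l := Subtype.ext (by
        rw [hlu]; show lq _ = lq u
        congr 1; exact Units.ext hu.symm)
      rw [e]
      exact proj_comm f ρ hf l c hlc _ fun S => by rw [hchi _ _ hc, map_zero]
    have hrange : ∀ g, ∀ x ∈ LinearMap.range P, ρ (φ g) x ∈ LinearMap.range P := fun g x hx => by
      obtain ⟨y, rfl⟩ := hx
      exact ⟨ρ (φ g) y, (LinearMap.congr_fun (hcomm g) y).symm⟩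
    let τ : Representation ℂ (Matrix.SpecialLinearGroup (Fin (m + 3)) F) (LinearMap.range P) :=
      { toFun := fun g => (ρ (φ g)).restrict (hrange g)
        map_one' := LinearMap.ext fun x => Subtype.ext (by
          show ρ (φ 1) x.1 = x.1
          rw [map_one, map_one]; rfl)
        map_mul' := fun g h => LinearMap.ext fun x => Subtype.ext (by
          show ρ (φ (g * h)) x.1 = ρ (φ g) (ρ (φ h) x.1)
          rw [map_mul, map_mul]; rfl) }
    let g1 : Matrix.SpecialLinearGroup (Fin (m + 3)) F := ⟨Matrix.transvection 0 1 1, hxd 1⟩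
    have hg1 : φ g1 = xl 1 := Subtype.ext (by
      rw [hxle]; show lq _ = _
      congr 1; exact Units.ext (hxu 1).symm)
    have hτ : τ g1 ≠ 1 := fun h => hD (LinearMap.ext fun y => by
      rw [← hg1]
      exact congrArg Subtype.val (LinearMap.congr_fun h ⟨P y, LinearMap.mem_range_self _ y⟩))
    obtain ⟨U, _, _, _, hU, σ, hσ, hσf, hUle⟩ := exists_irr_of_nontrivial τ hτ
    have := irr_bound F (m + 2) (by omega) ⟨fun h => by omega, fun h => ⟨by omega, by omega⟩⟩ U σ hσ hσf
    exact this.trans hUle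
  -- the degree is one less than the bound
  have hxle' : 1 ≤ q ^ (m + 3) := Nat.one_le_pow _ _ (by omega)
  have hxle2 : 1 ≤ q ^ (m + 2) := Nat.one_le_pow _ _ (by omega)
  have hq21 : 1 ≤ q ^ 2 := Nat.one_le_pow _ _ (by omega)
  have heq : ((q : ℤ) ^ 2 - 1) * ((k : ℤ) + 1) = ((q : ℤ) ^ (m + 3) - 1) * ((q : ℤ) ^ (m + 2) + q) := by
    have hc := card_O2_ge (F := F) (m + 1)
    rw [show m + 1 + 2 = m + 3 by omega, show m + 1 + 1 = m + 2 by omega, ← hqdef] at hc
    have hgs := gs_geom (q := q) (by omega) (m + 3)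
    have h1 : (k + 1) * (q ^ 2 - 1) ≤ (q ^ (m + 3) - 1) * (q ^ (m + 2) + q) :=
      le_trans (Nat.mul_le_mul_right _ (by omega)) (Nat.div_mul_le_self _ _)
    zify [hxle', hxle2, hq21] at hc h1
    have hgs' : ((q : ℤ) - 1) * gs q (m + 3) + 1 = (q : ℤ) ^ (m + 3) := by
      have := congrArg (fun a : ℕ => (a : ℤ)) hgs
      push_cast [Nat.cast_sub (show 1 ≤ q by omega)] at this
      exact this
    have hkZ : (k : ℤ) = μC 0 + (O2 F (m + 3)).card := by exact_mod_cast hk1
    have hDZ : (gs q (m + 3) : ℤ) - 1 ≤ μC 0 := by omega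
    have hp : (0 : ℤ) ≤ (q : ℤ) ^ 2 - 1 := by nlinarith
    refine le_antisymm (by linarith) ?_
    have e1 : ((q : ℤ) ^ 2 - 1) * gs q (m + 3) = ((q : ℤ) + 1) * ((q : ℤ) ^ (m + 3) - 1) := by
      linear_combination ((q : ℤ) + 1) * hgs'
    nlinarith [mul_le_mul_of_nonneg_left hDZ hp]
  set x := q ^ (m + 1) with hx
  have e3 : q ^ (m + 3) = q * q * x := by rw [hx]; ring
  have e2 : q ^ (m + 2) = q * x := by rw [hx]; ring
  rw [show (q : ℤ) ^ (m + 3) = (q : ℤ) * q * x by exact_mod_cast e3,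
    show (q : ℤ) ^ (m + 2) = (q : ℤ) * x by exact_mod_cast e2] at heq
  have hclass := class_eq (m := m) (F := F) hm hq f fun B => rfl
  rw [← hqdef, ← hx, ← hz] at hclass
  refine no_degree (e := 2 * m + 3) (by exact_mod_cast hq) ?_ heq hclass ?_
  · rw [hx, ← sq]; exact_mod_cast Nat.pow_le_pow_right (show 1 ≤ q by omega) (show 2 ≤ m + 1 by omega)
  · have h := CharTheory.isIntegral_centralChar ρ (f z)
    rw [Module.finrank_fintype_fun_eq_card, Fintype.card_fin,
      show ρ.character (f z) = (k : ℂ) - (q : ℂ) ^ (2 * m + 3) from htrz] at h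
    exact dvd_of_isIntegral (by omega) h

end CfsgLib.OrthDeg
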