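import Mathlib
import Cfsg.Prelude.Def_Classical
import Cfsg.Agent.Lib.OmegaMin.Basic
import Cfsg.Agent.Lib.SpinorMatrix

/-! From matrices to isometries. -/

set_option autoImplicit false

namespace CfsgLib.OrthDeg

open CfsgLib.WittExtension CfsgLib.OmegaMin

/-- A degree bound for the derived group of the isometries transfers to the matrix group. -/
theorem degree_transfer {F : Type*} [Field F] [Fintype F] {ι : Type} [Fintype ι] [DecidableEq ι]
    (Q : QuadraticForm F (ι → F)) (f : (ι → F) → F) (hf : ∀ v, f v = Q v) (M : ℕ)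
    (hb : ∀ (k : ℕ) (ρ : Representation ℂ (Om Q) (Fin k → ℂ)), ρ.IsIrreducible → 2 ≤ k → M ≤ k)
    (k : ℕ) (ρ : Representation ℂ (Cfsg.Omega F f) (Fin k → ℂ)) (hirr : ρ.IsIrreducible) (hk : 2 ≤ k) :
    M ≤ k := by
  obtain rfl : f = ⇑Q := funext hf
  let e := CfsgLib.SpinorMatrix.isoEquiv Q
  have hmap : (Cfsg.Omega F ⇑Q).map e.toMonoidHom = Om Q := by
    rw [Om, show Cfsg.Omega F ⇑Q = commutator _ from rfl, _root_.commutator_def, _root_.commutator_def,
      Subgroup.map_commutator, Subgroup.map_top_of_surjective _ e.surjective]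
  let e' : ↥(Cfsg.Omega F ⇑Q) ≃* ↥(Om Q) := (e.subgroupMap _).trans (MulEquiv.subgroupCongr hmap)
  let σ : Representation ℂ (Om Q) (Fin k → ℂ) := ρ.comp e'.symm.toMonoidHom
  haveI : IsSimpleOrder (Subrepresentation ρ) := hirr
  refine hb k σ ?_ hk
  refine { exists_pair_ne := ⟨⊥, ⊤, fun h => ?_⟩, eq_bot_or_eq_top := fun S => ?_ }
  · exact bot_ne_top (α := Subrepresentation ρ)
      (Subrepresentation.toSubmodule_injective (congrArg Subrepresentation.toSubmodule h :))
  · let S' : Subrepresentation ρ := ⟨S.toSubmodule, fun g v hv => by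
      have h := S.apply_mem_toSubmodule (e' g) hv
      simpa [σ] using h⟩
    rcases IsSimpleOrder.eq_bot_or_eq_top S' with h | h
    · exact Or.inl (Subrepresentation.toSubmodule_injective (congrArg Subrepresentation.toSubmodule h :))
    · exact Or.inr (Subrepresentation.toSubmodule_injective (congrArg Subrepresentation.toSubmodule h :))

end CfsgLib.OrthDeg
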